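/-
helper68: the "GAMMA case" of Bender–Glauberman Theorem 9.5 (statement S1402): if `A ∈ SCN_3(P)`
and every maximal subgroup containing `C_G(A)` has a Fitting subgroup of rank at most two, then
`A` lies in a unique maximal subgroup.  Blueprint by helper1.  Namespace `Cfsg.Agent.Helper68`.
-/
import Mathlib
import Cfsg.Agent.Helper23.Uniq4
import Cfsg.Agent.Helper22.Generation
import Cfsg.Agent.S1451
import Cfsg.Agent.S1398
import Cfsg.Agent.S1399

set_option autoImplicit false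
set_option linter.style.haveILetI false

namespace Cfsg.Agent.Helper68

open Cfsg Subgroup Cfsg.Agent.Helper23 Cfsg.Agent.Helper35
open scoped Pointwise

universe u

section BG95Gamma

/-- `PRankLE` passes to the source of an injective homomorphism. -/
theorem bg95g_pRankLE_of_injective {p k : ℕ} {H K : Type*} [Group H] [Group K] (f : K →* H)
    (hf : Function.Injective f) (h : PRankLE p k H) : PRankLE p k K := by
  intro A hAc hAe
  have h1 := h (A.map f) ?_ ?_
  · rwa [Subgroup.card_map_of_injective hf] at h1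
  · refine ⟨⟨fun x y => Subtype.ext ?_⟩⟩
    obtain ⟨x', hx', hx⟩ := x.2
    obtain ⟨y', hy', hy⟩ := y.2
    have h1 : (⟨x', hx'⟩ : ↥A) * ⟨y', hy'⟩ = ⟨y', hy'⟩ * ⟨x', hx'⟩ := hAc.is_comm.comm _ _
    have h2 : x' * y' = y' * x' := congrArg Subtype.val h1
    show (x : H) * (y : H) = (y : H) * (x : H)
    rw [← hx, ← hy, ← map_mul, ← map_mul, h2]
  · rintro _ ⟨x, hx, rfl⟩
    rw [← map_pow, hAe x hx, map_one]

/-- A nontrivial solvable group of odd order whose Fitting subgroup has rank at most two has a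
normal Sylow subgroup for its largest prime divisor. -/
theorem bg95g_top_sylow {M : Type u} [Group M] [Finite M] [Group.IsSolvable M]
    (hodd : Odd (Nat.card M)) (hr : RankLE 2 ↥(fittingSubgroup M)) (h1 : Nat.card M ≠ 1) :
    ∃ (q : ℕ) (N : Subgroup M), q.Prime ∧ q ∣ Nat.card M ∧
      (∀ r : ℕ, r.Prime → r ∣ Nat.card M → r ≤ q) ∧ N.Normal ∧ IsPGroup q N ∧ ¬ q ∣ N.index := by
  have hne : (Nat.card M).primeFactors.Nonempty := by
    obtain ⟨q, hq, hqd⟩ := Nat.exists_prime_and_dvd h1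
    exact ⟨q, Nat.mem_primeFactors.mpr ⟨hq, hqd, Nat.card_pos.ne'⟩⟩
  obtain ⟨q, hqmem, hqmax⟩ := Finset.exists_max_image (Nat.card M).primeFactors id hne
  obtain ⟨hq, hqd, -⟩ := Nat.mem_primeFactors.mp hqmem
  have hmax : ∀ r : ℕ, r.Prime → r ∣ Nat.card M → r ≤ q := fun r hr hrd =>
    hqmax r (Nat.mem_primeFactors.mpr ⟨hr, hrd, Nat.card_pos.ne'⟩)
  obtain ⟨N, hNchar, hNhall⟩ := (Cfsg.Agent.S1451.result hodd (Or.inr hr)).2.2 (q - 1)
  haveI := hNchar
  refine ⟨q, N, hq, hqd, hmax, inferInstance, ?_, ?_⟩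
  · apply IsPGroup.of_card (n := (Nat.card N).primeFactorsList.length)
    refine Nat.eq_prime_pow_of_unique_prime_dvd Nat.card_pos.ne' (fun {d} hd hdN => ?_)
    have h2 := (hNhall.1 d hd hdN).2
    have h3 := hmax d hd (hdN.trans (Subgroup.card_subgroup_dvd_card N))
    omega
  · exact hNhall.2 q hq ⟨hq, by have := hq.two_le; omega⟩

variable {G : Type u} [Group G] [Finite G]

/-- The datum of a maximal subgroup `M` of a minimal simple group of odd order with
`r(F(M)) ≤ 2`: the normal Sylow subgroup for the largest prime divisor of `|M|`. -/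
theorem bg95g_datum (hG : IsMinSimpleOddOrder G) {M : Subgroup G} (hM : IsCoatom M)
    (hM1 : M ≠ ⊥) (hr : ∀ s : ℕ, s.Prime → PRankLE s 2 ↥(fittingOf M)) :
    ∃ (q : ℕ) (S : Subgroup G), q.Prime ∧ q ∣ Nat.card M ∧
      (∀ r : ℕ, r.Prime → r ∣ Nat.card M → r ≤ q) ∧ S ≤ M ∧ S ≠ ⊥ ∧ IsPGroup q S ∧
      normalizer (S : Set G) = M ∧ (∀ R : Subgroup G, R ≤ M → IsPGroup q R → R ≤ S) ∧
      S ≤ fittingOf M := by
  haveI := uq_isSolvable hG hM.1
  have hodd := uq_odd hG M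
  have hrF : RankLE 2 ↥(fittingSubgroup ↥M) := by
    intro s hs
    exact bg95g_pRankLE_of_injective
      ((fittingSubgroup ↥M).equivMapOfInjective M.subtype M.subtype_injective).toMonoidHom
      ((fittingSubgroup ↥M).equivMapOfInjective M.subtype M.subtype_injective).injective (hr s hs)
  have hc1 : Nat.card ↥M ≠ 1 := fun h => hM1 (Subgroup.card_eq_one.mp h)
  obtain ⟨q, N, hq, hqd, hmax, hNn, hNq, hNi⟩ := bg95g_top_sylow hodd hrF hc1
  haveI := Fact.mk hq
  have hSM : N.map M.subtype ≤ M := Subgroup.map_subtype_le _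
  have hSq : IsPGroup q ↥(N.map M.subtype) := hNq.map _
  have hMn : M ≤ normalizer ((N.map M.subtype : Subgroup G) : Set G) := by
    intro x hx
    rw [Subgroup.mem_normalizer_iff]
    intro y
    constructor
    · rintro ⟨z, hz, rfl⟩
      exact ⟨⟨x, hx⟩ * z * ⟨x, hx⟩⁻¹, hNn.conj_mem z hz ⟨x, hx⟩, rfl⟩
    · rintro ⟨z, hz, hzy⟩
      have h2 : (⟨x, hx⟩ : ↥M)⁻¹ * z * (⟨x, hx⟩ : ↥M)⁻¹⁻¹ ∈ N := hNn.conj_mem z hz _
      refine ⟨(⟨x, hx⟩ : ↥M)⁻¹ * z * (⟨x, hx⟩ : ↥M)⁻¹⁻¹, h2, ?_⟩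
      have h3 : (z : G) = x * y * x⁻¹ := hzy
      simp only [Subgroup.coe_subtype, Subgroup.coe_mul, Subgroup.coe_inv, inv_inv, h3]
      group
  have hS1 : N.map M.subtype ≠ ⊥ := by
    intro h
    have h2 : Nat.card ↥(N.map M.subtype) = 1 := Subgroup.card_eq_one.mpr h
    rw [Subgroup.card_map_of_injective M.subtype_injective] at h2
    have h3 : Nat.card ↥N * N.index = Nat.card ↥M := Subgroup.card_mul_index N
    rw [h2, one_mul] at h3
    rw [h3] at hNi
    exact hNi hqd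
  refine ⟨q, N.map M.subtype, hq, hqd, hmax, hSM, hS1, hSq, uq_normalizer_eq hG hM hS1 hSM hMn,
    ?_, (f81_le_pCoreOf hSM hMn hSq).trans (f81_pCoreOf_le_fittingOf q M)⟩
  intro R hRM hRq
  let P : Sylow q ↥M := hNq.toSylow hNi
  have hPn : (P : Subgroup ↥M).Normal := hNn
  have hU : Unique (Sylow q ↥M) := Sylow.unique_of_normal P hPn
  obtain ⟨Q, hQ⟩ := (hRq.comap_subtype (K := M)).exists_le_sylow
  have hQP : Q = P := (hU.eq_default Q).trans (hU.eq_default P).symm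
  intro x hx
  have h2 : (⟨x, hRM hx⟩ : ↥M) ∈ (P : Subgroup ↥M) := by
    rw [← hQP]
    exact hQ (Subgroup.mem_subgroupOf.mpr hx)
  exact ⟨⟨x, hRM hx⟩, h2, rfl⟩

/-- **Bender–Glauberman 9.5, the GAMMA case.**  Let `A ∈ SCN_3(P)` in a minimal simple group of
odd order and suppose that `F(M)` has rank at most two for every maximal subgroup `M` containing
`C_G(A)`.  Then `A` lies in a unique maximal subgroup. -/
theorem bg95_gamma (hG : IsMinSimpleOddOrder G)
    (p : ℕ) [Fact p.Prime] (P : Sylow p G) (A : Subgroup G) (hA : IsSCN (P : Subgroup G) A)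
    (hA3 : ¬ PRankLE p 2 ↥A)
    (hgam : ∀ M : Subgroup G, IsCoatom M → centralizer (A : Set G) ≤ M →
      ∀ s : ℕ, s.Prime → PRankLE s 2 ↥(fittingOf M)) :
    InUniqueMaximal A := by
  have hpp : p.Prime := Fact.out
  have hsimple := hG.2.1
  have hAP : A ≤ P := hA.1
  have hAp : IsPGroup p A := P.2.to_le hAP
  have hAcent : A ≤ centralizer (A : Set G) := by
    intro a ha
    have h1 : a ∈ (P : Subgroup G) ⊓ centralizer (A : Set G) := by rw [hA.2.2]; exact ha
    exact h1.2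
  have hAc : IsMulCommutative A :=
    ⟨⟨fun a b => Subtype.ext (Subgroup.mem_centralizer_iff.mp (hAcent b.2) a a.2)⟩⟩
  have hA1 : A ≠ ⊥ := by
    rintro rfl
    apply hA3
    intro E _ _
    have h1 : Nat.card E = 1 := by
      haveI : Subsingleton (↥(⊥ : Subgroup G)) := inferInstance
      haveI : Subsingleton ↥E := inferInstance
      exact Nat.card_unique
    rw [h1]
    exact Nat.one_le_pow _ _ hpp.pos
  have hpA := dvd_card_of_isPGroup_ne_bot hAp hA1
  have hpG : p ∣ Nat.card G := hpA.trans (Subgroup.card_subgroup_dvd_card A)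
  have hAr1 : ¬ PRankLE p 1 ↥A := by
    intro h
    apply hA3
    intro E hE hEe
    exact (h E hE hEe).trans (Nat.pow_le_pow_right hpp.pos (by norm_num))
  have hTH : TransitivityHypothesis A :=
    transitivityHypothesis_criteria hG p hpG A hAp hAc (Or.inr ⟨P, hA, hAr1⟩)
  have hZ : ¬ RankLE 2 ↥(A ⊓ centralizer (A : Set G)) := by
    intro h
    exact hA3 (pRankLE_of_le (le_inf le_rfl hAcent) (h p hpp))
  obtain ⟨E, hEA, hEc, hEe, hEcard⟩ := exists_elemAb_of_not_pRankLE hA3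
  have hCA : centralizer (A : Set G) ≠ ⊤ := by
    obtain ⟨a, ha1⟩ := (Subgroup.ne_bot_iff_exists_ne_one (H := A)).mp hA1
    have ha1' : (a : G) ≠ 1 := fun h1 => ha1 (Subtype.ext h1)
    intro h
    apply centralizer_singleton_ne_top hG.2 ha1'
    rw [eq_top_iff, ← h]
    exact Subgroup.centralizer_le (Set.singleton_subset_iff.mpr a.2)
  have hK₀ : piCoreOf (primesNotDvd (Nat.card A)) (centralizer (A : Set G)) ≤
      centralizer (A : Set G) := piCoreOf_le _ _
  -- the datum of a maximal subgroup containing `C(A)`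
  have hdat : ∀ M : Subgroup G, IsCoatom M → centralizer (A : Set G) ≤ M →
      ∃ (q : ℕ) (S : Subgroup G), q.Prime ∧ q ≠ p ∧ q ∣ Nat.card M ∧
        (∀ r : ℕ, r.Prime → r ∣ Nat.card M → r ≤ q) ∧ IsPGroup q S ∧ S ≠ ⊥ ∧
        normalizer (S : Set G) = M ∧ S ∈ maxInvSubgroups ⊤ A {q} ∧
        ∀ Q ∈ maxInvSubgroups ⊤ A {q}, Q = S := by
    intro M hM hCM
    have hAM : A ≤ M := hAcent.trans hCM
    have hM1 : M ≠ ⊥ := fun h => hA1 (le_bot_iff.mp (h ▸ hAM))
    obtain ⟨q, S, hq, hqd, hmax, hSM, hS1, hSq, hNS, hall, hSF⟩ :=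
      bg95g_datum hG hM hM1 (hgam M hM hCM)
    have hqp : q ≠ p := by
      rintro rfl
      exact hA3 (pRankLE_of_le ((hall A hAM hAp).trans hSF) (hgam M hM hCM q hq))
    have hqA := not_dvd_card_of_isPGroup hAp hq hqp
    have hinv : S ∈ invSubgroups ⊤ A {q} :=
      ⟨le_top, primes_of_isPGroup hq hSq, by rw [hNS]; exact hAM⟩
    obtain ⟨Q, hQ, hSQ⟩ := exists_maxInv_ge hinv
    haveI := Fact.mk hq
    have hQq : IsPGroup q Q := isPGroup_of_primes hQ.1.2.1
    have hQS : Q = S := by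
      by_contra hne
      have hlt : S < Q := lt_of_le_of_ne hSQ (Ne.symm hne)
      obtain ⟨x, hxQ, hxN, hxS⟩ := exists_mem_normalizer_not_mem hq hQq hlt
      have h1 : Q ⊓ normalizer (S : Set G) ≤ S :=
        hall _ (by rw [← hNS]; exact inf_le_right) (hQq.to_le inf_le_left)
      exact hxS (h1 ⟨hxQ, hxN⟩)
    rw [hQS] at hQ
    refine ⟨q, S, hq, hqp, hqd, hmax, hSq, hS1, hNS, hQ, ?_⟩
    intro Q' hQ'
    obtain ⟨k, hk, rfl⟩ := trans_of_rank_three hG hTH hZ hq hqA S hQ Q' hQ'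
    have hkN : k ∈ normalizer (S : Set G) := by rw [hNS]; exact hCM (hK₀ hk)
    exact conj_smul_eq_self_of_mem_normalizer hkN
  -- choose a maximal subgroup with the largest prime
  obtain ⟨M₀, hM₀, hCM₀⟩ := uq_exists_coatom_ge hCA
  obtain ⟨q₀, S₀, hd₀⟩ := hdat M₀ hM₀ hCM₀
  have hfin : {n : ℕ | ∃ M : Subgroup G, IsCoatom M ∧ centralizer (A : Set G) ≤ M ∧
      ∃ S : Subgroup G, n.Prime ∧ n ≠ p ∧ n ∣ Nat.card M ∧
        (∀ r : ℕ, r.Prime → r ∣ Nat.card M → r ≤ n) ∧ IsPGroup n S ∧ S ≠ ⊥ ∧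
        normalizer (S : Set G) = M ∧ S ∈ maxInvSubgroups ⊤ A {n} ∧
        ∀ Q ∈ maxInvSubgroups ⊤ A {n}, Q = S}.Finite := by
    apply Set.Finite.subset (Set.finite_Iic (Nat.card G))
    rintro n ⟨M, -, -, S, -, -, hnd, -⟩
    exact Nat.le_of_dvd Nat.card_pos (hnd.trans (Subgroup.card_subgroup_dvd_card M))
  obtain ⟨q, ⟨M, hM, hCM, S, hq, hqp, hqd, hqmax, hSq, hS1, hNS, hSmax, hSuniq⟩, hqtop⟩ :=
    Set.exists_max_image _ id hfin ⟨q₀, M₀, hM₀, hCM₀, S₀, hd₀⟩
  have hAM : A ≤ M := hAcent.trans hCM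
  haveI := Fact.mk hq
  -- generation
  have hpS : ¬ p ∣ Nat.card S := not_dvd_card_of_isPGroup hSq hpp (Ne.symm hqp)
  have hES : E ≤ normalizer (S : Set G) := by rw [hNS]; exact hEA.trans hAM
  have hex : ∃ B : Subgroup G, B ≤ E ∧ B.relIndex E ≤ p ∧
      ¬ S ⊓ centralizer (B : Set G) ≤ ⊥ := by
    by_contra hcon
    push Not at hcon
    exact hS1 (le_bot_iff.mp
      (Cfsg.Agent.Helper22.le_of_hyperplane_centralizers_le p E S ⟨hEc, hEe⟩ hpS hES ⊥ hcon))
  obtain ⟨B, hBE, hBi, hBS⟩ := hex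
  have hBe : ∀ x ∈ B, x ^ p = 1 := fun x hx => hEe x (hBE hx)
  have hBc : IsMulCommutative ↥B := isMulCommutative_of_le hBE hEc
  have hBcard : p < Nat.card B := by
    have h1 : Nat.card B * B.relIndex E = Nat.card E := by
      have := relIndex_mul_relIndex (⊥ : Subgroup G) B E bot_le hBE
      rwa [relIndex_bot_left, relIndex_bot_left] at this
    have h2 : Nat.card E ≤ Nat.card B * p := by
      rw [← h1]; exact Nat.mul_le_mul_left _ hBi
    by_contra hle
    push Not at hle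
    have h3 : Nat.card B * p ≤ p * p := Nat.mul_le_mul_right _ hle
    have h4 : p ^ 2 = p * p := by ring
    omega
  have hBnc : ¬ IsCyclic ↥B := not_isCyclic_of_card_gt hpp hBe hBcard
  have hBA : B ≤ A := hBE.trans hEA
  -- centralizers of the elements of `B`
  have hcent : ∀ b ∈ B, b ≠ 1 → centralizer ({b} : Set G) ≤ M := by
    intro b hb hb1
    obtain ⟨M₁, hM₁, hbM₁⟩ := uq_exists_coatom_ge (centralizer_singleton_ne_top hG.2 hb1)
    have hCM₁ : centralizer (A : Set G) ≤ M₁ :=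
      (Subgroup.centralizer_le (Set.singleton_subset_iff.mpr (hBA hb))).trans hbM₁
    obtain ⟨q₁, S₁, hq₁, hq₁p, hq₁d, hq₁max, hS₁q, hS₁1, hNS₁, hS₁max, hS₁uniq⟩ :=
      hdat M₁ hM₁ hCM₁
    have h1 : q₁ ≤ q := hqtop q₁ ⟨M₁, hM₁, hCM₁, S₁, hq₁, hq₁p, hq₁d, hq₁max, hS₁q, hS₁1, hNS₁,
      hS₁max, hS₁uniq⟩
    have h2 : S ⊓ centralizer (B : Set G) ≤ M₁ :=
      (inf_le_right.trans (Subgroup.centralizer_le (Set.singleton_subset_iff.mpr hb))).trans hbM₁
    have h3 : q ∣ Nat.card ↥(S ⊓ centralizer (B : Set G)) := by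
      exact dvd_card_of_isPGroup_ne_bot (hSq.to_le inf_le_left) (fun h => hBS (le_of_eq h))
    have h4 : q ≤ q₁ := hq₁max q hq (h3.trans (Subgroup.card_dvd_of_le h2))
    have h5 : q₁ = q := le_antisymm h1 h4
    subst h5
    have h6 : S = S₁ := hS₁uniq S hSmax
    have hMM : M = M₁ := by rw [← hNS, h6, hNS₁]
    rw [hMM]
    exact hbM₁
  have hBU : InUniqueMaximal B :=
    Cfsg.Agent.S1398.result hG M hM p B (hBA.trans hAM) ⟨hBc, hBe⟩ hBnc (Or.inl hcent)
  refine Cfsg.Agent.S1399.result hG B A hBU ?_ ?_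
  · intro a ha
    rw [Subgroup.mem_centralizer_iff]
    intro b hb
    exact Subgroup.mem_centralizer_iff.mp (hAcent ha) b (hBA hb)
  · refine not_rankLE_one_of_elemAb hpp hEA hEc hEe ?_
    have : p < p ^ 2 := by nlinarith [hpp.one_lt]
    omega

end BG95Gamma

end Cfsg.Agent.Helper68
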