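/-
helper68: the class-at-most-two transfer of the two module lemmas of helper1's blueprint for
Bender–Glauberman Theorem 9.5 (S1402).  Given a subgroup `W` of exponent `q` with
`q ^ 2 * |[W, W]| ≤ |W|`, we pass to `N_G(W) / [W, W]`, where the image of `W` is abelian of
order at least `q ^ 2`, and centralizers of `q'`-elements lift (coprime action).  The abelian
lemmas (helper22: `bg95_frob_ab`, `bg95_endgame_ab`) enter as hypotheses `BG95FrobAb`,
`BG95EndAb`; the conclusions are helper1's `BG95Frob G`, `BG95End G`.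
Namespace `Cfsg.Agent.Helper68`.
-/
import Mathlib
import Cfsg.Agent.Helper1.BG95a
import Cfsg.Agent.Helper22.Generation

set_option autoImplicit false
set_option linter.style.haveILetI false

namespace Cfsg.Agent.Helper68

open Cfsg Subgroup
open scoped Pointwise commutatorElement

universe u

section BG95Quot

/-- The statement of helper22's abelian Frobenius lemma `bg95_frob_ab`. -/
def BG95FrobAb : Prop :=
  ∀ {X : Type u} [Group X] [Finite X] (_ : Odd (Nat.card X)) {p q s : ℕ} [Fact p.Prime]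
    [Fact q.Prime] [Fact s.Prime] (_ : p ≠ q) (_ : s ≠ q)
    (W : Subgroup X) (_ : ∀ u ∈ W, ∀ v ∈ W, u * v = v * u) (_ : IsPGroup q W)
    (c x : X) (_ : c ∈ normalizer (W : Set X)) (_ : x ∈ normalizer (W : Set X))
    (_ : c ^ p = 1) (_ : x ^ s = 1) (_ : c * x * c⁻¹ ∈ zpowers x) (_ : c * x ≠ x * c)
    (_ : W ⊓ centralizer ({c} : Set X) ≤ centralizer ({x} : Set X)),
    W ≤ centralizer ({x} : Set X)

/-- The statement of helper22's abelian endgame lemma `bg95_endgame_ab`. -/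
def BG95EndAb : Prop :=
  ∀ {X : Type u} [Group X] [Finite X] (_ : Odd (Nat.card X)) {p q s t : ℕ} [Fact p.Prime]
    [Fact q.Prime] [Fact s.Prime] [Fact t.Prime] (_ : p ≠ q) (_ : s ≠ q) (_ : t ≠ q)
    (W : Subgroup X) (_ : ∀ u ∈ W, ∀ v ∈ W, u * v = v * u) (_ : ∀ v ∈ W, v ^ q = 1)
    (_ : q ^ 2 ≤ Nat.card ↥W)
    (e b w y : X) (_ : e ∈ normalizer (W : Set X)) (_ : b ∈ normalizer (W : Set X))
    (_ : w ∈ normalizer (W : Set X)) (_ : y ∈ normalizer (W : Set X))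
    (_ : e * b = b * e) (_ : e ^ p = 1) (_ : b ^ p = 1)
    (_ : ∀ i j : ℕ, ¬ (p ∣ i ∧ p ∣ j) →
      Nat.card ↥(W ⊓ centralizer ({e ^ i * b ^ j} : Set X)) ≤ q)
    (_ : w ^ s = 1) (_ : b * w = w * b) (_ : e * w * e⁻¹ ∈ zpowers w) (_ : e * w ≠ w * e)
    (_ : Nat.card ↥(W ⊓ centralizer ({w} : Set X)) ≤ q)
    (_ : y ^ t = 1) (_ : e * y = y * e) (_ : b * y * b⁻¹ ∈ zpowers y) (_ : b * y ≠ y * b)
    (_ : Nat.card ↥(W ⊓ centralizer ({y} : Set X)) ≤ q), False

variable {G : Type u} [Group G]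

/-- `[W, W]` as a subgroup of `N_G(W)`. -/
def bg95qK (W : Subgroup G) : Subgroup ↥(normalizer (W : Set G)) :=
  (⁅W, W⁆ : Subgroup G).subgroupOf (normalizer (W : Set G))

instance bg95qK_normal (W : Subgroup G) : (bg95qK W).Normal :=
  Subgroup.normal_subgroupOf_of_le_normalizer
    (fun _ hg => Cfsg.Agent.Helper22.mem_normalizer_commutator_self hg)

/-- The image of `W` in `N_G(W) / [W, W]`. -/
def bg95qBar (W : Subgroup G) : Subgroup (↥(normalizer (W : Set G)) ⧸ bg95qK W) :=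
  (W.subgroupOf (normalizer (W : Set G))).map (QuotientGroup.mk' (bg95qK W))

theorem bg95q_mem_bar {W : Subgroup G} {γ : ↥(normalizer (W : Set G)) ⧸ bg95qK W} :
    γ ∈ bg95qBar W ↔ ∃ a : ↥(normalizer (W : Set G)), (a : G) ∈ W ∧
      (QuotientGroup.mk a : ↥(normalizer (W : Set G)) ⧸ bg95qK W) = γ := by
  constructor
  · rintro ⟨a, ha, rfl⟩
    exact ⟨a, Subgroup.mem_subgroupOf.mp ha, rfl⟩
  · rintro ⟨a, ha, rfl⟩
    exact ⟨a, Subgroup.mem_subgroupOf.mpr ha, rfl⟩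

theorem bg95q_mk_eq_one {W : Subgroup G} {a : ↥(normalizer (W : Set G))} :
    (QuotientGroup.mk a : ↥(normalizer (W : Set G)) ⧸ bg95qK W) = 1 ↔
      (a : G) ∈ (⁅W, W⁆ : Subgroup G) := by
  rw [QuotientGroup.eq_one_iff]
  exact Subgroup.mem_subgroupOf

theorem bg95q_bar_comm (W : Subgroup G) :
    ∀ u ∈ bg95qBar W, ∀ v ∈ bg95qBar W, u * v = v * u := by
  intro u hu v hv
  obtain ⟨a, ha, rfl⟩ := bg95q_mem_bar.mp hu
  obtain ⟨b, hb, rfl⟩ := bg95q_mem_bar.mp hv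
  rw [← QuotientGroup.mk_mul, ← QuotientGroup.mk_mul, QuotientGroup.eq]
  show (((a * b)⁻¹ * (b * a) : ↥(normalizer (W : Set G))) : G) ∈ (⁅W, W⁆ : Subgroup G)
  have e : (((a * b)⁻¹ * (b * a) : ↥(normalizer (W : Set G))) : G) = ⁅(b : G)⁻¹, (a : G)⁻¹⁆ := by
    simp only [Subgroup.coe_mul, Subgroup.coe_inv, commutatorElement_def]
    group
  rw [e]
  exact Subgroup.commutator_mem_commutator (W.inv_mem hb) (W.inv_mem ha)

theorem bg95q_bar_exp {W : Subgroup G} {q : ℕ} (hWq : ∀ v ∈ W, v ^ q = 1) :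
    ∀ v ∈ bg95qBar W, v ^ q = 1 := by
  intro v hv
  obtain ⟨a, ha, rfl⟩ := bg95q_mem_bar.mp hv
  rw [← QuotientGroup.mk_pow]
  have h1 : a ^ q = 1 := Subtype.ext (by simpa using hWq a ha)
  rw [h1]
  rfl

theorem bg95q_mem_normalizer_bar (W : Subgroup G)
    (γ : ↥(normalizer (W : Set G)) ⧸ bg95qK W) : γ ∈ normalizer ((bg95qBar W : Subgroup _) : Set _) := by
  have h1 : (W.subgroupOf (normalizer (W : Set G))).Normal := inferInstance
  have h2 : (bg95qBar W).Normal := h1.map _ (QuotientGroup.mk'_surjective _)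
  rw [Subgroup.normalizer_eq_top_iff.mpr h2]
  exact Subgroup.mem_top _

theorem bg95q_card_bar [Finite G] (W : Subgroup G) :
    Nat.card ↥(bg95qBar W) * Nat.card ↥(⁅W, W⁆ : Subgroup G) = Nat.card ↥W := by
  let φ : ↥W →* ↥(normalizer (W : Set G)) ⧸ bg95qK W :=
    (QuotientGroup.mk' (bg95qK W)).comp (Subgroup.inclusion Subgroup.le_normalizer)
  have hrange : φ.range = bg95qBar W := by
    ext γ
    constructor
    · rintro ⟨v, rfl⟩
      exact bg95q_mem_bar.mpr ⟨Subgroup.inclusion Subgroup.le_normalizer v, v.2, rfl⟩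
    · intro h
      obtain ⟨a, ha, rfl⟩ := bg95q_mem_bar.mp h
      exact ⟨⟨a, ha⟩, rfl⟩
  have hker : φ.ker = (⁅W, W⁆ : Subgroup G).subgroupOf W := by
    ext v
    rw [MonoidHom.mem_ker, Subgroup.mem_subgroupOf]
    exact bg95q_mk_eq_one
  have h1 := Subgroup.card_mul_index φ.ker
  rw [Subgroup.index_ker, hrange, hker,
    Nat.card_congr (Subgroup.subgroupOfEquivOfLe (Subgroup.commutator_le_self W)).toEquiv] at h1
  rw [mul_comm]
  exact h1

/-- Lifting centralizers from `W / [W, W]`: coprime action of a cyclic group. -/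
theorem bg95q_lift [Finite G] {W : Subgroup G} {g : G} (hg : g ∈ normalizer (W : Set G))
    (hcop : (Nat.card (zpowers g)).Coprime (Nat.card W)) {v : G} (hv : v ∈ W)
    (h : v⁻¹ * g * v * g⁻¹ ∈ (⁅W, W⁆ : Subgroup G)) :
    ∃ c ∈ W ⊓ centralizer ({g} : Set G), v⁻¹ * c ∈ (⁅W, W⁆ : Subgroup G) := by
  have hY : (⁅W, W⁆ : Subgroup G) ≤ W := Subgroup.commutator_le_self W
  have hgY : g ∈ normalizer ((⁅W, W⁆ : Subgroup G) : Set G) :=
    Cfsg.Agent.Helper22.mem_normalizer_commutator_self hg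
  have h4 := Cfsg.Agent.Helper22.forall_zpowers_coset_fixed _ v g hgY h
  have hAN : zpowers g ≤ normalizer ((⁅W, W⁆ : Subgroup G) : Set G) := zpowers_le.mpr hgY
  have hcop' : (Nat.card (zpowers g)).Coprime (Nat.card (⁅W, W⁆ : Subgroup G)) :=
    Nat.Coprime.coprime_dvd_right (Subgroup.card_dvd_of_le hY) hcop
  have hsolv : Group.IsSolvable (zpowers g) := inferInstance
  obtain ⟨c, hc, hcx⟩ := Cfsg.Agent.Helper35.exists_fixed_in_coset hAN hcop' (Or.inl hsolv) v h4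
  refine ⟨c, ⟨?_, ?_⟩, hcx⟩
  · have e : c = v * (v⁻¹ * c) := by group
    rw [e]
    exact W.mul_mem hv (hY hcx)
  · exact centralizer_le (Set.singleton_subset_iff.mpr (mem_zpowers g)) hc

/-- The centralizer in `W̄` of the image of a `q'`-element `g` is covered by `C_W(g)`. -/
theorem bg95q_cent_le [Finite G] {W : Subgroup G} (g : ↥(normalizer (W : Set G)))
    (hcop : (Nat.card (zpowers (g : G))).Coprime (Nat.card W)) :
    bg95qBar W ⊓ centralizer ({(QuotientGroup.mk g : ↥(normalizer (W : Set G)) ⧸ bg95qK W)} : Set _) ≤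
      ((W ⊓ centralizer ({(g : G)} : Set G)).subgroupOf (normalizer (W : Set G))).map
        (QuotientGroup.mk' (bg95qK W)) := by
  rintro γ ⟨hγW, hγc⟩
  obtain ⟨a, ha, rfl⟩ := bg95q_mem_bar.mp hγW
  have hγc' : (QuotientGroup.mk a : ↥(normalizer (W : Set G)) ⧸ bg95qK W) * QuotientGroup.mk g =
      QuotientGroup.mk g * QuotientGroup.mk a := Subgroup.mem_centralizer_singleton_iff.mp hγc
  have h1 : (QuotientGroup.mk (a⁻¹ * g * a * g⁻¹) : ↥(normalizer (W : Set G)) ⧸ bg95qK W) = 1 := by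
    rw [QuotientGroup.mk_mul, QuotientGroup.mk_mul, QuotientGroup.mk_mul, QuotientGroup.mk_inv,
      QuotientGroup.mk_inv, mul_assoc ((QuotientGroup.mk a)⁻¹), ← hγc']
    group
  have h2 : (a : G)⁻¹ * (g : G) * (a : G) * (g : G)⁻¹ ∈ (⁅W, W⁆ : Subgroup G) := by
    have := bg95q_mk_eq_one.mp h1
    simpa using this
  obtain ⟨c, hc, hcv⟩ := bg95q_lift g.2 hcop ha h2
  have hcN : c ∈ normalizer (W : Set G) := Subgroup.le_normalizer hc.1
  refine ⟨⟨c, hcN⟩, Subgroup.mem_subgroupOf.mpr hc, ?_⟩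
  show (QuotientGroup.mk (⟨c, hcN⟩ : ↥(normalizer (W : Set G))) : _ ⧸ bg95qK W) = QuotientGroup.mk a
  rw [eq_comm, QuotientGroup.eq]
  exact Subgroup.mem_subgroupOf.mpr hcv

theorem bg95q_card_cent_le [Finite G] {W : Subgroup G} (g : ↥(normalizer (W : Set G)))
    (hcop : (Nat.card (zpowers (g : G))).Coprime (Nat.card W)) :
    Nat.card ↥(bg95qBar W ⊓
      centralizer ({(QuotientGroup.mk g : ↥(normalizer (W : Set G)) ⧸ bg95qK W)} : Set _)) ≤
      Nat.card ↥(W ⊓ centralizer ({(g : G)} : Set G)) := by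
  refine (Subgroup.card_le_of_le (bg95q_cent_le g hcop)).trans ?_
  refine (Nat.le_of_dvd Nat.card_pos (Subgroup.card_map_dvd _ _)).trans ?_
  have hle : W ⊓ centralizer ({(g : G)} : Set G) ≤ normalizer (W : Set G) :=
    inf_le_left.trans Subgroup.le_normalizer
  exact (Nat.card_congr (Subgroup.subgroupOfEquivOfLe hle).toEquiv).le

/-- Coprimality of a `r`-element and a group of exponent `q`. -/
theorem bg95q_coprime [Finite G] {W : Subgroup G} {q r : ℕ} (hq : q.Prime) (hr : r.Prime)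
    (hrq : r ≠ q) (hWq : ∀ v ∈ W, v ^ q = 1) {g : G} (hg : g ^ r = 1) :
    (Nat.card (zpowers g)).Coprime (Nat.card W) := by
  haveI := Fact.mk hq
  have hWp : IsPGroup q W := Cfsg.Agent.Helper1.bg95_isPGroup_of_exp hWq
  obtain ⟨n, hn⟩ := hWp.exists_card_eq
  rw [hn, Nat.card_zpowers]
  apply Nat.Coprime.pow_right
  exact Nat.Coprime.coprime_dvd_left (orderOf_dvd_of_pow_eq_one hg)
    ((Nat.coprime_primes hr hq).mpr hrq)

/-- Non-commutation survives in the quotient. -/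
theorem bg95q_ne_comm [Finite G] {W : Subgroup G} {q s : ℕ} (hq : q.Prime) (hs : s.Prime)
    (hsq : s ≠ q) (hWq : ∀ v ∈ W, v ^ q = 1) (c x : ↥(normalizer (W : Set G)))
    (hxs : (x : G) ^ s = 1) (hcx : (c : G) * x * (c : G)⁻¹ ∈ zpowers (x : G))
    (hne : (c : G) * x ≠ x * c) :
    (QuotientGroup.mk c : ↥(normalizer (W : Set G)) ⧸ bg95qK W) * QuotientGroup.mk x ≠
      QuotientGroup.mk x * QuotientGroup.mk c := by
  intro h
  apply hne
  have h1 : (QuotientGroup.mk (c * x * c⁻¹ * x⁻¹) : ↥(normalizer (W : Set G)) ⧸ bg95qK W) = 1 := by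
    rw [QuotientGroup.mk_mul, QuotientGroup.mk_mul, QuotientGroup.mk_mul, QuotientGroup.mk_inv,
      QuotientGroup.mk_inv, h]
    group
  have h2 : (c : G) * x * (c : G)⁻¹ * (x : G)⁻¹ ∈ (⁅W, W⁆ : Subgroup G) := by
    have := bg95q_mk_eq_one.mp h1
    simpa using this
  have h3 : ((c : G) * x * (c : G)⁻¹ * (x : G)⁻¹) ^ q = 1 :=
    hWq _ (Subgroup.commutator_le_self W h2)
  have h4 : (c : G) * x * (c : G)⁻¹ * (x : G)⁻¹ ∈ zpowers (x : G) :=
    mul_mem hcx (inv_mem (mem_zpowers _))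
  have h5 : ((c : G) * x * (c : G)⁻¹ * (x : G)⁻¹) ^ s = 1 := by
    obtain ⟨k, hk⟩ := Subgroup.mem_zpowers_iff.mp h4
    rw [← hk, ← zpow_natCast, ← zpow_mul, mul_comm, zpow_mul, zpow_natCast, hxs, one_zpow]
  have h6 : orderOf ((c : G) * x * (c : G)⁻¹ * (x : G)⁻¹) ∣ Nat.gcd s q :=
    Nat.dvd_gcd (orderOf_dvd_of_pow_eq_one h5) (orderOf_dvd_of_pow_eq_one h3)
  rw [(Nat.coprime_primes hs hq).mpr hsq, Nat.dvd_one, orderOf_eq_one_iff] at h6
  have e : (c : G) * x = ((c : G) * x * (c : G)⁻¹ * (x : G)⁻¹) * (x * c) := by group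
  rw [e, h6, one_mul]

theorem bg95q_odd [Finite G] (hodd : Odd (Nat.card G)) (W : Subgroup G) :
    Odd (Nat.card (↥(normalizer (W : Set G)) ⧸ bg95qK W)) :=
  hodd.of_dvd_nat ((Subgroup.card_quotient_dvd_card _).trans (Subgroup.card_subgroup_dvd_card _))

theorem bg95q_sq_le [Finite G] {W : Subgroup G} {q : ℕ}
    (hWc : q ^ 2 * Nat.card ↥(⁅W, W⁆ : Subgroup G) ≤ Nat.card ↥W) :
    q ^ 2 ≤ Nat.card ↥(bg95qBar W) := by
  rw [← bg95q_card_bar W] at hWc
  exact Nat.le_of_mul_le_mul_right hWc Nat.card_pos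

theorem bg95q_mk_pow_eq_one {W : Subgroup G} (a : ↥(normalizer (W : Set G))) (n : ℕ)
    (h : (a : G) ^ n = 1) :
    (QuotientGroup.mk a : ↥(normalizer (W : Set G)) ⧸ bg95qK W) ^ n = 1 := by
  rw [← QuotientGroup.mk_pow]
  have h1 : a ^ n = 1 := Subtype.ext (by simpa using h)
  rw [h1]
  rfl

theorem bg95q_mk_comm {W : Subgroup G} (a b : ↥(normalizer (W : Set G)))
    (h : (a : G) * b = b * a) :
    (QuotientGroup.mk a : ↥(normalizer (W : Set G)) ⧸ bg95qK W) * QuotientGroup.mk b =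
      QuotientGroup.mk b * QuotientGroup.mk a := by
  rw [← QuotientGroup.mk_mul, ← QuotientGroup.mk_mul]
  have h1 : a * b = b * a := Subtype.ext (by simpa using h)
  rw [h1]

theorem bg95q_mk_conj_mem {W : Subgroup G} (c x : ↥(normalizer (W : Set G)))
    (h : (c : G) * x * (c : G)⁻¹ ∈ zpowers (x : G)) :
    (QuotientGroup.mk c : ↥(normalizer (W : Set G)) ⧸ bg95qK W) * QuotientGroup.mk x *
      (QuotientGroup.mk c)⁻¹ ∈ zpowers (QuotientGroup.mk x : ↥(normalizer (W : Set G)) ⧸ bg95qK W) := by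
  obtain ⟨k, hk⟩ := Subgroup.mem_zpowers_iff.mp h
  refine Subgroup.mem_zpowers_iff.mpr ⟨k, ?_⟩
  rw [← QuotientGroup.mk_zpow, ← QuotientGroup.mk_inv, ← QuotientGroup.mk_mul,
    ← QuotientGroup.mk_mul]
  have h1 : x ^ k = c * x * c⁻¹ := Subtype.ext (by simpa using hk)
  rw [h1]

/-- **The Frobenius lemma for data of class at most two** (transfer of
the abelian lemma to `N_G(W) / [W, W]`). -/
theorem bg95_frob_quot_of [Finite G] (hab : BG95FrobAb.{u}) (hodd : Odd (Nat.card G)) :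
    Cfsg.Agent.Helper1.BG95Frob G := by
  intro p q s hp hq hs hpq hsq W hWq hWc c x hcW hxW hcp hxs hcx hcx' h
  haveI := Fact.mk hp
  haveI := Fact.mk hq
  haveI := Fact.mk hs
  have hbar := bg95q_sq_le hWc
  have hcopx := bg95q_coprime hq hs hsq hWq hxs
  have hcopc := bg95q_coprime hq hp hpq hWq hcp
  have key := hab (bg95q_odd hodd W) hpq hsq (bg95qBar W)
    (bg95q_bar_comm W) (Cfsg.Agent.Helper1.bg95_isPGroup_of_exp (bg95q_bar_exp hWq))
    (QuotientGroup.mk ⟨c, hcW⟩) (QuotientGroup.mk ⟨x, hxW⟩)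
    (bg95q_mem_normalizer_bar W _) (bg95q_mem_normalizer_bar W _)
    (bg95q_mk_pow_eq_one ⟨c, hcW⟩ p hcp) (bg95q_mk_pow_eq_one ⟨x, hxW⟩ s hxs)
    (bg95q_mk_conj_mem ⟨c, hcW⟩ ⟨x, hxW⟩ hcx)
    (bg95q_ne_comm hq hs hsq hWq ⟨c, hcW⟩ ⟨x, hxW⟩ hxs hcx hcx')
    (by
      intro γ hγ
      obtain ⟨v, hv, rfl⟩ := bg95q_cent_le (⟨c, hcW⟩ : ↥(normalizer (W : Set G))) hcopc hγ
      have hvx : (v : G) ∈ centralizer ({x} : Set G) := h (Subgroup.mem_subgroupOf.mp hv)
      rw [Subgroup.mem_centralizer_singleton_iff] at hvx ⊢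
      exact bg95q_mk_comm v ⟨x, hxW⟩ hvx)
  have h1 : bg95qBar W ≤ bg95qBar W ⊓ centralizer
      ({(QuotientGroup.mk ⟨x, hxW⟩ : ↥(normalizer (W : Set G)) ⧸ bg95qK W)} : Set _) :=
    le_inf le_rfl key
  exact hbar.trans ((Subgroup.card_le_of_le h1).trans
    (bg95q_card_cent_le (⟨x, hxW⟩ : ↥(normalizer (W : Set G))) hcopx))

/-- **The endgame lemma for data of class at most two** (transfer of
the abelian lemma to `N_G(W) / [W, W]`). -/
theorem bg95_end_quot_of [Finite G] (hab : BG95EndAb.{u}) (hodd : Odd (Nat.card G)) :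
    Cfsg.Agent.Helper1.BG95End G := by
  intro p q s t hp hq hs ht hpq hsq htq W hWq hWc e b w y heW hbW hwW hyW heb hep hbp hcent
    hws hbw hew hew' hwc hyt hey hby hby' hyc
  haveI := Fact.mk hp
  haveI := Fact.mk hq
  haveI := Fact.mk hs
  haveI := Fact.mk ht
  have hbar := bg95q_sq_le hWc
  have hcopw := bg95q_coprime hq hs hsq hWq hws
  have hcopy := bg95q_coprime hq ht htq hWq hyt
  obtain ⟨e', he'⟩ : ∃ e' : ↥(normalizer (W : Set G)), (e' : G) = e := ⟨⟨e, heW⟩, rfl⟩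
  obtain ⟨b', hb'⟩ : ∃ b' : ↥(normalizer (W : Set G)), (b' : G) = b := ⟨⟨b, hbW⟩, rfl⟩
  obtain ⟨w', hw'⟩ : ∃ w' : ↥(normalizer (W : Set G)), (w' : G) = w := ⟨⟨w, hwW⟩, rfl⟩
  obtain ⟨y', hy'⟩ : ∃ y' : ↥(normalizer (W : Set G)), (y' : G) = y := ⟨⟨y, hyW⟩, rfl⟩
  subst he' hb' hw' hy'
  have h1 := bg95q_mk_comm e' b' heb
  have h2 := bg95q_mk_pow_eq_one e' p hep
  have h3 := bg95q_mk_pow_eq_one b' p hbp
  have h4 := bg95q_mk_pow_eq_one w' s hws
  have h5 := bg95q_mk_comm b' w' hbw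
  have h6 := bg95q_mk_conj_mem e' w' hew
  have h7 := bg95q_ne_comm hq hs hsq hWq e' w' hws hew hew'
  have h8 := (bg95q_card_cent_le w' hcopw).trans hwc
  have h9 := bg95q_mk_pow_eq_one y' t hyt
  have h10 := bg95q_mk_comm e' y' hey
  have h11 := bg95q_mk_conj_mem b' y' hby
  have h12 := bg95q_ne_comm hq ht htq hWq b' y' hyt hby hby'
  have h13 := (bg95q_card_cent_le y' hcopy).trans hyc
  have h14 : ∀ i j : ℕ, ¬ (p ∣ i ∧ p ∣ j) → Nat.card ↥(bg95qBar W ⊓ centralizer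
      ({(QuotientGroup.mk e' : ↥(normalizer (W : Set G)) ⧸ bg95qK W) ^ i *
        (QuotientGroup.mk b' : ↥(normalizer (W : Set G)) ⧸ bg95qK W) ^ j} : Set _)) ≤ q := by
    intro i j hij
    have hpow : ((e' : G) ^ i * (b' : G) ^ j) ^ p = 1 := by
      have hc : Commute ((e' : G) ^ i) ((b' : G) ^ j) :=
        (show Commute (e' : G) (b' : G) from heb).pow_pow i j
      rw [hc.mul_pow, ← pow_mul, ← pow_mul, mul_comm i, mul_comm j, pow_mul, pow_mul, hep, hbp,
        one_pow, one_pow, one_mul]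
    have hcop : (Nat.card (zpowers (((e' ^ i * b' ^ j : ↥(normalizer (W : Set G))) : G)))).Coprime
        (Nat.card W) := bg95q_coprime hq hp hpq hWq hpow
    have e1 : (QuotientGroup.mk e' : ↥(normalizer (W : Set G)) ⧸ bg95qK W) ^ i *
        (QuotientGroup.mk b' : ↥(normalizer (W : Set G)) ⧸ bg95qK W) ^ j =
        QuotientGroup.mk (e' ^ i * b' ^ j) := by
      rw [QuotientGroup.mk_mul, QuotientGroup.mk_pow, QuotientGroup.mk_pow]
    rw [e1]
    exact (bg95q_card_cent_le (e' ^ i * b' ^ j) hcop).trans (hcent i j hij)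
  exact hab (bg95q_odd hodd W) hpq hsq htq (bg95qBar W)
    (bg95q_bar_comm W) (bg95q_bar_exp hWq) hbar
    (QuotientGroup.mk e') (QuotientGroup.mk b') (QuotientGroup.mk w') (QuotientGroup.mk y')
    (bg95q_mem_normalizer_bar W _) (bg95q_mem_normalizer_bar W _)
    (bg95q_mem_normalizer_bar W _) (bg95q_mem_normalizer_bar W _)
    h1 h2 h3 h14 h4 h5 h6 h7 h8 h9 h10 h11 h12 h13

end BG95Quot

end Cfsg.Agent.Helper68
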