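/-
helper68: the two Frobenius-type lemmas for data of class at most two, in the form of helper1's
`BG95Frob G` and `BG95End G` (Bender–Glauberman Theorem 9.5, S1402): helper22's abelian lemmas
transferred to `N_G(W) / [W, W]` by `Helper68/BG95Quot.lean`.  Namespace `Cfsg.Agent.Helper68`.
-/
import Mathlib
import Cfsg.Agent.Helper68.BG95Quot
import Cfsg.Agent.Helper22.BG95Mod

set_option autoImplicit false

namespace Cfsg.Agent.Helper68

universe u

variable {G : Type u} [Group G] [Finite G]

/-- The Frobenius lemma for data (class at most two) holds in every finite group of odd order. -/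
theorem bg95_frob_quot (hodd : Odd (Nat.card G)) : Cfsg.Agent.Helper1.BG95Frob G :=
  bg95_frob_quot_of @Cfsg.Agent.Helper22.bg95_frob_ab hodd

/-- The endgame lemma for data (class at most two) holds in every finite group of odd order. -/
theorem bg95_end_quot (hodd : Odd (Nat.card G)) : Cfsg.Agent.Helper1.BG95End G :=
  bg95_end_quot_of @Cfsg.Agent.Helper22.bg95_endgame_ab hodd

end Cfsg.Agent.Helper68
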