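/-
helper68: Bender–Glauberman Lemma 12.3.  `M ≠ M*` maximal, `A ≤ M ∩ M*` elementary abelian of order
`p ^ 2`, `A₀ ≤ A` of order `p` with `N_G(A₀) ≤ M*`.  Then (a) `p ∉ σ(M)` ⟹ `A` centralizes
`M_σ ∩ M*`, and (b) `p ∉ α(M)` ⟹ `A` centralizes `M_α ∩ M*`.
The conclusions of S1403 (`BGUniq`), S1410 (`BGPLen`), of the normal-complement part of S1414
(`BGSigmaCompl`) and of B&G 11.7 for `M*` (`h117`) are hypotheses.
-/
import Cfsg.Agent.Helper22.BG11a
import Cfsg.Agent.Helper23.Uniq3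
import Cfsg.Agent.Helper35.HallCoprime

set_option autoImplicit false
set_option linter.style.haveILetI false
set_option linter.unusedSectionVars false

namespace Cfsg.Agent.Helper68

open Cfsg Subgroup Cfsg.Agent.Helper22 Cfsg.Agent.Helper23 Cfsg.Agent.Helper35
open scoped Pointwise

universe u

variable {G : Type u} [Group G] [Finite G]

/-- The normal-complement part of S1414 (B&G 10.8): for a maximal subgroup `M` and a prime
`q ∉ β(M)` dividing `|M|`, the group `M_σ` has a normal `q`-complement. -/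
def BGSigmaCompl (G : Type u) [Group G] : Prop :=
  ∀ M : Subgroup G, IsCoatom M → ∀ q : ℕ, q.Prime → q ∣ Nat.card M → q ∉ beta M →
    HasNormalPComplement q ↥(sigmaCore M)

/-- An element of `H` whose order is prime to `|H : T|` lies in `T` (`T` normalized by `H`). -/
theorem bg123_mem_of_coprime {T H : Subgroup G} (hn : H ≤ normalizer (T : Set G)) {g : G}
    (hg : g ∈ H) {n : ℕ} (hgn : g ^ n = 1) (hcop : n.Coprime (T.relIndex H)) : g ∈ T := by
  haveI : (T.subgroupOf H).Normal := Subgroup.normal_subgroupOf_of_le_normalizer hn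
  obtain ⟨q, hq⟩ : ∃ q : ↥H ⧸ T.subgroupOf H, q = QuotientGroup.mk' _ ⟨g, hg⟩ := ⟨_, rfl⟩
  have h1 : q ^ n = 1 := by
    rw [hq, ← map_pow]
    have : (⟨g, hg⟩ : ↥H) ^ n = 1 := Subtype.ext (by simpa using hgn)
    rw [this, map_one]
  have h2 : orderOf q ∣ n := orderOf_dvd_of_pow_eq_one h1
  have h3 : orderOf q ∣ T.relIndex H := by
    have := orderOf_dvd_natCard q
    rwa [← Subgroup.index_eq_card] at this
  have h4 := Nat.dvd_gcd h2 h3
  rw [Nat.Coprime.gcd_eq_one hcop, Nat.dvd_one] at h4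
  have h5 : q = 1 := orderOf_eq_one_iff.mp h4
  rw [hq] at h5
  have h6 : (⟨g, hg⟩ : ↥H) ∈ T.subgroupOf H := (QuotientGroup.eq_one_iff _).mp h5
  exact Subgroup.mem_subgroupOf.mp h6

/-- A `p`-element of `H` lies in `H_σ` when `p ∈ σ(H)`. -/
theorem bg123_mem_sigmaCore (hG : IsMinSimpleOddOrder G) (hU : BGUniq G) {H : Subgroup G}
    (hH : IsCoatom H) {p : ℕ} (hp : p ∈ sigma H) {a : G} (haH : a ∈ H) (hap : a ^ p = 1) :
    a ∈ sigmaCore H := by
  have h1 := (bg10_sigma_hall hG hU hH).1.2.2 p hp.1 hp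
  exact bg123_mem_of_coprime (le_normalizer_piCoreOf (sigma H) H) haH hap
    ((Nat.Prime.coprime_iff_not_dvd hp.1).mpr h1)

/-- An element of a subgroup `K` with `x ^ n = 1`, `n` prime to `|K|`, is trivial. -/
theorem bg123_eq_one_of_coprime {K : Subgroup G} {x : G} (hx : x ∈ K) {n : ℕ} (hxn : x ^ n = 1)
    (hcop : n.Coprime (Nat.card K)) : x = 1 := by
  have h1 : orderOf x ∣ n := orderOf_dvd_of_pow_eq_one hxn
  have h2 : orderOf x ∣ Nat.card K := Subgroup.orderOf_dvd_natCard K hx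
  have h3 := Nat.dvd_gcd h1 h2
  rw [Nat.Coprime.gcd_eq_one hcop, Nat.dvd_one] at h3
  exact orderOf_eq_one_iff.mp h3

/-- If `q ∈ α(M) ∩ σ(H)` then `H` is conjugate to `M`. -/
theorem bg123_conj_of_alpha_sigma (hG : IsMinSimpleOddOrder G) (hU : BGUniq G) {M H : Subgroup G}
    (hM : IsCoatom M) (hH : IsCoatom H) {q : ℕ} (hqα : q ∈ alpha M) (hqσ : q ∈ sigma H) :
    ∃ x : G, MulAut.conj x • M = H := by
  have hqM : q ∈ sigma M := bg10_alpha_sub_sigma hG hU hM hqα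
  obtain ⟨hq, hr⟩ := hqα
  haveI := Fact.mk hq
  obtain ⟨-, -, P₀, hNP⟩ := hqM
  obtain ⟨-, -, R₀, hNR⟩ := hqσ
  have hP := isSylowOf_map P₀
  have hR := isSylowOf_map R₀
  have hPtop : IsSylowOf q ((P₀ : Subgroup ↥M).map M.subtype) ⊤ :=
    hP.of_normalizer_inf_le le_top (inf_le_left.trans hNP)
  have hRtop : IsSylowOf q ((R₀ : Subgroup ↥H).map H.subtype) ⊤ :=
    hR.of_normalizer_inf_le le_top (inf_le_left.trans hNR)
  have hrP : ¬ PRankLE q 2 ↥((P₀ : Subgroup ↥M).map M.subtype) :=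
    fun h => hr (pRankLE_of_isSylowOf hP h)
  obtain ⟨x, -, hx⟩ := bg10_sylow_conj hPtop hRtop
  refine ⟨x, ?_⟩
  have huniq := bg10_uniq_of_rank3 hU hq hM hP.1 hrP
  have hle : (P₀ : Subgroup ↥M).map M.subtype ≤ MulAut.conj x⁻¹ • H := by
    intro y hy
    rw [mem_conj_smul, inv_inv]
    apply hR.1
    rw [hx]
    exact conj_mem_conj_smul hy
  have h1 : MulAut.conj x⁻¹ • H = M := huniq _ (isCoatom_conj_smul x⁻¹ hH) hle
  rw [← h1, conj_smul_conj_smul, mul_inv_cancel, map_one, one_smul]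

/-- If `p ∈ σ(H)`, `A₀ ≤ H` is a nontrivial `p`-subgroup with `C_G(A₀) ≤ H` and `A₀` lies in a
conjugate `H^x`, then `H^x = H`. -/
theorem bg123_conj_eq_self (hG : IsMinSimpleOddOrder G) (hU : BGUniq G) {H : Subgroup G}
    (hH : IsCoatom H) {p : ℕ} [Fact p.Prime] (hp : p ∈ sigma H) {A₀ : Subgroup G}
    (hA₀p : IsPGroup p A₀) (hA₀1 : A₀ ≠ ⊥) (hA₀H : A₀ ≤ H)
    (hC : centralizer (A₀ : Set G) ≤ H) {x : G} (hx : A₀ ≤ MulAut.conj x • H) :
    MulAut.conj x • H = H := by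
  obtain ⟨hfus, -⟩ := bg10_sigma_fusion hG hU hH hp hA₀p hA₀1 hA₀H
  obtain ⟨m, hm, c, hc, e⟩ := hfus x⁻¹ (by
    rintro _ ⟨a, ha, rfl⟩
    have := hx ha
    rw [mem_conj_smul] at this
    simpa using this)
  have hxH : x⁻¹ ∈ H := by rw [e]; exact H.mul_mem hm (hC hc)
  have hxH' : x ∈ H := by simpa using H.inv_mem hxH
  exact conj_smul_eq_self_of_mem_normalizer (le_normalizer hxH')

/-- Two subgroups of coprime orders meet trivially. -/
theorem bg123_inf_eq_bot {A B : Subgroup G} (h : (Nat.card A).Coprime (Nat.card B)) :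
    A ⊓ B = ⊥ := by
  rw [← Subgroup.card_eq_one]
  have h1 : Nat.card ↥(A ⊓ B) ∣ Nat.card A := Subgroup.card_dvd_of_le inf_le_left
  have h2 : Nat.card ↥(A ⊓ B) ∣ Nat.card B := Subgroup.card_dvd_of_le inf_le_right
  have h3 := Nat.dvd_gcd h1 h2
  rw [Nat.Coprime.gcd_eq_one h] at h3
  exact Nat.dvd_one.mp h3

omit [Finite G] in
/-- If `a` commutes with `c = [a, x]` then `a ^ k` conjugates `x` to `c ^ k * x`. -/
theorem bg123_conj_pow {a x c : G} (hc : c = a * x * a⁻¹ * x⁻¹) (hac : a * c = c * a) (k : ℕ) :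
    a ^ k * x * (a ^ k)⁻¹ = c ^ k * x := by
  induction k with
  | zero => simp
  | succ k ih =>
    have h1 : a * c ^ k = c ^ k * a := (Commute.pow_right (show Commute a c from hac) k).eq
    have h2 : a * x * a⁻¹ = c * x := by rw [hc]; group
    calc a ^ (k + 1) * x * (a ^ (k + 1))⁻¹ = a * (a ^ k * x * (a ^ k)⁻¹) * a⁻¹ := by
          rw [pow_succ']; group
      _ = a * (c ^ k * x) * a⁻¹ := by rw [ih]
      _ = (a * c ^ k) * (x * a⁻¹) := by group
      _ = c ^ k * (a * x * a⁻¹) := by rw [h1]; group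
      _ = c ^ (k + 1) * x := by rw [h2, pow_succ]; group

omit [Finite G] in
theorem bg123_comm_of_eq_one {a x : G} (h : a * x * a⁻¹ * x⁻¹ = 1) : a * x = x * a := by
  have h1 : a * x * a⁻¹ = x := mul_inv_eq_one.mp h
  exact mul_inv_eq_iff_eq_mul.mp h1

/-- The exceptional case of B&G 12.3: `(H, A₀, A)` satisfies Hypothesis 11.1, `H_σ A ⊴ H`
(B&G 11.7), `M ≠ H` is maximal and contains `A`.  Then a commutator `[a, x]`, `a ∈ A`, `x ∈ H`,
lying in `M_σ` and of order prime to `p` is trivial. -/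
theorem bg123_exc_core (hG : IsMinSimpleOddOrder G) (hU : BGUniq G) (hpl : BGPLen G) {p : ℕ}
    [Fact p.Prime] {M H A₀ A : Subgroup G} (hM : IsCoatom M) (hne : H ≠ M) (hAM : A ≤ M)
    (h11 : BG11Hyp H A₀ A p)
    (hnorm : H ≤ normalizer ((sigmaCore H ⊔ A : Subgroup G) : Set G))
    {a x c : G} (ha : a ∈ A) (hx : x ∈ H) (hc : c = a * x * a⁻¹ * x⁻¹) (hcM : c ∈ sigmaCore M)
    {n : ℕ} (hcn : c ^ n = 1) (hnp : n.Coprime p) : c = 1 := by
  have hpp : p.Prime := Fact.out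
  have hAH : A ≤ H := bg11_le_M h11
  have hTI : sigmaCore M ⊓ sigmaCore H = ⊥ := by
    by_contra hne'
    exact hne (bg11_sigma_uniq hG hU hpl h11 hM hAM hne').symm
  have hAN : A ≤ normalizer (sigmaCore H : Set G) :=
    hAH.trans (le_normalizer_piCoreOf (sigma H) H)
  have hcL : c ∈ sigmaCore H ⊔ A := by
    have h1 : a ∈ sigmaCore H ⊔ A := (le_sup_right : A ≤ sigmaCore H ⊔ A) ha
    have h2 : x * a⁻¹ * x⁻¹ ∈ sigmaCore H ⊔ A :=
      (mem_normalizer_iff.mp (hnorm hx) a⁻¹).mp (inv_mem h1)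
    have e : c = a * (x * a⁻¹ * x⁻¹) := by rw [hc]; group
    rw [e]
    exact mul_mem h1 h2
  have hcop : (Nat.card A).Coprime (Nat.card (sigmaCore H)) :=
    bg11_coprime h11 (fun r hr hd => mem_of_dvd_card_piCoreOf (sigma H) H hr hd)
  have hT : sigmaCore H ⊓ A = ⊥ := bg123_inf_eq_bot hcop.symm
  have hcard : Nat.card ↥(sigmaCore H ⊔ A) = Nat.card (sigmaCore H) * Nat.card A :=
    card_sup_of_le_normalizer hAN hT
  have hrel : (sigmaCore H).relIndex (sigmaCore H ⊔ A) = Nat.card A := by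
    have h1 := Subgroup.relIndex_mul_relIndex ⊥ (sigmaCore H) (sigmaCore H ⊔ A) bot_le le_sup_left
    rw [Subgroup.relIndex_bot_left, Subgroup.relIndex_bot_left, hcard] at h1
    have h0 : 0 < Nat.card (sigmaCore H) := Nat.card_pos
    exact Nat.eq_of_mul_eq_mul_left h0 h1
  have hcH : c ∈ sigmaCore H := by
    refine bg123_mem_of_coprime (sup_le le_normalizer hAN) hcL hcn ?_
    rw [hrel, h11.cardA]
    exact Nat.Coprime.pow_right 2 hnp
  have : c ∈ sigmaCore M ⊓ sigmaCore H := ⟨hcM, hcH⟩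
  rw [hTI] at this
  exact Subgroup.mem_bot.mp this

/-- In a group with a normal subgroup `N` of `q`-power index, every element of order prime to `q`
lies in `N`; hence commutators `[b, c]` with `b ^ p = 1`, `p ≠ q`, have order prime to `q` when
`|N|` is prime to `q`. -/
theorem bg123_comm_order {X : Type u} [Group X] [Finite X] {p q : ℕ} (hp : p.Prime) (hq : q.Prime)
    (hqp : q ≠ p) (hX : HasNormalPComplement q X) {b c : X} (hb : b ^ p = 1) :
    ¬ q ∣ orderOf (b * c * b⁻¹ * c⁻¹) := by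
  haveI := Fact.mk hq
  obtain ⟨P, N, hNn, hNP⟩ := hX
  have hidx : N.index = Nat.card (P : Subgroup X) := hNP.symm.index_eq_card
  have hcardN : Nat.card N = (P : Subgroup X).index := hNP.index_eq_card.symm
  obtain ⟨k, hk⟩ := IsPGroup.iff_card.mp P.2
  have hbN : b ∈ N := by
    refine bg123_mem_of_coprime (T := N) (H := ⊤) ?_ (Subgroup.mem_top b) hb ?_
    · rw [normalizer_eq_top]
    · rw [Subgroup.relIndex_top_right, hidx, hk]
      exact Nat.Coprime.pow_right k ((Nat.coprime_primes hp hq).mpr (Ne.symm hqp))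
  have hdN : b * c * b⁻¹ * c⁻¹ ∈ N := by
    have h1 : c * b⁻¹ * c⁻¹ ∈ N := hNn.conj_mem _ (inv_mem hbN) c
    have e : b * c * b⁻¹ * c⁻¹ = b * (c * b⁻¹ * c⁻¹) := by group
    rw [e]
    exact mul_mem hbN h1
  intro hd
  have h2 : orderOf (b * c * b⁻¹ * c⁻¹) ∣ Nat.card N := Subgroup.orderOf_dvd_natCard N hdN
  rw [hcardN] at h2
  exact P.not_dvd_index (hd.trans h2)

/-- **B&G Lemma 12.3(a)** (with B&G 11.7 for `M*` as a hypothesis). -/
theorem bg123_sigma (hG : IsMinSimpleOddOrder G) (hU : BGUniq G) (hpl : BGPLen G)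
    (hβ : BGSigmaCompl G) {p : ℕ} [Fact p.Prime] {M Ms A₀ A : Subgroup G}
    (hM : IsCoatom M) (hMs : IsCoatom Ms) (hne : Ms ≠ M) (hAM : A ≤ M)
    (hA : IsElementaryAbelian p A) (hcard : Nat.card A = p ^ 2) (hA₀ : A₀ ≤ A)
    (hcA₀ : Nat.card A₀ = p) (hN : normalizer (A₀ : Set G) ≤ Ms)
    (h117 : BG11Hyp Ms A₀ A p → Ms ≤ normalizer ((sigmaCore Ms ⊔ A : Subgroup G) : Set G))
    (hp : p ∉ sigma M) :
    ∀ x ∈ sigmaCore M ⊓ Ms, ∀ a ∈ A, a * x = x * a := by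
  have hpp : p.Prime := Fact.out
  have hCA₀ : centralizer (A₀ : Set G) ≤ Ms := (centralizer_le_normalizer _).trans hN
  have hAH : A ≤ Ms := by
    intro a ha
    apply hCA₀
    rw [mem_centralizer_iff]
    intro b hb
    exact bg11_elemAb_comm hA b (hA₀ hb) a ha
  have hA₀p : IsPGroup p A₀ := IsPGroup.of_card (n := 1) (by rw [hcA₀, pow_one])
  have hA₀1 : A₀ ≠ ⊥ := by
    intro e
    rw [e, Subgroup.card_bot] at hcA₀
    exact hpp.one_lt.ne hcA₀
  have hpM : ¬ p ∣ Nat.card (sigmaCore M) :=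
    fun h => hp (mem_of_dvd_card_piCoreOf (sigma M) M hpp h)
  intro x hx a ha
  have hxM : x ∈ sigmaCore M := hx.1
  have hxH : x ∈ Ms := hx.2
  have hnormM : ∀ b ∈ A, ∀ y ∈ sigmaCore M, b * y * b⁻¹ ∈ sigmaCore M := fun b hb y hy =>
    (mem_normalizer_iff.mp (le_normalizer_piCoreOf (sigma M) M (hAM hb)) y).mp hy
  apply bg123_comm_of_eq_one
  obtain ⟨c, hc⟩ : ∃ c : G, c = a * x * a⁻¹ * x⁻¹ := ⟨_, rfl⟩
  rw [← hc]
  have hcM : c ∈ sigmaCore M := by
    rw [hc]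
    exact mul_mem (hnormM a ha x hxM) (inv_mem hxM)
  by_cases hpH : p ∈ sigma Ms
  · have hmemσ : ∀ b ∈ A, b ∈ sigmaCore Ms := fun b hb =>
      bg123_mem_sigmaCore hG hU hMs hpH (hAH hb) (hA.2 b hb)
    have hcH : c ∈ sigmaCore Ms := by
      have h1 : x * a⁻¹ * x⁻¹ ∈ sigmaCore Ms :=
        (mem_normalizer_iff.mp (le_normalizer_piCoreOf (sigma Ms) Ms hxH) a⁻¹).mp
          (inv_mem (hmemσ a ha))
      have e : c = a * (x * a⁻¹ * x⁻¹) := by rw [hc]; group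
      rw [e]
      exact mul_mem (hmemσ a ha) h1
    have key : ∀ b ∈ A, b * c = c * b := by
      intro b hb
      apply bg123_comm_of_eq_one
      by_contra hd1
      have hdM : b * c * b⁻¹ * c⁻¹ ∈ sigmaCore M := mul_mem (hnormM b hb c hcM) (inv_mem hcM)
      have hdH : b * c * b⁻¹ * c⁻¹ ∈ sigmaCore Ms :=
        mul_mem (mul_mem (mul_mem (hmemσ b hb) hcH) (inv_mem (hmemσ b hb))) (inv_mem hcH)
      have hord : orderOf (b * c * b⁻¹ * c⁻¹) ≠ 1 := fun h => hd1 (orderOf_eq_one_iff.mp h)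
      obtain ⟨q, hq, hqd⟩ := Nat.exists_prime_and_dvd hord
      have hqσM : q ∈ sigma M := mem_of_dvd_card_piCoreOf (sigma M) M hq
        (hqd.trans (Subgroup.orderOf_dvd_natCard _ hdM))
      have hqp : q ≠ p := fun e => hp (e ▸ hqσM)
      have hqH : q ∣ Nat.card Ms := (hqd.trans (Subgroup.orderOf_dvd_natCard _ hdH)).trans
        (Subgroup.card_dvd_of_le (piCoreOf_le (sigma Ms) Ms))
      have hqβ : q ∉ beta Ms := by
        intro hβq
        obtain ⟨y, hy⟩ := bg123_conj_of_alpha_sigma hG hU hMs hM hβq.1 hqσM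
        have h1 : MulAut.conj y • Ms = Ms :=
          bg123_conj_eq_self hG hU hMs hpH hA₀p hA₀1 (hA₀.trans hAH) hCA₀
            (hy ▸ (hA₀.trans hAM))
        exact hne (h1.symm.trans hy)
      have hX := hβ Ms hMs q hq hqH hqβ
      have h2 := bg123_comm_order (X := ↥(sigmaCore Ms)) hpp hq hqp hX
        (b := ⟨b, hmemσ b hb⟩) (c := ⟨c, hcH⟩) (Subtype.ext (by simpa using hA.2 b hb))
      apply h2
      have e : orderOf ((⟨b, hmemσ b hb⟩ : ↥(sigmaCore Ms)) * ⟨c, hcH⟩ * (⟨b, hmemσ b hb⟩)⁻¹ *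
          (⟨c, hcH⟩)⁻¹) = orderOf (b * c * b⁻¹ * c⁻¹) := by
        rw [← Subgroup.orderOf_coe]
        rfl
      rw [e]
      exact hqd
    have h3 := bg123_conj_pow hc (key a ha) p
    rw [hA.2 a ha] at h3
    have h4 : c ^ p = 1 := by
      have : x = c ^ p * x := by simpa using h3
      exact (mul_eq_right.mp this.symm)
    exact bg123_eq_one_of_coprime hcM h4 ((Nat.Prime.coprime_iff_not_dvd hpp).mpr hpM)
  · have h11 : BG11Hyp Ms A₀ A p := ⟨hMs, hpH, hcA₀, hN, hA₀, hA, hcard⟩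
    refine bg123_exc_core hG hU hpl hM hne hAM h11 (h117 h11) ha hxH hc hcM
      (n := Nat.card (sigmaCore M)) ?_ ?_
    · exact orderOf_dvd_iff_pow_eq_one.mp (Subgroup.orderOf_dvd_natCard _ hcM)
    · exact ((Nat.Prime.coprime_iff_not_dvd hpp).mpr hpM).symm

/-- **B&G Lemma 12.3(b)** (with B&G 11.7 for `M*` as a hypothesis). -/
theorem bg123_alpha (hG : IsMinSimpleOddOrder G) (hU : BGUniq G) (hpl : BGPLen G)
    {p : ℕ} [Fact p.Prime] {M Ms A₀ A : Subgroup G}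
    (hM : IsCoatom M) (hMs : IsCoatom Ms) (hne : Ms ≠ M) (hAM : A ≤ M)
    (hA : IsElementaryAbelian p A) (hcard : Nat.card A = p ^ 2) (hA₀ : A₀ ≤ A)
    (hcA₀ : Nat.card A₀ = p) (hN : normalizer (A₀ : Set G) ≤ Ms)
    (h117 : BG11Hyp Ms A₀ A p → Ms ≤ normalizer ((sigmaCore Ms ⊔ A : Subgroup G) : Set G))
    (hp : p ∉ alpha M) :
    ∀ x ∈ alphaCore M ⊓ Ms, ∀ a ∈ A, a * x = x * a := by
  have hpp : p.Prime := Fact.out
  have hCA₀ : centralizer (A₀ : Set G) ≤ Ms := (centralizer_le_normalizer _).trans hN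
  have hAH : A ≤ Ms := by
    intro a ha
    apply hCA₀
    rw [mem_centralizer_iff]
    intro b hb
    exact bg11_elemAb_comm hA b (hA₀ hb) a ha
  have hA₀p : IsPGroup p A₀ := IsPGroup.of_card (n := 1) (by rw [hcA₀, pow_one])
  have hA₀1 : A₀ ≠ ⊥ := by
    intro e
    rw [e, Subgroup.card_bot] at hcA₀
    exact hpp.one_lt.ne hcA₀
  have hpM : ¬ p ∣ Nat.card (alphaCore M) :=
    fun h => hp (mem_of_dvd_card_piCoreOf (alpha M) M hpp h)
  intro x hx a ha
  have hxM : x ∈ alphaCore M := hx.1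
  have hxH : x ∈ Ms := hx.2
  apply bg123_comm_of_eq_one
  obtain ⟨c, hc⟩ : ∃ c : G, c = a * x * a⁻¹ * x⁻¹ := ⟨_, rfl⟩
  rw [← hc]
  have hcM : c ∈ alphaCore M := by
    rw [hc]
    exact mul_mem ((mem_normalizer_iff.mp (le_normalizer_piCoreOf (alpha M) M (hAM ha)) x).mp hxM)
      (inv_mem hxM)
  by_cases hpH : p ∈ sigma Ms
  · have haσ : a ∈ sigmaCore Ms := bg123_mem_sigmaCore hG hU hMs hpH (hAH ha) (hA.2 a ha)
    have hcH : c ∈ sigmaCore Ms := by
      have h1 : x * a⁻¹ * x⁻¹ ∈ sigmaCore Ms :=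
        (mem_normalizer_iff.mp (le_normalizer_piCoreOf (sigma Ms) Ms hxH) a⁻¹).mp (inv_mem haσ)
      have e : c = a * (x * a⁻¹ * x⁻¹) := by rw [hc]; group
      rw [e]
      exact mul_mem haσ h1
    by_contra hc1
    have hord : orderOf c ≠ 1 := fun h => hc1 (orderOf_eq_one_iff.mp h)
    obtain ⟨q, hq, hqd⟩ := Nat.exists_prime_and_dvd hord
    have hqα : q ∈ alpha M := mem_of_dvd_card_piCoreOf (alpha M) M hq
      (hqd.trans (Subgroup.orderOf_dvd_natCard _ hcM))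
    have hqσ : q ∈ sigma Ms := mem_of_dvd_card_piCoreOf (sigma Ms) Ms hq
      (hqd.trans (Subgroup.orderOf_dvd_natCard _ hcH))
    obtain ⟨y, hy⟩ := bg123_conj_of_alpha_sigma hG hU hM hMs hqα hqσ
    have hM' : M = MulAut.conj y⁻¹ • Ms := by
      rw [← hy, conj_smul_conj_smul, inv_mul_cancel, map_one, one_smul]
    have h1 : MulAut.conj y⁻¹ • Ms = Ms :=
      bg123_conj_eq_self hG hU hMs hpH hA₀p hA₀1 (hA₀.trans hAH) hCA₀
        (hM' ▸ (hA₀.trans hAM))
    exact hne (h1.symm.trans hM'.symm)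
  · have h11 : BG11Hyp Ms A₀ A p := ⟨hMs, hpH, hcA₀, hN, hA₀, hA, hcard⟩
    have hcσ : c ∈ sigmaCore M := (bg10_alpha_hall hG hU hM).2.2.1 hcM
    refine bg123_exc_core hG hU hpl hM hne hAM h11 (h117 h11) ha hxH hc hcσ
      (n := Nat.card (alphaCore M)) ?_ ?_
    · exact orderOf_dvd_iff_pow_eq_one.mp (Subgroup.orderOf_dvd_natCard _ hcM)
    · exact ((Nat.Prime.coprime_iff_not_dvd hpp).mpr hpM).symm

end Cfsg.Agent.Helper68
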