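/-
helper68: Bender–Glauberman Corollary 10.7(a) (statement S1410): in a minimal simple group of odd
order every proper subgroup has `p`-length at most one, for every prime `p`.

Inputs, as hypotheses: the Uniqueness Theorem (`Helper22.BGUniq G`, the type of `S1403.result hG`)
and B&G Theorem 3.6 (`BG36`, the statement of S1444).  For a maximal subgroup `M` with
`r_p(M) ≤ 2` this is S1450.  If `r_p(M) ≥ 3` then `M_α ≤ M'` is a normal Hall subgroup of `M`, so
`M_α = [M_α, R]` for a complement `R` (S1459); some prime `q` of `|M|` is not in `σ(M)`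
(else `M = M'`), B&G 10.4 gives `x ∈ M` of order `q` with `C_{M_α}(x)` a Z-group, `R` can be
chosen to contain `x`, and B&G 3.6 applies.  Namespace `Cfsg.Agent.Helper68`.
-/
import Mathlib
import Cfsg.Agent.Helper22.BG10d
import Cfsg.Agent.Helper23.Fit81b
import Cfsg.Agent.Helper63.PLength
import Cfsg.Agent.Helper1.Hall
import Cfsg.Agent.S1450
import Cfsg.Agent.S1459

set_option autoImplicit false
set_option linter.style.haveILetI false

namespace Cfsg.Agent.Helper68

open Cfsg Subgroup Cfsg.Agent.Helper22 Cfsg.Agent.Helper23 Cfsg.Agent.Helper63.PLen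

universe u

section BG107

/-- The statement of Bender–Glauberman Theorem 3.6 (S1444). -/
def BG36 : Prop :=
  ∀ {X : Type u} [Group X] [Finite X] [Group.IsSolvable X] (_ : Odd (Nat.card X))
    (H R R₀ : Subgroup X) [H.Normal] (_ : (Nat.card H).Coprime H.index)
    (_ : Subgroup.IsComplement' H R) (_ : R₀ ≤ R) (_ : (Nat.card R₀).Prime)
    (_ : IsZGroup ↥(H ⊓ Subgroup.centralizer (R₀ : Set X))) (p : ℕ) [Fact p.Prime],
    Cfsg.PLengthLE p 1 ↥⁅H, R⁆

/-- `p`-length one from `O_{p',p}(X)` of index prime to `p`. -/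
theorem bg107_pLengthLE_one_of_index {X : Type*} [Group X] [Finite X] (p : ℕ) [Fact p.Prime]
    (h : ((pPrimePCore p X).index).Coprime p) : PLengthLE p 1 X := by
  rw [pLengthLE_iff]
  have h1 : NChain p (⊥ : Subgroup X) 1 (pPrimeCore p X) := by
    refine nchain_succ.mpr ⟨⊥, nchain_zero.mpr rfl, bot_le, inferInstance, ?_⟩
    rw [fac_even ⟨0, rfl⟩, Subgroup.relIndex_bot_left]
    exact Cfsg.Agent.Helper24.coprime_card_pPrimeCore p
  have h2 : NChain p (⊥ : Subgroup X) 2 (pPrimePCore p X) := by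
    refine nchain_succ.mpr ⟨pPrimeCore p X, h1, ?_, ?_, ?_⟩
    · intro x hx
      show x ∈ (pCore p (X ⧸ pPrimeCore p X)).comap (QuotientGroup.mk' (pPrimeCore p X))
      rw [Subgroup.mem_comap]
      have : (QuotientGroup.mk' (pPrimeCore p X)) x = 1 := (QuotientGroup.eq_one_iff x).mpr hx
      rw [this]
      exact one_mem _
    · exact Subgroup.Normal.comap inferInstance _
    · rw [fac_odd (by decide)]
      have h3 : (pPrimeCore p X).relIndex (pPrimePCore p X) =
          Nat.card (pCore p (X ⧸ pPrimeCore p X)) := relIndex_comap_mk _ _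
      rw [h3]
      exact (IsPGroup.iff_card).mp (Cfsg.Agent.Helper24.isPGroup_pCore p _)
  refine nchain_succ.mpr ⟨pPrimePCore p X, h2, le_top, inferInstance, ?_⟩
  rw [fac_even ⟨1, rfl⟩, Subgroup.relIndex_top_right]
  exact h

variable {G : Type u} [Group G] [Finite G]

/-- A maximal subgroup `M` with `r_p(M) ≥ 3` has `p`-length one. -/
theorem bg107_plength_alpha (hG : IsMinSimpleOddOrder G) (hU : BGUniq G) (h36 : BG36.{u})
    {M : Subgroup G} (hM : IsCoatom M) (p : ℕ) [Fact p.Prime] (hpα : ¬ PRankLE p 2 ↥M) :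
    PLengthLE p 1 ↥M := by
  have hpp : p.Prime := Fact.out
  haveI hsolv := uq_isSolvable hG hM.1
  have hodd := uq_odd hG M
  have hασ := bg10_alpha_sub_sigma hG hU hM
  obtain ⟨hHallOf, -, -, -, -⟩ := bg10_alpha_hall hG hU hM
  obtain ⟨H, hHdef⟩ : ∃ H : Subgroup ↥M, H = piCore (alpha M) ↥M := ⟨_, rfl⟩
  haveI hHn : H.Normal := by rw [hHdef]; infer_instance
  have hHmap : alphaCore M = H.map M.subtype := by rw [hHdef]; rfl
  have hrel : (alphaCore M).relIndex M = H.index := by
    rw [hHmap]; exact bg10_relIndex_map_subtype M H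
  have hcardH : Nat.card ↥(alphaCore M) = Nat.card H := by
    rw [hHmap]; exact Subgroup.card_map_of_injective M.subtype_injective
  have hcop : (Nat.card H).Coprime H.index := by
    apply Nat.coprime_of_dvd
    intro r hr hr1 hr2
    have hrα : r ∈ alpha M := hHallOf.2.1 r hr (by rw [hcardH]; exact hr1)
    exact hHallOf.2.2 r hr hrα (by rw [hrel]; exact hr2)
  have hpα' : p ∈ alpha M := ⟨hpp, hpα⟩
  have hpidx : ¬ p ∣ H.index := by rw [← hrel]; exact hHallOf.2.2 p hpp hpα'
  -- `M_α ≤ M'`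
  have hHcomm : H ≤ commutator ↥M := by
    rw [← Subgroup.relIndex_eq_one]
    by_contra hne
    obtain ⟨r, hr, hrd⟩ := Nat.exists_prime_and_dvd hne
    haveI := Fact.mk hr
    have hrH : r ∣ Nat.card H := hrd.trans (Subgroup.relIndex_dvd_card _ _)
    have hrα : r ∈ alpha M := hHallOf.2.1 r hr (by rw [hcardH]; exact hrH)
    obtain ⟨-, -, P₀, hN⟩ := hασ hrα
    have hP₀c : (P₀ : Subgroup ↥M) ≤ commutator ↥M := bg10_sylow_le_commutator' hG hU hM P₀ hN
    exact bg10_not_dvd_index_of_sylow_le P₀ hP₀c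
      (hrd.trans (Subgroup.relIndex_dvd_index_of_normal _ _))
  -- a prime outside `σ(M)`
  have hM1 : M ≠ ⊥ := f81_ne_bot_of_not_pRankLE hpp hpα
  have hq : ∃ q : ℕ, q.Prime ∧ q ∣ Nat.card M ∧ q ∉ sigma M := by
    by_contra hcon
    push Not at hcon
    haveI : Nontrivial ↥M := (Subgroup.nontrivial_iff_ne_bot M).mpr hM1
    have hlt := Group.IsSolvable.commutator_lt_top_of_nontrivial ↥M
    apply hlt.ne
    rw [← Subgroup.index_eq_one]
    by_contra hne
    obtain ⟨r, hr, hrd⟩ := Nat.exists_prime_and_dvd hne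
    haveI := Fact.mk hr
    have hrM : r ∣ Nat.card M := hrd.trans (Subgroup.index_dvd_card _)
    obtain ⟨-, -, P₀, hN⟩ := hcon r hr hrM
    exact bg10_not_dvd_index_of_sylow_le P₀ (bg10_sylow_le_commutator' hG hU hM P₀ hN) hrd
  obtain ⟨q, hq, hqM, hqσ⟩ := hq
  haveI := Fact.mk hq
  obtain ⟨Q⟩ : Nonempty (Sylow q ↥M) := inferInstance
  obtain ⟨x, hxZ, hxo, hxZg, -⟩ := bg10_nonsigma_central hG hU hM hqM hqσ Q
  have hxM : x ∈ M := by
    obtain ⟨y, -, rfl⟩ := hxZ
    exact y.2
  obtain ⟨x₀, hx₀⟩ : ∃ x₀ : ↥M, (x₀ : G) = x := ⟨⟨x, hxM⟩, rfl⟩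
  have hx₀o : orderOf x₀ = q := by rw [← Subgroup.orderOf_coe, hx₀]; exact hxo
  have hqα : q ∉ alpha M := fun h => hqσ (hασ h)
  have hcard : Nat.card ↥M = H.index * Nat.card H := by
    rw [mul_comm]; exact (Subgroup.card_mul_index H).symm
  have hKcop : (Nat.card (zpowers x₀)).Coprime (Nat.card H) := by
    rw [Nat.card_zpowers, hx₀o]
    exact (Nat.Prime.coprime_iff_not_dvd hq).mpr
      (fun hd => hqα (hHallOf.2.1 q hq (by rw [hcardH]; exact hd)))
  obtain ⟨R, hRcard, hxR⟩ := Cfsg.Agent.Helper1.hall_le_aux (Nat.card ↥M) ↥M H.index (Nat.card H)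
    rfl hcard hcop.symm (zpowers x₀) hKcop
  have hR : Subgroup.IsComplement' H R :=
    Subgroup.isComplement'_of_coprime (by rw [hRcard]; exact Subgroup.card_mul_index H)
      (by rw [hRcard]; exact hcop)
  have hHR : H = ⁅H, R⁆ := ((Cfsg.Agent.S1459.result (G := ↥M)).1 H R hHn hcop hR hHcomm).1
  -- the Z-group condition
  have hZ : IsZGroup ↥(H ⊓ centralizer ((zpowers x₀ : Subgroup ↥M) : Set ↥M)) := by
    haveI := hxZg
    have hmem : ∀ y : ↥(H ⊓ centralizer ((zpowers x₀ : Subgroup ↥M) : Set ↥M)),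
        (M.subtype.comp (H ⊓ centralizer ((zpowers x₀ : Subgroup ↥M) : Set ↥M)).subtype) y ∈
          alphaCore M ⊓ centralizer ({x} : Set G) := by
      intro y
      refine ⟨?_, ?_⟩
      · rw [hHmap]
        exact ⟨(y : ↥M), y.2.1, rfl⟩
      · have h1 := Subgroup.mem_centralizer_iff.mp y.2.2 x₀ (mem_zpowers x₀)
        have h2 : (x₀ : G) * ((y : ↥M) : G) = ((y : ↥M) : G) * (x₀ : G) := congrArg Subtype.val h1
        rw [hx₀] at h2
        exact Subgroup.mem_centralizer_singleton_iff.mpr h2.symm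
    refine IsZGroup.of_injective (f := (M.subtype.comp
      (H ⊓ centralizer ((zpowers x₀ : Subgroup ↥M) : Set ↥M)).subtype).codRestrict _ hmem) ?_
    intro a b hab
    have h1 := congrArg (Subtype.val : ↥(alphaCore M ⊓ centralizer ({x} : Set G)) → G) hab
    exact Subtype.ext (Subtype.ext h1)
  have hprime : (Nat.card (zpowers x₀)).Prime := by rw [Nat.card_zpowers, hx₀o]; exact hq
  have h1 : PLengthLE p 1 ↥⁅H, R⁆ := h36 hodd H R (zpowers x₀) hcop hR hxR hprime hZ p
  rw [← hHR] at h1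
  have hc : (Nat.card (↥M ⧸ H)).Coprime p := by
    rw [← Subgroup.index_eq_card]
    exact ((Nat.Prime.coprime_iff_not_dvd hpp).mpr hpidx).symm
  exact pLengthLE_extension p H (a := 1) (b := 0) h1 (pLengthLE_of_coprime p hc)

/-- **Bender–Glauberman 10.7(a)**, from the Uniqueness Theorem and Theorem 3.6. -/
theorem bg107_plength_one (hG : IsMinSimpleOddOrder G) (hU : BGUniq G) (h36 : BG36.{u})
    (p : ℕ) [Fact p.Prime] (H : Subgroup G) (hH : H ≠ ⊤) : PLengthLE p 1 ↥H := by
  have hpp : p.Prime := Fact.out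
  obtain ⟨M, hM, hHM⟩ := uq_exists_coatom_ge hH
  have hMp : PLengthLE p 1 ↥M := by
    by_cases hr : PRankLE p 2 ↥M
    · by_cases hpM : p ∣ Nat.card ↥M
      · haveI := uq_isSolvable hG hM.1
        exact bg107_pLengthLE_one_of_index p
          (Cfsg.Agent.S1450.result (uq_odd hG M) p hpM hr).2.2.2.2.2
      · exact pLengthLE_mono p (Nat.zero_le 1)
          (pLengthLE_of_coprime p ((Nat.Prime.coprime_iff_not_dvd hpp).mpr hpM).symm)
    · exact bg107_plength_alpha hG hU h36 hM p hr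
  have h1 : PLengthLE p 1 ↥(H.subgroupOf M) := pLengthLE_subgroup p (H.subgroupOf M) hMp
  exact pLengthLE_of_surjective p (Subgroup.subgroupOfEquivOfLe hHM).toMonoidHom
    (Subgroup.subgroupOfEquivOfLe hHM).surjective h1

end BG107

end Cfsg.Agent.Helper68
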