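/-
helper68: Bender–Glauberman Proposition 12.4 (statement S1416), assembled from Lemma 12.3
(`Helper68/BG123`) and helper23's two lemmas (`Helper23/BG12b`).  B&G 11.7 (`h117`), `M_σ ≠ 1`
(`hσne`) and the two parts of S1414 used (`BGSigmaCompl`, `BGSigmaNil`) are hypotheses.
-/
import Cfsg.Agent.Helper68.BG123
import Cfsg.Agent.Helper23.BG12b

set_option autoImplicit false
set_option linter.style.haveILetI false
set_option linter.unusedSectionVars false

namespace Cfsg.Agent.Helper68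

open Cfsg Subgroup Cfsg.Agent.Helper22 Cfsg.Agent.Helper23 Cfsg.Agent.Helper35
open scoped Pointwise

universe u

variable {G : Type u} [Group G] [Finite G]

/-- A part of S1414 (B&G 10.8): the Hall `β(M)'`-subgroups of `M_σ` are nilpotent. -/
def BGSigmaNil (G : Type u) [Group G] : Prop :=
  ∀ M : Subgroup G, IsCoatom M →
    ∃ H : Subgroup G, IsPiHallOf {q | q.Prime ∧ q ∉ beta M} H (sigmaCore M) ∧ Group.IsNilpotent H

/-- An element `a ≠ 1` with `a ^ p = 1` generates a subgroup of order `p`. -/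
theorem bg124_card_zpowers {p : ℕ} [Fact p.Prime] {a : G} (ha : a ^ p = 1) (ha1 : a ≠ 1) :
    Nat.card (zpowers a) = p := by
  rw [Nat.card_zpowers]
  exact orderOf_eq_prime ha ha1

/-- If `A ≤ M` lies in a unique maximal subgroup, then every nontrivial `A₀ ≤ A` has its
normalizer in `M` and in no other maximal subgroup. -/
theorem bg124_uniq_of_inUnique (hG : IsMinSimpleOddOrder G) {M A A₀ : Subgroup G}
    (hM : IsCoatom M) (hAM : A ≤ M) {p : ℕ} (hA : IsElementaryAbelian p A)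
    (huniq : InUniqueMaximal A) (hA₀ : A₀ ≤ A) (hA₀1 : A₀ ≠ ⊥) :
    normalizer (A₀ : Set G) ≤ M ∧
      ∀ L : Subgroup G, IsCoatom L → normalizer (A₀ : Set G) ≤ L → L = M := by
  haveI := hG.2.1
  obtain ⟨M', -, hu⟩ := huniq
  have e : M = M' := hu M ⟨hM, hAM⟩
  have hAN : A ≤ normalizer (A₀ : Set G) := by
    refine le_trans ?_ (centralizer_le_normalizer _)
    intro a ha
    rw [mem_centralizer_iff]
    intro b hb
    exact bg11_elemAb_comm hA b (hA₀ hb) a ha
  have hA₀top : A₀ ≠ ⊤ := fun h => hM.1 (top_le_iff.mp (h ▸ hA₀.trans hAM))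
  have key : ∀ L : Subgroup G, IsCoatom L → normalizer (A₀ : Set G) ≤ L → L = M := by
    intro L hL hNL
    rw [e]
    exact hu L ⟨hL, hAN.trans hNL⟩
  obtain ⟨L₀, hL₀, hNL₀⟩ := uq_exists_coatom_ge (normalizer_ne_top_of_simple hA₀1 hA₀top)
  refine ⟨?_, key⟩
  rw [← key L₀ hL₀ hNL₀]
  exact hNL₀

/-- If `p ∈ α(M)`, some subgroup `A₀ ≤ A` of order `p` has its normalizer in `M` and in no
other maximal subgroup. -/
theorem bg124_exists_uniq_of_alpha (hG : IsMinSimpleOddOrder G) (hU : BGUniq G) {M A : Subgroup G}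
    (hM : IsCoatom M) {p : ℕ} [Fact p.Prime] (hpα : p ∈ alpha M) (hAM : A ≤ M)
    (hA : IsElementaryAbelian p A) (hAc : Nat.card A = p ^ 2) :
    ∃ A₀ : Subgroup G, A₀ ≤ A ∧ Nat.card A₀ = p ∧ normalizer (A₀ : Set G) ≤ M ∧
      ∀ L : Subgroup G, IsCoatom L → normalizer (A₀ : Set G) ≤ L → L = M := by
  haveI := hG.2.1
  have hp : p.Prime := Fact.out
  obtain ⟨P, hP, hAP⟩ := exists_isSylowOf_ge (bg11_isPGroup_of_elemAb hA) hAM
  have hrP : ¬ PRankLE p 2 ↥P := fun h => hpα.2 (pRankLE_of_isSylowOf hP h)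
  have hA1 : A ≠ ⊥ := by
    intro e
    rw [e, Subgroup.card_bot] at hAc
    have := hp.one_lt
    nlinarith
  have hP1 : P ≠ ⊥ := fun e => hA1 (le_bot_iff.mp (e ▸ hAP))
  obtain ⟨z, hz, hz1⟩ := bg11_exists_ne_one (omegaCenter_ne_bot hP.2.1 hP1)
  obtain ⟨hzP, hzC, hzp⟩ := hz
  by_cases hzA : z ∈ A
  · have hle : zpowers z ≤ A := zpowers_le.mpr hzA
    have hPN : P ≤ normalizer ((zpowers z : Subgroup G) : Set G) := by
      refine le_trans ?_ (centralizer_le_normalizer _)
      rw [bg10_centralizer_zpowers]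
      intro x hx
      rw [mem_centralizer_iff]
      intro y hy
      rw [Set.mem_singleton_iff] at hy
      rw [hy]
      exact (mem_centralizer_iff.mp hzC x hx).symm
    have huq := bg10_uniq_of_rank3 hU hp hM hP.1 hrP
    have h1 : (zpowers z : Subgroup G) ≠ ⊥ := by
      intro e
      exact hz1 (zpowers_eq_bot.mp e)
    have h2 : (zpowers z : Subgroup G) ≠ ⊤ := fun h => hM.1 (top_le_iff.mp (h ▸ hle.trans hAM))
    obtain ⟨L₀, hL₀, hNL₀⟩ := uq_exists_coatom_ge (normalizer_ne_top_of_simple h1 h2)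
    refine ⟨zpowers z, hle, bg124_card_zpowers hzp hz1, ?_, ?_⟩
    · rw [← huq L₀ hL₀ (hPN.trans hNL₀)]
      exact hNL₀
    · intro L hL hNL
      exact huq L hL (hPN.trans hNL)
  · have hcomm : ∀ a ∈ A, ∀ b ∈ zpowers z, a * b = b * a := by
      intro a ha b hb
      obtain ⟨k, rfl⟩ := mem_zpowers_iff.mp hb
      have h1 : Commute a z := mem_centralizer_iff.mp hzC a (hAP ha)
      exact (h1.zpow_right k).eq
    have hB : IsElementaryAbelian p (A ⊔ zpowers z) :=
      bg11_sup_elemAb hA (bg11_zpowers_elemAb hzp) hcomm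
    have hBC : A ⊔ zpowers z ≤ centralizer (A : Set G) := by
      refine sup_le (e4_le_centralizer hA) ?_
      intro b hb
      rw [mem_centralizer_iff]
      intro a ha
      exact hcomm a ha b hb
    have hlt : Nat.card A < Nat.card ↥(A ⊔ zpowers z) := by
      by_contra hge
      push Not at hge
      have h1 : A = A ⊔ zpowers z := Subgroup.eq_of_le_of_card_ge le_sup_left hge
      apply hzA
      rw [h1]
      exact (le_sup_right : zpowers z ≤ A ⊔ zpowers z) (mem_zpowers z)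
    have hnr : ¬ RankLE 2 ↥(centralizer (A : Set G)) := by
      intro h
      have h2 := bg12_card_le_of_pRankLE (h p hp) hBC hB
      omega
    have hAtop : A ≠ ⊤ := fun e => hM.1 (top_le_iff.mp (e ▸ hAM))
    have huniq := hU A hAtop (bg12_not_rankLE_one hA hAc) (Or.inr hnr)
    obtain ⟨a, haA, ha1⟩ := bg11_exists_ne_one hA1
    have hle : zpowers a ≤ A := zpowers_le.mpr haA
    have h1 : (zpowers a : Subgroup G) ≠ ⊥ := fun e => ha1 (zpowers_eq_bot.mp e)
    exact ⟨zpowers a, hle, bg124_card_zpowers (hA.2 a haA) ha1,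
      bg124_uniq_of_inUnique hG hM hAM hA huniq hle h1⟩

/-- Coprime generation: if `A` (elementary abelian of order `p ^ 2`) acts coprimely on `K` and
centralizes `C_K(A₀)` for every `A₀ ≤ A` of order `p`, then `A` centralizes `K`. -/
theorem bg124_centralizes_of_gen {p : ℕ} [Fact p.Prime] {A K : Subgroup G}
    (hA : IsElementaryAbelian p A) (hAc : Nat.card A = p ^ 2)
    (hAK : A ≤ normalizer (K : Set G)) (hcop : (Nat.card A).Coprime (Nat.card K))
    (h : ∀ A₀ : Subgroup G, A₀ ≤ A → Nat.card A₀ = p →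
      ∀ x ∈ K ⊓ centralizer (A₀ : Set G), ∀ a ∈ A, a * x = x * a) :
    ∀ x ∈ K, ∀ a ∈ A, a * x = x * a := by
  have hp : p.Prime := Fact.out
  have hnc : ¬ ∃ a ∈ A, zpowers a = A := by
    rintro ⟨a, ha, e⟩
    have h1 : Nat.card (zpowers a) ≤ p := by
      rw [Nat.card_zpowers]
      exact Nat.le_of_dvd hp.pos (orderOf_dvd_of_pow_eq_one (hA.2 a ha))
    rw [e, hAc] at h1
    have := hp.one_lt
    nlinarith
  have hgen := coprime_gen_nonidentity (bg11_elemAb_comm hA) hnc hAK hcop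
  have hle : K ≤ centralizer (A : Set G) := by
    rw [hgen]
    refine iSup₂_le ?_
    rintro B ⟨hBA, hB1⟩
    obtain ⟨b, hbB, hb1⟩ := bg11_exists_ne_one hB1
    have hbA : b ∈ A := hBA hbB
    intro x hx
    rw [mem_centralizer_iff]
    intro a ha
    refine (h (zpowers b) (zpowers_le.mpr hbA) (bg124_card_zpowers (hA.2 b hbA) hb1) x ?_ a ha)
    refine ⟨hx.1, ?_⟩
    exact centralizer_le (by exact_mod_cast (zpowers_le.mpr hbB)) hx.2
  intro x hx a ha
  exact mem_centralizer_iff.mp (hle hx) a ha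

/-- **B&G Proposition 12.4** (= S1416), with B&G 11.7 (`h117`), `M_σ ≠ 1` (`hσne`) and the two
parts of S1414 as hypotheses. -/
theorem bg124 (hG : IsMinSimpleOddOrder G) (hU : BGUniq G) (hpl : BGPLen G)
    (hβ : BGSigmaCompl G) (hnilβ : BGSigmaNil G) {p : ℕ} [Fact p.Prime] {M A : Subgroup G}
    (hM : IsCoatom M) (hAM : A ≤ M) (hA : IsElementaryAbelian p A) (hAc : Nat.card A = p ^ 2)
    (hσne : sigmaCore M ≠ ⊥)
    (h117 : ∀ Ms A₀ : Subgroup G, BG11Hyp Ms A₀ A p →
      Ms ≤ normalizer ((sigmaCore Ms ⊔ A : Subgroup G) : Set G)) :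
    centralizer (A : Set G) ≤ M ∧
      ((∀ A₀ : Subgroup G, A₀ ≤ A → Nat.card A₀ = p →
          ¬ (normalizer (A₀ : Set G) ≤ M ∧
            ∀ L : Subgroup G, IsCoatom L → normalizer (A₀ : Set G) ≤ L → L = M)) →
        p ∈ sigma M ∧ alphaCore M = ⊥ ∧ Group.IsNilpotent (sigmaCore M)) := by
  haveI := hG.2.1
  have hp : p.Prime := Fact.out
  have hA1 : A ≠ ⊥ := by
    intro e
    rw [e, Subgroup.card_bot] at hAc
    have := hp.one_lt
    nlinarith
  have hAtop : A ≠ ⊤ := fun e => hM.1 (top_le_iff.mp (e ▸ hAM))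
  by_cases hH : ∀ A₀ : Subgroup G, A₀ ≤ A → Nat.card A₀ = p →
      ¬ (normalizer (A₀ : Set G) ≤ M ∧
        ∀ L : Subgroup G, IsCoatom L → normalizer (A₀ : Set G) ≤ L → L = M)
  · -- hypothesis (H)
    have hpα : p ∉ alpha M := by
      intro h
      obtain ⟨A₀, hA₀, hc, hu⟩ := bg124_exists_uniq_of_alpha hG hU hM h hAM hA hAc
      exact hH A₀ hA₀ hc hu
    -- for every `A₀` a maximal subgroup `M* ≠ M` over `N(A₀)`
    have hchoice : ∀ A₀ : Subgroup G, A₀ ≤ A → Nat.card A₀ = p →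
        ∃ Ms : Subgroup G, IsCoatom Ms ∧ Ms ≠ M ∧ normalizer (A₀ : Set G) ≤ Ms := by
      intro A₀ hA₀ hc
      have hA₀1 : A₀ ≠ ⊥ := by
        intro e
        rw [e, Subgroup.card_bot] at hc
        exact hp.one_lt.ne hc
      have hA₀top : A₀ ≠ ⊤ := fun h => hM.1 (top_le_iff.mp (h ▸ hA₀.trans hAM))
      obtain ⟨L₀, hL₀, hNL₀⟩ := uq_exists_coatom_ge (normalizer_ne_top_of_simple hA₀1 hA₀top)
      by_cases hL₀M : L₀ = M
      · have h1 := hH A₀ hA₀ hc
        by_contra hno
        apply h1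
        refine ⟨hL₀M ▸ hNL₀, ?_⟩
        intro L hL hNL
        by_contra hLM
        exact hno ⟨L, hL, hLM, hNL⟩
      · exact ⟨L₀, hL₀, hL₀M, hNL₀⟩
    have hAnα : A ≤ normalizer (alphaCore M : Set G) :=
      hAM.trans (le_normalizer_piCoreOf (alpha M) M)
    have hAnσ : A ≤ normalizer (sigmaCore M : Set G) :=
      hAM.trans (le_normalizer_piCoreOf (sigma M) M)
    have hcopα : (Nat.card A).Coprime (Nat.card (alphaCore M)) := by
      rw [hAc]
      apply Nat.Coprime.pow_left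
      rw [Nat.Prime.coprime_iff_not_dvd hp]
      exact fun hd => hpα (mem_of_dvd_card_piCoreOf (alpha M) M hp hd)
    -- `A` centralizes `M_α`
    have hcentα : ∀ x ∈ alphaCore M, ∀ a ∈ A, a * x = x * a := by
      apply bg124_centralizes_of_gen hA hAc hAnα hcopα
      intro A₀ hA₀ hc x hx a ha
      obtain ⟨Ms, hMs, hne, hN⟩ := hchoice A₀ hA₀ hc
      exact bg123_alpha hG hU hpl hM hMs hne hAM hA hAc hA₀ hc hN (h117 Ms A₀) hpα x
        ⟨hx.1, hN (centralizer_le_normalizer _ hx.2)⟩ a ha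
    have hαC : alphaCore M ≤ centralizer (A : Set G) := by
      intro x hx
      rw [mem_centralizer_iff]
      intro a ha
      exact hcentα x hx a ha
    obtain ⟨hαHall, -, hασ, -, -⟩ := bg10_alpha_hall hG hU hM
    -- `α(M) = ∅`
    have hα : ∀ q : ℕ, q ∉ alpha M := by
      intro q hqα
      have hq : q.Prime := hqα.1
      obtain ⟨E, hEM, hEc, hEp, hEcard⟩ := exists_elemAb_of_not_pRankLE hqα.2
      have hEα : E ≤ alphaCore M := by
        intro e he
        exact bg123_mem_of_coprime (le_normalizer_piCoreOf (alpha M) M) (hEM he) (hEp e he)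
          ((Nat.Prime.coprime_iff_not_dvd hq).mpr (hαHall.2.2 q hq hqα))
      have hnr : ¬ RankLE 2 ↥(centralizer (A : Set G)) := by
        intro h
        have h2 := bg12_card_le_of_pRankLE (h q hq) (hEα.trans hαC) ⟨hEc, hEp⟩
        omega
      have huniq := hU A hAtop (bg12_not_rankLE_one hA hAc) (Or.inr hnr)
      obtain ⟨a, haA, ha1⟩ := bg11_exists_ne_one hA1
      have hle : zpowers a ≤ A := zpowers_le.mpr haA
      have h1 : (zpowers a : Subgroup G) ≠ ⊥ := fun e => ha1 (zpowers_eq_bot.mp e)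
      exact hH (zpowers a) hle (bg124_card_zpowers (hA.2 a haA) ha1)
        (bg124_uniq_of_inUnique hG hM hAM hA huniq hle h1)
    have hα0 : alphaCore M = ⊥ := by
      by_contra hne
      have hc1 : Nat.card ↥(alphaCore M) ≠ 1 := fun e => hne (Subgroup.card_eq_one.mp e)
      obtain ⟨q, hq, hqd⟩ := Nat.exists_prime_and_dvd hc1
      exact hα q (mem_of_dvd_card_piCoreOf (alpha M) M hq hqd)
    -- `p ∈ σ(M)`
    have hpσ : p ∈ sigma M := by
      by_contra hpσ
      have hcopσ : (Nat.card A).Coprime (Nat.card (sigmaCore M)) := by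
        rw [hAc]
        apply Nat.Coprime.pow_left
        rw [Nat.Prime.coprime_iff_not_dvd hp]
        exact fun hd => hpσ (mem_of_dvd_card_piCoreOf (sigma M) M hp hd)
      have hcentσ : ∀ x ∈ sigmaCore M, ∀ a ∈ A, a * x = x * a := by
        apply bg124_centralizes_of_gen hA hAc hAnσ hcopσ
        intro A₀ hA₀ hc x hx a ha
        obtain ⟨Ms, hMs, hne, hN⟩ := hchoice A₀ hA₀ hc
        exact bg123_sigma hG hU hpl hβ hM hMs hne hAM hA hAc hA₀ hc hN (h117 Ms A₀) hpσ x
          ⟨hx.1, hN (centralizer_le_normalizer _ hx.2)⟩ a ha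
      exact bg12_tau2_false hG hU hpl hM hpσ hAM hA hAc hσne
        (fun a ha x hx => hcentσ x hx a ha)
    -- `M_σ` is nilpotent
    have hnil : Group.IsNilpotent ↥(sigmaCore M) := by
      obtain ⟨H, hHall, hnilH⟩ := hnilβ M hM
      have hle : sigmaCore M ≤ H := by
        rw [← Subgroup.relIndex_eq_one]
        by_contra hne
        obtain ⟨q, hq, hqd⟩ := Nat.exists_prime_and_dvd hne
        exact hHall.2.2 q hq ⟨hq, fun hβq => hα q hβq.1⟩ hqd
      have e : H = sigmaCore M := le_antisymm hHall.1 hle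
      rw [← e]
      exact hnilH
    exact ⟨bg12_centralizer_le_of_sigma hG hU hM hpσ hnil (bg10_pRank_of_not_alpha M p hp hpα)
      hAM hA hAc, fun _ => ⟨hpσ, hα0, hnil⟩⟩
  · -- some `A₀` has `ℳ(N(A₀)) = {M}`
    refine ⟨?_, fun h => absurd h hH⟩
    push Not at hH
    obtain ⟨A₀, hA₀, -, hN, -⟩ := hH
    refine le_trans ?_ ((centralizer_le_normalizer _).trans hN)
    exact centralizer_le (by exact_mod_cast hA₀)

end Cfsg.Agent.Helper68
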