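/-
helper68: Bender–Glauberman Theorem 13.4 (row S1428): the "bad configuration" and the
inputs from the landed rows S1403, S1414, S1417, S1418 in the hypothesis shapes used by the
section 12/13 libraries.
-/
import Cfsg.Agent.Helper54.BG13b
import Cfsg.Agent.Helper62.BG12d
import Cfsg.Agent.Helper55.BGFpf
import Cfsg.Agent.Helper35.CoprimeSylow
import Cfsg.Agent.Helper35.CoprimeQuot
import Cfsg.Agent.Helper49.BG14U
import Cfsg.Agent.S1403
import Cfsg.Agent.S1405
import Cfsg.Agent.S1406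
import Cfsg.Agent.S1408
import Cfsg.Agent.S1409
import Cfsg.Agent.S1411
import Cfsg.Agent.S1414
import Cfsg.Agent.S1415
import Cfsg.Agent.S1417
import Cfsg.Agent.S1418
import Cfsg.Agent.S1420
import Cfsg.Agent.S1422
import Cfsg.Agent.S1423
import Cfsg.Agent.S1424

set_option autoImplicit false

namespace Cfsg.Agent.Helper68

open Cfsg Subgroup Cfsg.Agent.Helper23 Cfsg.Agent.Helper35 Cfsg.Agent.Helper22
open scoped Pointwise commutatorElement

universe u

variable {G : Type u} [Group G] [Finite G]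

/-- The configuration to be refuted for B&G Theorem 13.4: `p ∈ τ₁(M)`, `P ≤ M` of order `p`,
`R ≤ C_M(P)` of prime order `r ≠ p`, `r ∉ σ(M)`, `H` a maximal subgroup containing `N_G(P)`,
`q ∈ σ(M)` and `Q` an `R`-invariant Sylow `q`-subgroup of `C_{M_σ}(P)` not centralized
by `R`. -/
structure BadConf (M H P R Q : Subgroup G) (p r q : ℕ) : Prop where
  hM : IsCoatom M
  hH : IsCoatom H
  hp : p ∈ tau1 M
  hPM : P ≤ M
  hP : Nat.card P = p
  hRM : R ≤ M
  hR : Nat.card R = r
  hr : r.Prime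
  hrp : r ≠ p
  hrσ : r ∉ sigma M
  hRP : R ≤ centralizer (P : Set G)
  hNP : normalizer (P : Set G) ≤ H
  hq : q ∈ sigma M
  hQ : IsSylowOf q Q (sigmaCore M ⊓ centralizer (P : Set G))
  hRQ : R ≤ normalizer (Q : Set G)
  hQR : ¬ R ≤ centralizer (Q : Set G)

/-- The Uniqueness Theorem (row S1403) in the shape `BGUniq`. -/
theorem bg134_uniq (hG : IsMinSimpleOddOrder G) : BGUniq G :=
  fun K hK h1 h2 => Cfsg.Agent.S1403.result hG K hK h1 h2

/-- Row S1414 in the shape `BGSigmaCompl`. -/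
theorem bg134_sigmaCompl (hG : IsMinSimpleOddOrder G) : BGSigmaCompl G :=
  fun M hM q hq hqM hqβ => ((Cfsg.Agent.S1414.result hG M hM).2.2.2.2 q hq hqM hqβ).2.1

/-- Row S1417 in the shape `Helper54.BG1417`. -/
theorem bg134_h1417 (hG : IsMinSimpleOddOrder G) : Cfsg.Agent.Helper54.BG1417 G :=
  fun M hM p _ hp A hA => Cfsg.Agent.S1417.result hG M hM p hp A hA

/-- Row S1418 (normality part) in the shape `Helper54.BG1418a`. -/
theorem bg134_h1418a (hG : IsMinSimpleOddOrder G) : Cfsg.Agent.Helper54.BG1418a G :=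
  fun M hM E hE p _ hp A hAE hA hAc =>
    (Cfsg.Agent.S1418.result hG M hM E hE p hp A ⟨hAE, hA, hAc⟩).1.1

end Cfsg.Agent.Helper68
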