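/-
helper68: pieces CTX, AD, OV, TO, EQ of helper2's CALL S1428 (B&G Theorem 13.4).
-/
import Cfsg.Agent.Helper2.BG13Defs
import Cfsg.Agent.Helper68.BG134Defs

set_option autoImplicit false
set_option linter.style.haveILetI false
set_option linter.unusedSectionVars false

namespace Cfsg.Agent.Helper68

open Cfsg Subgroup Cfsg.Agent.Helper2 Cfsg.Agent.Helper23 Cfsg.Agent.Helper35 Cfsg.Agent.Helper22
open scoped Pointwise commutatorElement

universe u

variable {G : Type u} [Group G] [Finite G]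

/-- PIECE AD: `α(H) ∩ σ(M) = ∅` for non-conjugate maximal subgroups. -/
theorem bg13_alpha_disjoint (hG : IsMinSimpleOddOrder G) {M H : Subgroup G} (hM : IsCoatom M)
    (hH : IsCoatom H) (hnc : ∀ g : G, H ≠ M.map (MulAut.conj g).toMonoidHom) {q : ℕ}
    (hqM : q ∈ sigma M) : q ∉ alpha H :=
  fun hα => Cfsg.Agent.Helper49.bg1216_alpha_disjoint (bg134_uniq hG) hM hH hnc hα hqM

/-- PIECE OV: a maximal subgroup over the normalizer of a subgroup of prime order. -/
theorem bg13_exists_over (hG : IsMinSimpleOddOrder G) {X : Subgroup G} {q : ℕ} (hq : q.Prime)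
    (hX : Nat.card X = q) : ∃ L : Subgroup G, IsCoatom L ∧ normalizer (X : Set G) ≤ L := by
  haveI : IsSimpleGroup G := hG.2.1
  haveI : Fact q.Prime := ⟨hq⟩
  have hX1 : X ≠ ⊥ := by
    rintro rfl
    rw [Subgroup.card_bot] at hX
    exact hq.one_lt.ne hX
  have hXtop : X ≠ ⊤ := by
    rintro rfl
    rw [Subgroup.card_top] at hX
    haveI : IsCyclic G := isCyclic_of_prime_card hX
    exact hG.2.2.1 IsCyclic.isMulCommutative
  exact uq_exists_coatom_ge (normalizer_ne_top_of_simple hX1 hXtop)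

/-- PIECE TO (S1409): the type of `q` in a maximal subgroup over `N_G(X)`, `|X| = q`. -/
theorem bg13_type_over (hG : IsMinSimpleOddOrder G) {L X : Subgroup G} {q : ℕ} (hL : IsCoatom L)
    (hq : q.Prime) (hX : Nat.card X = q) (hNX : normalizer (X : Set G) ≤ L) :
    q ∈ sigma L ∨ q ∈ tau2 L := by
  haveI : Fact q.Prime := ⟨hq⟩
  by_cases hσ : q ∈ sigma L
  · exact Or.inl hσ
  · obtain ⟨⟨h2, h1⟩, -⟩ := bg10_nonsigma_normalizer hG (bg134_uniq hG) hL hσ hX hNX
    exact Or.inr ⟨hq, hσ, h2, h1⟩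

/-- A subgroup of prime order is commutative. -/
theorem bg13_comm_of_card_prime {P : Subgroup G} {p : ℕ} (hp : p.Prime) (hP : Nat.card P = p) :
    ∀ a ∈ P, ∀ b ∈ P, a * b = b * a := by
  haveI : Fact p.Prime := ⟨hp⟩
  haveI : IsCyclic P := isCyclic_of_prime_card hP
  intro a ha b hb
  have h := (IsCyclic.isMulCommutative (α := ↥P)).is_comm.comm ⟨a, ha⟩ ⟨b, hb⟩
  exact congrArg Subtype.val h

/-- Elements of a subgroup of order `p` have `p`-th power `1`. -/
theorem bg13_pow_eq_one_of_card {P : Subgroup G} {p : ℕ} (hP : Nat.card P = p) {x : G}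
    (hx : x ∈ P) : x ^ p = 1 := by
  have h := pow_card_eq_one' (G := ↥P) (x := ⟨x, hx⟩)
  rw [hP] at h
  exact congrArg Subtype.val h

/-- PIECE EQ: the case `r = p`. -/
theorem bg13_eq_of_card (hG : IsMinSimpleOddOrder G) {M E P R : Subgroup G} {p : ℕ}
    (hM : IsCoatom M) (hE : IsComplIn E (sigmaCore M) M) (hp : p ∈ tau1 M) (hPE : P ≤ E)
    (hP : Nat.card P = p) (hRE : R ≤ E) (hRP : R ≤ centralizer (P : Set G))
    (hR : Nat.card R = p) : R = P := by
  have hpp := hp.1
  have hPM : P ≤ M := hPE.trans hE.1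
  have hRM : R ≤ M := hRE.trans hE.1
  have hPc := bg13_comm_of_card_prime hpp hP
  have hRc := bg13_comm_of_card_prime hpp hR
  have hPP : P ≤ centralizer (P : Set G) := by
    intro x hx
    rw [mem_centralizer_iff]
    intro y hy
    exact hPc y hy x hx
  have hRR : R ≤ centralizer (R : Set G) := by
    intro x hx
    rw [mem_centralizer_iff]
    intro y hy
    exact hRc y hy x hx
  have hPR : P ≤ centralizer (R : Set G) := Subgroup.le_centralizer_iff.mp hRP
  have hA : P ⊔ R ≤ centralizer ((P ⊔ R : Subgroup G) : Set G) := by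
    rw [sup_le_iff]
    constructor
    · rw [Subgroup.le_centralizer_iff]; exact sup_le hPP hRP
    · rw [Subgroup.le_centralizer_iff]; exact sup_le hPR hRR
  have hcomm : ∀ a ∈ P ⊔ R, ∀ b ∈ P ⊔ R, a * b = b * a := by
    intro a ha b hb
    exact ((mem_centralizer_iff.mp (hA ha)) b hb).symm
  have hinst : IsMulCommutative ↥(P ⊔ R : Subgroup G) :=
    ⟨⟨fun a b => Subtype.ext (hcomm a a.2 b b.2)⟩⟩
  let W : Subgroup G :=
    { carrier := {x | x ∈ P ⊔ R ∧ x ^ p = 1}
      mul_mem' := by
        rintro a b ⟨ha, ha'⟩ ⟨hb, hb'⟩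
        refine ⟨mul_mem ha hb, ?_⟩
        have hc : Commute a b := hcomm a ha b hb
        rw [hc.mul_pow, ha', hb', one_mul]
      one_mem' := ⟨one_mem _, one_pow _⟩
      inv_mem' := by
        rintro a ⟨ha, ha'⟩
        exact ⟨inv_mem ha, by rw [inv_pow, ha', inv_one]⟩ }
  have hPW : P ≤ W := fun x hx => ⟨le_sup_left (a := P) (b := R) hx, bg13_pow_eq_one_of_card hP hx⟩
  have hRW : R ≤ W := fun x hx => ⟨le_sup_right (a := P) (b := R) hx, bg13_pow_eq_one_of_card hR hx⟩
  have hexp : ∀ a ∈ P ⊔ R, a ^ p = 1 := fun a ha => ((sup_le hPW hRW) ha).2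
  have hcard : Nat.card ↥(P ⊔ R : Subgroup G) ≤ p ^ 1 := by
    by_contra h
    exact Cfsg.Agent.Helper21.not_pRankLE_of_elemAb (sup_le hPM hRM) hinst hexp h hp.2.2.2.2
  rw [pow_one] at hcard
  have h1 : P = P ⊔ R := Subgroup.eq_of_le_of_card_ge le_sup_left (by rw [hP]; exact hcard)
  have hRleP : R ≤ P := by rw [h1]; exact le_sup_right
  exact Subgroup.eq_of_le_of_card_ge hRleP (by rw [hP, hR])

/-- PIECE CTX (S1409 + Lemma P = Helper54.bg13_prime_action_sigma / _nonsigma). -/
theorem bg13_ctx (hG : IsMinSimpleOddOrder G) {M P H : Subgroup G} {p : ℕ} (hM : IsCoatom M)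
    (hp : p ∈ tau1 M) (hPM : P ≤ M) (hP : Nat.card P = p) (hH : IsCoatom H)
    (hNP : normalizer (P : Set G) ≤ H) :
    (∀ g : G, H ≠ M.map (MulAut.conj g).toMonoidHom) ∧ (p ∈ sigma H ∨ p ∈ tau2 H) ∧
      sigmaCore M ⊓ H = sigmaCore M ⊓ centralizer (P : Set G) := by
  have hpp := hp.1
  haveI : Fact p.Prime := ⟨hpp⟩
  have hU := bg134_uniq hG
  have htype := bg13_type_over hG hH hpp hP hNP
  have hPp : IsPGroup p P := IsPGroup.of_card (n := 1) (by rw [hP, pow_one])
  have hCP : centralizer (P : Set G) ≤ H := (centralizer_le_normalizer _).trans hNP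
  have hPH : P ≤ H := le_normalizer.trans hNP
  refine ⟨?_, htype, ?_⟩
  · intro g hg
    have hg' : MulAut.conj g • M = H := hg.symm
    by_cases hpH : p ∈ sigma H
    · have h1 := Cfsg.Agent.Helper41.bg13_sigma_conj hpH g⁻¹
      rw [← hg', map_inv, inv_smul_smul] at h1
      exact hp.2.1 h1
    · obtain ⟨⟨-, h1⟩, -⟩ := bg10_nonsigma_normalizer hG hU hH hpH hP hNP
      apply h1
      rw [← hg']
      have e : M ≃* (MulAut.conj g • M : Subgroup G) := Subgroup.equivSMul (MulAut.conj g) M
      exact Cfsg.Agent.Helper21.pRankLE_of_injective e.symm.toMonoidHom e.symm.injective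
        hp.2.2.2.2
  · apply le_antisymm
    · -- `P` centralizes `M_σ ∩ H`
      have hDn : M ⊓ H ≤ normalizer ((sigmaCore M ⊓ H : Subgroup G) : Set G) :=
        (inf_le_inf (le_normalizer_piCoreOf (sigma M) M) le_normalizer).trans
          Subgroup.inf_normalizer_le_normalizer_inf
      have key : ∀ d ∈ sigmaCore M ⊓ H, ∀ s ∈ P, s * d = d * s := by
        by_cases hpH : p ∈ sigma H
        · exact Cfsg.Agent.Helper54.bg13_prime_action_sigma hG hU (bg134_sigmaCompl hG) hM hH
            hp.2.1 hpH hPp hPH inf_le_left inf_le_right ((le_inf hPM hPH).trans hDn)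
        · obtain ⟨S, hS, hPS⟩ := exists_isSylowOf_ge hPp hPM
          obtain ⟨S', hS'⟩ := hS.exists_sylow
          have hp2 : p ≠ 2 := by
            rintro rfl
            have h2 : 2 ∣ Nat.card G := hp.2.2.1.trans (Subgroup.card_subgroup_dvd_card M)
            exact (Nat.not_even_iff_odd.mpr hG.1) (even_iff_two_dvd.mpr h2)
          have hcyc' : IsCyclic ↥(S' : Subgroup ↥M) :=
            Cfsg.Agent.Helper49.isCyclic_sylow_of_pRankLE_one hp2 hp.2.2.2.2 S'
          rw [hS'] at hcyc'
          have hSc : IsCyclic ↥S :=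
            isCyclic_of_surjective (Subgroup.subgroupOfEquivOfLe hS.1)
              (Subgroup.subgroupOfEquivOfLe hS.1).surjective
          have hSab : ∀ a ∈ S, ∀ b ∈ S, a * b = b * a := by
            intro a ha b hb
            have h := (IsCyclic.isMulCommutative (α := ↥S)).is_comm.comm ⟨a, ha⟩ ⟨b, hb⟩
            exact congrArg Subtype.val h
          have hSH : S ≤ H := by
            refine le_trans ?_ hCP
            intro s hs
            rw [mem_centralizer_iff]
            intro x hx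
            exact hSab x (hPS hx) s hs
          have h := Cfsg.Agent.Helper54.bg13_prime_action_nonsigma hG hU (bg134_sigmaCompl hG)
            (bg134_h1417 hG) (bg134_h1418a hG) hM hH hp.2.1 hpH hS hSc hSH hP hNP
            (D := sigmaCore M ⊓ H) inf_le_left inf_le_right ((le_inf hS.1 hSH).trans hDn)
          intro d hd s hs
          exact h d hd s (hPS hs)
      intro x hx
      refine Subgroup.mem_inf.mpr ⟨hx.1, ?_⟩
      rw [mem_centralizer_iff]
      intro s hs
      exact key x hx s hs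
    · exact inf_le_inf le_rfl hCP

end Cfsg.Agent.Helper68
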