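/-
helper68: coprime action of a group of prime order: a non-centralized invariant Sylow subgroup
(piece COP1 of the S1428 call).
-/
import Cfsg.Agent.Helper68.BG134Defs

set_option autoImplicit false

namespace Cfsg.Agent.Helper68

open Cfsg Subgroup Cfsg.Agent.Helper23 Cfsg.Agent.Helper35 Cfsg.Agent.Helper22
open scoped Pointwise commutatorElement

universe u

variable {G : Type u} [Group G] [Finite G]

/-- A group of prime order is solvable. -/
theorem bg134_isSolvable_of_card_prime {R : Subgroup G} {r : ℕ} (hr : r.Prime)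
    (hR : Nat.card R = r) : Group.IsSolvable R := by
  haveI : Fact r.Prime := ⟨hr⟩
  haveI : IsCyclic R := isCyclic_of_prime_card hR
  apply isSolvable_of_forall_comm
  intro a ha b hb
  have h := (IsCyclic.isMulCommutative (α := ↥R)).is_comm.comm ⟨a, ha⟩ ⟨b, hb⟩
  exact congrArg Subtype.val h

/-- **Coprime action of a group of prime order**: if `R` (of prime order `r`) normalizes `D`,
`r ∤ |D|` and `R` does not centralize `D`, then some `R`-invariant Sylow subgroup of `D` is not
centralized by `R`. -/
theorem bg134_cop1 {R D : Subgroup G} {r : ℕ} (hr : r.Prime) (hR : Nat.card R = r)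
    (hRD : R ≤ normalizer (D : Set G)) (hcop : ¬ r ∣ Nat.card D)
    (hne : ¬ R ≤ centralizer (D : Set G)) :
    ∃ q : ℕ, q.Prime ∧ q ∣ Nat.card D ∧ ∃ Q : Subgroup G, IsSylowOf q Q D ∧
      R ≤ normalizer (Q : Set G) ∧ ¬ R ≤ centralizer (Q : Set G) := by
  by_contra hcon
  apply hne
  have hcop' : (Nat.card R).Coprime (Nat.card D) := by
    rw [hR]; exact (Nat.Prime.coprime_iff_not_dvd hr).mpr hcop
  have hsolv : Group.IsSolvable R ∨ Group.IsSolvable D :=
    Or.inl (bg134_isSolvable_of_card_prime hr hR)
  have hD0 : Nat.card D ≠ 0 := Nat.card_pos.ne'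
  have hC0 : Nat.card (D ⊓ centralizer (R : Set G) : Subgroup G) ≠ 0 := Nat.card_pos.ne'
  have hdvd : Nat.card D ∣ Nat.card (D ⊓ centralizer (R : Set G) : Subgroup G) := by
    rw [← Nat.factorization_prime_le_iff_dvd hD0 hC0]
    intro q hq
    haveI : Fact q.Prime := ⟨hq⟩
    by_cases hqD : q ∣ Nat.card D
    · obtain ⟨Q, hQ, hRQ⟩ := exists_invariant_sylow hRD hcop' hsolv q
      have hQs : IsSylowOf q Q D :=
        bg10_isSylowOf_of_sylowSet le_rfl (by rw [Subgroup.relIndex_self]; exact hq.one_lt.ne' ∘ Nat.dvd_one.mp) hQ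
      have hRC : R ≤ centralizer (Q : Set G) := by
        by_contra h
        exact hcon ⟨q, hq, hqD, Q, hQs, hRQ, h⟩
      have hQC : Q ≤ D ⊓ centralizer (R : Set G) := by
        refine le_inf hQ.1 ?_
        intro x hx
        rw [mem_centralizer_iff]
        intro y hy
        exact ((mem_centralizer_iff.mp (hRC hy)) x hx).symm
      have h1 : q ^ (Nat.card D).factorization q ∣
          Nat.card (D ⊓ centralizer (R : Set G) : Subgroup G) := by
        rw [← hQ.2]; exact Subgroup.card_dvd_of_le hQC
      exact (Nat.Prime.pow_dvd_iff_le_factorization hq hC0).mp h1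
    · rw [Nat.factorization_eq_zero_of_not_dvd hqD]; exact Nat.zero_le _
  have hEq : D ⊓ centralizer (R : Set G) = D :=
    Subgroup.eq_of_le_of_card_ge inf_le_left (Nat.le_of_dvd Nat.card_pos hdvd)
  intro y hy
  rw [mem_centralizer_iff]
  intro x hx
  have hx' : x ∈ D ⊓ centralizer (R : Set G) := by rw [hEq]; exact hx
  exact ((mem_centralizer_iff.mp hx'.2) y hy).symm

end Cfsg.Agent.Helper68
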