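/-
helper68: pieces NB5 and NB6 of helper2's CALL S1428 (B&G Theorem 13.4).
-/
import Cfsg.Agent.Helper68.BG13CTX
import Cfsg.Agent.Helper24.BG13NB1

set_option autoImplicit false
set_option linter.style.haveILetI false
set_option linter.unusedSectionVars false

namespace Cfsg.Agent.Helper68

open Cfsg Subgroup Cfsg.Agent.Helper2 Cfsg.Agent.Helper23 Cfsg.Agent.Helper35 Cfsg.Agent.Helper22
open scoped Pointwise commutatorElement

universe u

variable {G : Type u} [Group G] [Finite G]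

omit [Finite G] in
/-- `M ∩ H` normalizes `M_σ ∩ H`. -/
theorem bg13_inf_le_normalizer (M H : Subgroup G) :
    M ⊓ H ≤ normalizer ((sigmaCore M ⊓ H : Subgroup G) : Set G) :=
  (inf_le_inf (le_normalizer_piCoreOf (sigma M) M) le_normalizer).trans
    Subgroup.inf_normalizer_le_normalizer_inf

omit [Finite G] in
/-- `T = [M_σ ∩ H, M ∩ H] ≤ M_σ ∩ H`. -/
theorem bg13_T_le (M H : Subgroup G) :
    (⁅sigmaCore M ⊓ H, M ⊓ H⁆ : Subgroup G) ≤ sigmaCore M ⊓ H :=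
  commutator_le_of_le_normalizer (bg13_inf_le_normalizer M H)

/-- PIECE NB6: the type in `H` of a prime of `T`. -/
theorem bg13_nb_type (hG : IsMinSimpleOddOrder G) {M P H : Subgroup G} {p : ℕ} (n : NBCtx M P H p)
    {q : ℕ} {X : Subgroup G} (hq : q.Prime) (hX : Nat.card X = q)
    (hXT : X ≤ ⁅sigmaCore M ⊓ H, M ⊓ H⁆) : q ∈ sigma H ∨ q ∈ tau3 H := by
  have hU := bg134_uniq hG
  by_cases hσ : q ∈ sigma H
  · exact Or.inl hσ
  right
  have hTK := bg13_T_le M H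
  obtain ⟨-, -, hK⟩ := bg13_ctx hG n.hM n.hp n.hPM n.hP n.hH n.hNP
  have hqK : q ∣ Nat.card ↥(sigmaCore M ⊓ centralizer (P : Set G)) := by
    rw [← hK, ← hX]; exact Subgroup.card_dvd_of_le (hXT.trans hTK)
  have h2 : q ∉ tau2 H :=
    Cfsg.Agent.Helper24.bg13_no_tau2 hG n.hM n.hp n.hPM n.hP n.hH n.hNP n.hpσ hq hqK
  have hTH' : (⁅sigmaCore M ⊓ H, M ⊓ H⁆ : Subgroup G) ≤ ⁅H, H⁆ :=
    Subgroup.commutator_mono inf_le_right inf_le_right
  have hqH' : q ∣ Nat.card ↥(⁅H, H⁆ : Subgroup G) := by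
    rw [← hX]; exact Subgroup.card_dvd_of_le (hXT.trans hTH')
  refine ⟨hq, hσ, hqH', ?_⟩
  by_contra h1
  by_cases h2' : PRankLE q 2 ↥H
  · exact h2 ⟨hq, hσ, h2', h1⟩
  · exact hσ (bg10_alpha_sub_sigma hG hU n.hH ⟨hq, h2'⟩)

/-- PIECE NB5: a subgroup `X` of prime order of `T`, normal in `M ∩ H`. -/
theorem bg13_nb_X (hG : IsMinSimpleOddOrder G) {M P H : Subgroup G} {p : ℕ} (n : NBCtx M P H p)
    (h5 : NBFive M H) (hT : (⁅sigmaCore M ⊓ H, M ⊓ H⁆ : Subgroup G) ≠ ⊥) :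
    ∃ (q : ℕ) (X : Subgroup G), q.Prime ∧ Nat.card X = q ∧
      X ≤ ⁅sigmaCore M ⊓ H, M ⊓ H⁆ ∧ M ⊓ H ≤ normalizer (X : Set G) := by
  classical
  have hU := bg134_uniq hG
  have hDn := bg13_inf_le_normalizer M H
  have hTK := bg13_T_le M H
  have hσM : sigmaCore M ≤ M := Subgroup.map_subtype_le _
  have hKM : sigmaCore M ⊓ H ≤ M := inf_le_left.trans hσM
  have hTn : M ⊓ H ≤ normalizer ((⁅sigmaCore M ⊓ H, M ⊓ H⁆ : Subgroup G) : Set G) :=
    le_normalizer_commutator' hDn le_normalizer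
  -- `M_σ ∩ H` is abelian
  have hKab : ∀ a ∈ sigmaCore M ⊓ H, ∀ b ∈ sigmaCore M ⊓ H, a * b = b * a := by
    intro a ha b hb
    by_contra hne
    have hc1 : ⁅a, b⁆ ≠ 1 := by
      rw [Ne, commutatorElement_eq_one_iff_commute]; exact hne
    have hcT : ⁅a, b⁆ ∈ (⁅sigmaCore M ⊓ H, M ⊓ H⁆ : Subgroup G) :=
      Subgroup.commutator_mem_commutator ha (Subgroup.mem_inf.mpr ⟨hKM hb, hb.2⟩)
    have hcS : ⁅a, b⁆ ∈ (⁅sigmaCore M, sigmaCore M⁆ : Subgroup G) :=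
      Subgroup.commutator_mem_commutator ha.1 hb.1
    have ho : orderOf ⁅a, b⁆ ≠ 1 := by rwa [Ne, orderOf_eq_one_iff]
    obtain ⟨q, hq, hqd⟩ := Nat.exists_prime_and_dvd ho
    haveI : Fact q.Prime := ⟨hq⟩
    have hxo : orderOf (⁅a, b⁆ ^ (orderOf ⁅a, b⁆ / q)) = q :=
      orderOf_pow_orderOf_div (orderOf_pos _).ne' hqd
    have hX₀c : Nat.card (zpowers (⁅a, b⁆ ^ (orderOf ⁅a, b⁆ / q))) = q := by
      rw [Nat.card_zpowers, hxo]
    have hX₀T : zpowers (⁅a, b⁆ ^ (orderOf ⁅a, b⁆ / q)) ≤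
        (⁅sigmaCore M ⊓ H, M ⊓ H⁆ : Subgroup G) := zpowers_le.mpr (pow_mem hcT _)
    have hX₀S : zpowers (⁅a, b⁆ ^ (orderOf ⁅a, b⁆ / q)) ≤
        (⁅sigmaCore M, sigmaCore M⁆ : Subgroup G) := zpowers_le.mpr (pow_mem hcS _)
    have hX₀M : zpowers (⁅a, b⁆ ^ (orderOf ⁅a, b⁆ / q)) ≤ M := hX₀T.trans (hTK.trans hKM)
    have hqσ : q ∈ sigma M := by
      apply mem_of_dvd_card_piCoreOf (sigma M) M hq
      rw [← hX₀c]
      exact Subgroup.card_dvd_of_le (hX₀T.trans (hTK.trans inf_le_left))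
    have h := (Cfsg.Agent.S1423.result hG M n.hM q hqσ _ hX₀M hX₀c default (Or.inr hX₀S)).1.1
    refine h5 q _ hq (IsPGroup.of_card (n := 1) (by rw [hX₀c, pow_one])) ?_ hX₀T h
    intro h0
    rw [h0, Subgroup.card_bot] at hX₀c
    exact hq.one_lt.ne hX₀c
  have hTab : ∀ a ∈ (⁅sigmaCore M ⊓ H, M ⊓ H⁆ : Subgroup G),
      ∀ b ∈ (⁅sigmaCore M ⊓ H, M ⊓ H⁆ : Subgroup G), a * b = b * a :=
    fun a ha b hb => hKab a (hTK ha) b (hTK hb)
  -- a prime `q` dividing `|T|`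
  have hcT1 : Nat.card (⁅sigmaCore M ⊓ H, M ⊓ H⁆ : Subgroup G) ≠ 1 :=
    fun h => hT (Subgroup.card_eq_one.mp h)
  obtain ⟨q, hq, hqd⟩ := Nat.exists_prime_and_dvd hcT1
  haveI : Fact q.Prime := ⟨hq⟩
  obtain ⟨t₀, ht₀⟩ := exists_prime_orderOf_dvd_card' q hqd
  let X : Subgroup G :=
    { carrier := {t | t ∈ (⁅sigmaCore M ⊓ H, M ⊓ H⁆ : Subgroup G) ∧ t ^ q = 1}
      mul_mem' := by
        rintro a b ⟨ha, ha'⟩ ⟨hb, hb'⟩
        refine ⟨mul_mem ha hb, ?_⟩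
        have hc : Commute a b := hTab a ha b hb
        rw [hc.mul_pow, ha', hb', one_mul]
      one_mem' := ⟨one_mem _, one_pow _⟩
      inv_mem' := by
        rintro a ⟨ha, ha'⟩
        exact ⟨inv_mem ha, by rw [inv_pow, ha', inv_one]⟩ }
  have hXT : X ≤ (⁅sigmaCore M ⊓ H, M ⊓ H⁆ : Subgroup G) := fun t ht => ht.1
  have hXexp : ∀ t ∈ X, t ^ q = 1 := fun t ht => ht.2
  have ht₀X : (t₀ : G) ∈ X := by
    refine ⟨t₀.2, ?_⟩
    have h := pow_orderOf_eq_one t₀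
    rw [ht₀] at h
    have h' := congrArg Subtype.val h
    simpa using h'
  have hX1 : X ≠ ⊥ := by
    intro h
    rw [h, Subgroup.mem_bot] at ht₀X
    have h1 : t₀ = 1 := Subtype.ext ht₀X
    rw [h1, orderOf_one] at ht₀
    exact hq.one_lt.ne ht₀
  have hXq : IsPGroup q X := by
    intro t
    refine ⟨1, ?_⟩
    apply Subtype.ext
    rw [pow_one, Subgroup.coe_pow]
    exact hXexp t t.2
  have hXn : M ⊓ H ≤ normalizer (X : Set G) := by
    apply le_normalizer_of_forall_conj_mem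
    intro g hg t ht
    refine ⟨(mem_normalizer_iff.mp (hTn hg) t).mp ht.1, ?_⟩
    rw [conj_pow, ht.2, mul_one, mul_inv_cancel]
  have hXM : X ≤ M := hXT.trans (hTK.trans hKM)
  have hqσ : q ∈ sigma M :=
    mem_of_dvd_card_piCoreOf (sigma M) M hq
      (hqd.trans (Subgroup.card_dvd_of_le (hTK.trans inf_le_left)))
  have hXc : IsCyclic ↥X := by
    by_contra hnc
    obtain ⟨E, hE, -⟩ := Cfsg.Agent.Helper20.bg13_exists_compl_ge hG hU n.hM (K := ⊥) bot_le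
      (by rw [Subgroup.card_bot]; exact Nat.coprime_one_left _)
    have hN := (Cfsg.Agent.S1420.result hG M n.hM E hE).2.2.1 q X hqσ hXq hXM hnc
    exact h5 q X hq hXq hX1 hXT ((centralizer_le_normalizer _).trans hN)
  refine ⟨q, X, hq, ?_, hXT, hXn⟩
  obtain ⟨g, hg⟩ := hXc.exists_generator
  have hcard : Nat.card X = orderOf g := (orderOf_eq_card_of_forall_mem_zpowers hg).symm
  have hgq : g ^ q = 1 := by
    apply Subtype.ext
    rw [Subgroup.coe_pow]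
    exact hXexp g g.2
  have hdvd : orderOf g ∣ q := orderOf_dvd_of_pow_eq_one hgq
  rcases (Nat.dvd_prime hq).mp hdvd with h1 | h1
  · exfalso
    apply hX1
    rw [← Subgroup.card_eq_one, hcard, h1]
  · rw [hcard, h1]

end Cfsg.Agent.Helper68
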