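import Cfsg.Agent.Helper23.BG14U1
import Cfsg.Agent.Helper39.BG14dNK
import Cfsg.Agent.Helper62.BG72B
import Cfsg.Agent.Helper31.BGCHN
import Cfsg.Agent.Helper47.BG14RK
import Cfsg.Agent.Helper22.BG12a
import Cfsg.Agent.S1352
import Cfsg.Agent.S1353
import Cfsg.Agent.S1420

set_option autoImplicit false

/-! helper68: row S1430 (B&G section 14) for a CYCLIC Hall `κ(M)`-subgroup `K ≠ 1`
(the general case follows once S1351 is available).  The clause on `N_G(X) ≤ M*` uses the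
interface `BGUse1` (helper24's `bg13u_over_sigma`). -/

namespace Cfsg.Agent.Helper68

open Cfsg Subgroup
open scoped commutatorElement

universe u

variable {G : Type u} [Group G] [Finite G]

/-- USE 1 (helper49 / helper24): a subgroup `P` of order `p ∉ σ(M)`, `M` of `p`-rank one, with
`C_{M_σ}(P) ≠ 1`: every maximal subgroup over `N_G(P)` has `p` in its `σ`. -/
def BGUse1 (G : Type u) [Group G] : Prop :=
  ∀ (M P H : Subgroup G) (p : ℕ), IsCoatom M → p.Prime → p ∉ sigma M → PRankLE p 1 ↥M → P ≤ M →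
    Nat.card P = p → sigmaCore M ⊓ centralizer (P : Set G) ≠ ⊥ → IsCoatom H →
    normalizer (P : Set G) ≤ H → p ∈ sigma H

omit [Finite G] in
/-- `K ⊔ K* ≤ C_G(K)` for abelian `K`. -/
theorem bg14r_sup_le_cent {K S : Subgroup G} (hKc : ∀ a ∈ K, ∀ b ∈ K, a * b = b * a) :
    K ⊔ (S ⊓ centralizer (K : Set G)) ≤ centralizer (K : Set G) := by
  refine sup_le ?_ inf_le_right
  intro a ha
  rw [mem_centralizer_iff]
  intro b hb
  exact hKc b hb a ha

omit [Finite G] in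
/-- elements of a cyclic subgroup commute -/
theorem bg14r_comm_of_cyclic {K : Subgroup G} (hKc : IsCyclic K) :
    ∀ a ∈ K, ∀ b ∈ K, a * b = b * a := by
  intro a ha b hb
  obtain ⟨g, hg⟩ := hKc.exists_generator
  obtain ⟨m, hm⟩ := Subgroup.mem_zpowers_iff.mp (hg ⟨a, ha⟩)
  obtain ⟨n, hn⟩ := Subgroup.mem_zpowers_iff.mp (hg ⟨b, hb⟩)
  have h1 : (⟨a, ha⟩ : K) * ⟨b, hb⟩ = ⟨b, hb⟩ * ⟨a, ha⟩ := by
    rw [← hm, ← hn, ← zpow_add, ← zpow_add, add_comm]
  exact congrArg Subtype.val h1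

omit [Finite G] in
/-- conjunct 1 of S1430: `C_{M_σ}(k) = C_{M_σ}(K)`. -/
theorem bg14r_cent_eq {M K S : Subgroup G} (hSM : S ≤ M)
    (hKc : ∀ a ∈ K, ∀ b ∈ K, a * b = b * a) {k : G} (hk : k ∈ K)
    (h54 : M ⊓ centralizer ({k} : Set G) = K ⊔ (S ⊓ centralizer (K : Set G))) :
    S ⊓ centralizer ({k} : Set G) = S ⊓ centralizer (K : Set G) := by
  apply le_antisymm
  · intro x hx
    refine ⟨hx.1, ?_⟩
    have h1 : x ∈ M ⊓ centralizer ({k} : Set G) := ⟨hSM hx.1, hx.2⟩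
    rw [h54] at h1
    exact bg14r_sup_le_cent hKc h1
  · exact inf_le_inf_left _ (Subgroup.centralizer_le (Set.singleton_subset_iff.mpr hk))

/-- `U ≤ E'` for `E = U K`. -/
theorem bg14r_U_le_comm (hG : IsMinSimpleOddOrder G) {M K U : Subgroup G} (hM : IsCoatom M)
    (hKU : IsSigmaDecomposition M K U) (hK1 : K ≠ ⊥) : U ≤ ⁅U ⊔ K, U ⊔ K⁆ := by
  obtain ⟨hE, -, -, -⟩ := Cfsg.Agent.Helper49.bg14u_setup hG hKU
  obtain ⟨h65, -⟩ := Cfsg.Agent.Helper23.bg14_pkg hG hM hKU hK1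
  have hSn : M ≤ normalizer (sigmaCore M : Set G) :=
    Cfsg.Agent.Helper23.le_normalizer_piCoreOf (sigma M) M
  intro u hu
  have h1 : u ∈ ⁅M, M⁆ := by rw [h65]; exact mem_sup_left hu
  have h2 : u ∈ sigmaCore M ⊔ ⁅U ⊔ K, U ⊔ K⁆ :=
    Cfsg.Agent.Helper22.bg12_commutator_le_sup hSn hE h1
  have hEE : ⁅U ⊔ K, U ⊔ K⁆ ≤ U ⊔ K := Subgroup.commutator_le_self _
  obtain ⟨s, hs, e, he, hse⟩ :=
    Cfsg.Agent.Helper35.exists_mul_of_mem_sup_of_le_normalizer ((hEE.trans hE.1).trans hSn) h2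
  have hs1 : s = 1 := by
    have hsE : s ∈ U ⊔ K := by
      have h3 : s = u * e⁻¹ := by rw [hse]; group
      rw [h3]
      exact mul_mem (mem_sup_left hu) (inv_mem (hEE he))
    have h4 : s ∈ (U ⊔ K) ⊓ sigmaCore M := ⟨hsE, hs⟩
    rw [hE.2.2.1] at h4
    exact h4
  rw [hse, hs1, one_mul]
  exact he

/-- `U` is abelian. -/
theorem bg14r_U_comm (hG : IsMinSimpleOddOrder G) {M K U : Subgroup G} (hM : IsCoatom M)
    (hKU : IsSigmaDecomposition M K U) (hK1 : K ≠ ⊥) : IsMulCommutative U := by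
  obtain ⟨hE, -, -, -⟩ := Cfsg.Agent.Helper49.bg14u_setup hG hKU
  obtain ⟨-, hcomm, -, -⟩ := Cfsg.Agent.S1420.result hG M hM (U ⊔ K) hE
  have hle := bg14r_U_le_comm hG hM hKU hK1
  refine ⟨⟨fun a b => ?_⟩⟩
  have h := hcomm.is_comm.comm (⟨a.1, hle a.2⟩ : ↥⁅U ⊔ K, U ⊔ K⁆) ⟨b.1, hle b.2⟩
  have h' : (a : G) * b = b * a := congrArg Subtype.val h
  exact Subtype.ext h'

/-- `U` is a Hall subgroup of `M` for the primes outside `κ(M) ∪ σ(M)`. -/
theorem bg14r_U_hall (hG : IsMinSimpleOddOrder G) {M K U : Subgroup G} (hM : IsCoatom M)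
    (hKU : IsSigmaDecomposition M K U) :
    IsPiHallOf {q | q.Prime ∧ q ∉ kappa M ∧ q ∉ sigma M} U M := by
  have hU : Cfsg.Agent.Helper22.BGUniq G :=
    fun K hK h1 h2 => Cfsg.Agent.S1403.result hG K hK h1 h2
  obtain ⟨⟨hσle, hσpi, hσidx⟩, -, -⟩ := Cfsg.Agent.Helper22.bg10_sigma_hall hG hU hM
  have hKM : K ≤ M := hKU.hall.1
  have hSn : M ≤ normalizer (sigmaCore M : Set G) :=
    Cfsg.Agent.Helper23.le_normalizer_piCoreOf (sigma M) M
  refine ⟨hKU.compl.1, ?_, ?_⟩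
  · intro p hp hpd
    refine ⟨hp, Cfsg.Agent.Helper39.bg14d_not_kappa_of_dvd hKU hp hpd, ?_⟩
    intro hpσ
    exact hσidx p hp hpσ
      (hpd.trans (Cfsg.Agent.Helper62.bg72_card_dvd_relIndex le_sup_right hKU.compl))
  · rintro p hp ⟨-, hpκ, hpσ⟩ hpd
    have hc1 := Cfsg.Agent.Helper23.card_of_isComplIn U _ M hKU.compl
    have hc2 : Nat.card U * U.relIndex M = Nat.card M := by
      have h := Subgroup.relIndex_mul_relIndex ⊥ U M bot_le hKU.compl.1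
      rwa [Subgroup.relIndex_bot_left, Subgroup.relIndex_bot_left] at h
    have hc3 : U.relIndex M = Nat.card ↥(K ⊔ sigmaCore M) := by
      apply Nat.eq_of_mul_eq_mul_left (Nat.card_pos : 0 < Nat.card U)
      rw [hc2, hc1]
    rw [hc3] at hpd
    have hc4 := Cfsg.Agent.Helper51.card_sup_mul_card_inf_of_le_normalizer K (sigmaCore M)
      (hKM.trans hSn)
    have hinf : K ⊓ sigmaCore M = ⊥ := Cfsg.Agent.Helper49.bg14u_kappa_inf_sigma hKU.hall.2.1
    rw [hinf, Subgroup.card_bot, mul_one] at hc4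
    rw [hc4] at hpd
    rcases (Nat.Prime.dvd_mul hp).mp hpd with h | h
    · exact hpκ (hKU.hall.2.1 p hp h)
    · exact hpσ (hσpi p hp h)

/-- an element of `M` normalizing `X ≤ K` centralizes it, as `K ∩ M' = 1`. -/
theorem bg14r_norm_cent {M K X : Subgroup G} (hKM : K ≤ M) (hXK : X ≤ K)
    (hcop : (Nat.card K).Coprime (Nat.card ↥⁅M, M⁆)) {n : G} (hnM : n ∈ M)
    (hn : n ∈ normalizer (X : Set G)) : ∀ x ∈ X, n * x = x * n := by
  intro x hx
  have h1 : n * x * n⁻¹ ∈ X := (mem_normalizer_iff.mp hn x).mp hx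
  have h2 : n * x * n⁻¹ * x⁻¹ ∈ K ⊓ ⁅M, M⁆ := by
    refine Subgroup.mem_inf.mpr ⟨K.mul_mem (hXK h1) (K.inv_mem (hXK hx)), ?_⟩
    have h3 : n * x * n⁻¹ * x⁻¹ = ⁅n, x⁆ := rfl
    rw [h3]
    exact Subgroup.commutator_mem_commutator hnM (hKM (hXK hx))
  have h3 : K ⊓ ⁅M, M⁆ = ⊥ := (Subgroup.disjoint_of_coprime_natCard hcop).eq_bot
  rw [h3, mem_bot] at h2
  calc n * x = (n * x * n⁻¹ * x⁻¹) * x * n := by group
    _ = x * n := by rw [h2, one_mul]

/-- `N_M(X) = K K*` for `1 ≠ X ≤ K`. -/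
theorem bg14r_normalizer_eq {M K S X : Subgroup G} (hKM : K ≤ M) (hSM : S ≤ M)
    (hKc : ∀ a ∈ K, ∀ b ∈ K, a * b = b * a) (hXK : X ≤ K) (hX1 : X ≠ ⊥)
    (hcop : (Nat.card K).Coprime (Nat.card ↥⁅M, M⁆))
    (h54 : ∀ k ∈ K, k ≠ 1 →
      M ⊓ centralizer ({k} : Set G) = K ⊔ (S ⊓ centralizer (K : Set G))) :
    M ⊓ normalizer (X : Set G) = K ⊔ (S ⊓ centralizer (K : Set G)) := by
  apply le_antisymm
  · intro n hn'
    obtain ⟨hnM, hn⟩ := Subgroup.mem_inf.mp hn'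
    obtain ⟨⟨x, hx⟩, hx1'⟩ := Subgroup.ne_bot_iff_exists_ne_one.mp hX1
    have hx1 : x ≠ 1 := fun h1 => hx1' (Subtype.ext h1)
    rw [← h54 x (hXK hx) hx1]
    refine Subgroup.mem_inf.mpr ⟨hnM, ?_⟩
    rw [mem_centralizer_iff]
    intro z hz
    rw [Set.mem_singleton_iff] at hz
    subst hz
    exact (bg14r_norm_cent hKM hXK hcop hnM hn z hx).symm
  · intro n hn
    refine Subgroup.mem_inf.mpr ⟨sup_le hKM (inf_le_left.trans hSM) hn, ?_⟩
    have hc : n ∈ centralizer (K : Set G) := bg14r_sup_le_cent hKc hn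
    rw [mem_normalizer_iff]
    intro x
    constructor
    · intro hx
      have h1 := mem_centralizer_iff.mp hc x (hXK hx)
      have h2 : n * x * n⁻¹ = x := by rw [← h1]; group
      rw [h2]
      exact hx
    · intro hx
      have h1 := mem_centralizer_iff.mp hc (n * x * n⁻¹) (hXK hx)
      have h2 : n * x = n * (n * x * n⁻¹) := by rw [← h1]; group
      have h3 : x = n * x * n⁻¹ := mul_left_cancel h2
      rw [h3]
      exact hx

/-- last clause of S1430: `X ≤ M*_σ` for every maximal `M* ⊇ N_G(X)`. -/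
theorem bg14r_le_sigmaCore (hG : IsMinSimpleOddOrder G) (hUse : BGUse1 G)
    {M K X Mstar : Subgroup G} (hM : IsCoatom M) (hK : IsPiHallOf (kappa M) K M)
    (hXK : X ≤ K) (hXp : (Nat.card X).Prime)
    (hD : sigmaCore M ⊓ centralizer (X : Set G) ≠ ⊥) (hMs : IsCoatom Mstar)
    (hN : normalizer (X : Set G) ≤ Mstar) : X ≤ sigmaCore Mstar := by
  have hκ : Nat.card X ∈ kappa M := hK.2.1 _ hXp (Subgroup.card_dvd_of_le hXK)
  have hσ : Nat.card X ∈ sigma Mstar :=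
    hUse M X Mstar _ hM hXp hκ.2.2.1 (Cfsg.Agent.Helper47.bg14_rank_of_kappa hκ)
      (hXK.trans hK.1) rfl hD hMs hN
  have hU : Cfsg.Agent.Helper22.BGUniq G :=
    fun K hK h1 h2 => Cfsg.Agent.S1403.result hG K hK h1 h2
  obtain ⟨⟨hσle, hσpi, hσidx⟩, -, -⟩ := Cfsg.Agent.Helper22.bg10_sigma_hall hG hU hMs
  have hdvd : Nat.card X ∣ Nat.card ↥(sigmaCore Mstar) := by
    have h1 : Nat.card ↥(sigmaCore Mstar) * (sigmaCore Mstar).relIndex Mstar = Nat.card Mstar := by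
      have h := Subgroup.relIndex_mul_relIndex ⊥ (sigmaCore Mstar) Mstar bot_le hσle
      rwa [Subgroup.relIndex_bot_left, Subgroup.relIndex_bot_left] at h
    have h2 : Nat.card X ∣ Nat.card ↥(sigmaCore Mstar) * (sigmaCore Mstar).relIndex Mstar := by
      rw [h1]
      exact hσ.2.1
    exact (Nat.Coprime.dvd_mul_right
      ((Nat.Prime.coprime_iff_not_dvd hXp).mpr (hσidx _ hXp hσ))).mp h2
  intro x hx
  exact Cfsg.Agent.Helper31.bgc_mem_sigmaCore_of_order hG hMs (hN (le_normalizer hx))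
    ((Subgroup.orderOf_dvd_natCard X hx).trans hdvd)

/-- **Row S1430 for a cyclic `K`.** -/
theorem bg14_1430_of_cyclic (hG : IsMinSimpleOddOrder G) (hUse : BGUse1 G)
    (M : Subgroup G) (hM : IsCoatom M) (K : Subgroup G) (hK : IsPiHallOf (kappa M) K M)
    (hK1 : K ≠ ⊥) (hKcyc : IsCyclic K) :
    (∀ k ∈ K, k ≠ 1 → sigmaCore M ⊓ centralizer ({k} : Set G)
        = (sigmaCore M ⊓ centralizer (K : Set G))) ∧
      (∃ U : Subgroup G, IsMulCommutative U ∧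
        IsPiHallOf {q | q.Prime ∧ q ∉ kappa M ∧ q ∉ sigma M} U M ∧
        K ≤ normalizer (U : Set G) ∧ ∀ k ∈ K, k ≠ 1 → U ⊓ centralizer ({k} : Set G) = ⊥) ∧
      ∀ X : Subgroup G, X ≤ K → (Nat.card X).Prime →
        M ⊓ normalizer (X : Set G) = K ⊔ (sigmaCore M ⊓ centralizer (K : Set G)) ∧
        M ⊓ normalizer (K : Set G) = K ⊔ (sigmaCore M ⊓ centralizer (K : Set G)) ∧
        ∀ Mstar : Subgroup G, IsCoatom Mstar → normalizer (X : Set G) ≤ Mstar →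
          X ≤ sigmaCore Mstar := by
  obtain ⟨⟨U, hKU⟩, -⟩ := Cfsg.Agent.S1352.result hG M hM K hKcyc hK
  obtain ⟨h65, hcop, -, hKs, h54, -⟩ := Cfsg.Agent.Helper23.bg14_pkg hG hM hKU hK1
  have hKc := bg14r_comm_of_cyclic hKcyc
  have hσM : sigmaCore M ≤ M := Cfsg.Agent.Helper23.piCoreOf_le (sigma M) M
  refine ⟨fun k hk hk1 => bg14r_cent_eq hσM hKc hk (h54 k hk hk1),
    ⟨U, bg14r_U_comm hG hM hKU hK1, bg14r_U_hall hG hM hKU, hKU.normal,
      Cfsg.Agent.S1353.result hG M hM K U hKU⟩, ?_⟩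
  intro X hXK hXp
  have hX1 : X ≠ ⊥ := by
    intro h
    rw [h, Subgroup.card_bot] at hXp
    exact Nat.not_prime_one hXp
  refine ⟨bg14r_normalizer_eq hK.1 hσM hKc hXK hX1 hcop h54,
    bg14r_normalizer_eq hK.1 hσM hKc le_rfl hK1 hcop h54, ?_⟩
  intro Mstar hMs hN
  refine bg14r_le_sigmaCore hG hUse hM hK hXK hXp ?_ hMs hN
  intro h
  apply hKs
  rw [eq_bot_iff] at h ⊢
  exact (inf_le_inf_left _ (Subgroup.centralizer_le hXK)).trans h

end Cfsg.Agent.Helper68
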