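import Cfsg.Agent.Helper68.BG14R30
import Cfsg.Agent.Helper24.BG13V

set_option autoImplicit false

/-! helper68: the interface `BGUse1` of `Helper68.BG14R30` is discharged by helper24's
`bg13u_over_sigma`. -/

namespace Cfsg.Agent.Helper68

open Cfsg Subgroup

universe u

variable {G : Type u} [Group G] [Finite G]

/-- USE 1 holds in a minimal simple group of odd order (helper24). -/
theorem bg14r_use1 (hG : IsMinSimpleOddOrder G) : BGUse1 G :=
  fun _ _ _ _ hM hpp hpσ hp1 hPM hP hD hH hNP =>
    Cfsg.Agent.Helper24.bg13u_over_sigma hG hM hpp hpσ hp1 hPM hP hD hH hNP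

end Cfsg.Agent.Helper68
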