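import Cfsg.Agent.Helper49.BGCDefs2
import Cfsg.Agent.Helper24.BG13V
import Cfsg.Agent.Helper47.BG14SET4
import Cfsg.Agent.Helper47.BG14RK
import Cfsg.Agent.S1403
import Cfsg.Agent.S1415
import Cfsg.Agent.S1429

set_option autoImplicit false

/-! helper68: CALL S1351C piece CB1 (`starc_cyclic_compl`). -/

namespace Cfsg.Agent.Helper68

open Cfsg Subgroup

universe u

variable {G : Type u} [Group G] [Finite G]

/-- CB1. Case B: no nonregular `τ₃`-element and `H_σ` not nilpotent; then every complement of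
`H_σ` is a cyclic `τ₁(H)`-group (S1417(a), S1429, S1415). -/
theorem starc_cyclic_compl (hG : IsMinSimpleOddOrder G) {H EH : Subgroup G} (hH : IsCoatom H)
    (hEH : IsComplIn EH (sigmaCore H) H)
    (hB : ∀ (q : ℕ) (Q : Subgroup G), q ∈ tau3 H → Q ≤ H → Nat.card Q = q →
      sigmaCore H ⊓ centralizer (Q : Set G) = ⊥)
    (hnil : ¬ Group.IsNilpotent ↥(sigmaCore H)) :
    IsCyclic ↥EH ∧ ∀ q : ℕ, q.Prime → q ∣ Nat.card EH → q ∈ tau1 H := by
  have hU : Cfsg.Agent.Helper22.BGUniq G :=
    fun K hK h1 h2 => Cfsg.Agent.S1403.result hG K hK h1 h2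
  -- S1429, contrapositive: every prime of `|H|` outside `σ(H)` is in `κ(H)`
  have hκ : ∀ q : ℕ, q.Prime → q ∣ Nat.card H → q ∉ sigma H → q ∈ kappa H := by
    by_contra hP1
    have hP1' := hP1
    push_neg at hP1'
    obtain ⟨q, hq, hqH, hqσ, hqκ⟩ := hP1'
    have := Fact.mk hq
    obtain ⟨S⟩ : Nonempty (Sylow q H) := inferInstance
    have hmem : q ∉ sigma H ∪ kappa H := by
      rintro (h | h)
      · exact hqσ h
      · exact hqκ h
    exact hnil (Cfsg.Agent.S1429.result hG H hH hP1 q hqH hmem S).2.2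
  have hτ : ∀ q : ℕ, q.Prime → q ∣ Nat.card EH → q ∈ tau1 H := by
    intro q hq hqE
    have hqσ : q ∉ sigma H := Cfsg.Agent.Helper22.bg12_not_sigma_of_dvd hG hU hH hEH hq hqE
    have hqH : q ∣ Nat.card H := hqE.trans (Subgroup.card_dvd_of_le hEH.1)
    have hqκ : q ∈ kappa H := hκ q hq hqH hqσ
    have hrk : PRankLE q 1 ↥H := Cfsg.Agent.Helper47.bg14_rank_of_kappa hqκ
    by_cases hd : q ∣ Nat.card ↥⁅H, H⁆
    · exfalso
      have h3 : q ∈ tau3 H := ⟨hq, hqσ, hd, hrk⟩
      have := Fact.mk hq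
      obtain ⟨S⟩ : Nonempty (Sylow q H) := inferInstance
      have hQH : (S : Subgroup H).map H.subtype ≤ H := Subgroup.map_subtype_le _
      have hQq : IsPGroup q ((S : Subgroup H).map H.subtype) := S.2.map _
      have hQi : ¬ q ∣ ((S : Subgroup H).map H.subtype).relIndex H := by
        have h1 : ((S : Subgroup H).map H.subtype).relIndex H = (S : Subgroup H).index := by
          have h2 : ((S : Subgroup H).map H.subtype).subgroupOf H = (S : Subgroup H) := by
            ext x
            rw [Subgroup.mem_subgroupOf]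
            constructor
            · rintro ⟨y, hy, hxy⟩
              have : y = x := Subtype.ext hxy
              rwa [← this]
            · intro hx
              exact ⟨x, hx, rfl⟩
          rw [Subgroup.relIndex, h2]
        rw [h1]
        exact S.not_dvd_index
      obtain ⟨Q₁, hQ₁, hQ₁c, hne⟩ := Cfsg.Agent.Helper47.bg14_kappa_cent hqκ hQH hQq hQi
      exact hne (hB q Q₁ h3 (hQ₁.trans hQH) hQ₁c)
    · exact ⟨hq, hqσ, hqH, hd, hrk⟩
  refine ⟨?_, hτ⟩
  refine (Cfsg.Agent.S1415.result hG H hH EH hEH).2.1 EH ⟨le_rfl, hτ, fun p hp _ => ?_⟩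
  rw [Subgroup.relIndex_self]
  exact hp.one_lt.ne' ∘ Nat.dvd_one.mp

end Cfsg.Agent.Helper68
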