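import Cfsg.Agent.Helper49.BGCDefs2
import Cfsg.Agent.Helper24.BG13V
import Cfsg.Agent.Helper1.BG139C3
import Cfsg.Agent.S1428

set_option autoImplicit false

/-! helper68: CALL S1351C piece CB2 (`starc_cyclic_concl`). -/

namespace Cfsg.Agent.Helper68

open Cfsg Subgroup

universe u

variable {G : Type u} [Group G] [Finite G]

/-- CB2. Prime action of a cyclic `τ₁(H)`-complement (`Helper1.bg139_prime_action_sub`). -/
theorem starc_cyclic_concl (hG : IsMinSimpleOddOrder G) {H EH X : Subgroup G} (hH : IsCoatom H)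
    (hEH : IsComplIn EH (sigmaCore H) H) (hc : IsCyclic ↥EH)
    (hτ : ∀ q : ℕ, q.Prime → q ∣ Nat.card EH → q ∈ tau1 H) (hXE : X ≤ EH)
    (hX : (Nat.card X).Prime) :
    ∀ e ∈ EH, e ≠ 1 → sigmaCore H ⊓ centralizer ({e} : Set G) ≤ centralizer (X : Set G) := by
  have h28 : Cfsg.Agent.Helper1.BG1328 G := fun M hM E hE p hp P hPE hP R hRE hR =>
    Cfsg.Agent.S1428.result hG M hM E hE p hp P hPE hP R hRE hR
  have := Fact.mk hX
  have hXc : IsCyclic ↥X := isCyclic_of_prime_card (p := Nat.card X) rfl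
  obtain ⟨g, hg⟩ := hXc.exists_generator
  have hg1 : (g : G) ≠ 1 := by
    intro h
    have hg' : g = 1 := Subtype.ext h
    have hbot : ∀ x : X, x = 1 := by
      intro x
      have hx := hg x
      rw [hg', Subgroup.zpowers_one_eq_bot, Subgroup.mem_bot] at hx
      exact hx
    have hsub : Subsingleton ↥X := ⟨fun a b => (hbot a).trans (hbot b).symm⟩
    have hone : Nat.card ↥X = 1 := Nat.card_unique
    rw [hone] at hX
    exact Nat.not_prime_one hX
  intro e he he1 z hz
  have heq := Cfsg.Agent.Helper1.bg139_prime_action_sub hG h28 hH hEH.1 hc hτ he (hXE g.2) he1 hg1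
  rw [heq] at hz
  have hzg : z * (g : G) = (g : G) * z :=
    (mem_centralizer_iff.mp (Subgroup.mem_inf.mp hz).2 (g : G) rfl).symm
  rw [mem_centralizer_iff]
  intro x hx
  obtain ⟨k, hk⟩ := Subgroup.mem_zpowers_iff.mp (hg ⟨x, hx⟩)
  have hxk : x = (g : G) ^ k := by
    have := congrArg Subtype.val hk
    simpa using this.symm
  rw [hxk]
  have hcomm : Commute z ((g : G) ^ k) := Commute.zpow_right hzg k
  exact hcomm.symm.eq

end Cfsg.Agent.Helper68
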