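import Cfsg.Agent.Helper68.BG14R30
import Cfsg.Agent.Helper51.BGCPO
import Cfsg.Agent.S1404
import Cfsg.Agent.S1425
import Cfsg.Agent.S1423
import Cfsg.Agent.S1414

set_option autoImplicit false

/-! helper68: row S1431 (B&G section 13/14) for a CYCLIC Hall `κ(M)`-subgroup `K ≠ 1`
(the general case follows once S1351 is available). -/

namespace Cfsg.Agent.Helper68

open Cfsg Subgroup
open scoped commutatorElement

universe u

variable {G : Type u} [Group G] [Finite G]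

/-- S1404 + `C_G(Y) ≤ M`: a conjugate of `Y ≤ M_σ` (prime order) inside `M` is an
`M`-conjugate. -/
theorem bg14r_mem_of_conj (hG : IsMinSimpleOddOrder G) {M Y : Subgroup G} (hM : IsCoatom M)
    {q : ℕ} (hq : q.Prime) (hYσ : Y ≤ sigmaCore M) (hYc : Nat.card Y = q)
    (hC : centralizer (Y : Set G) ≤ M) {g : G}
    (hg : Y.map (MulAut.conj g).toMonoidHom ≤ M) : g ∈ M := by
  haveI := Fact.mk hq
  have hσM : sigmaCore M ≤ M := Cfsg.Agent.Helper23.piCoreOf_le (sigma M) M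
  have hqσ : q ∈ sigma M := Cfsg.Agent.Helper23.mem_of_dvd_card_piCoreOf (sigma M) M hq (by
    rw [← hYc]; exact Subgroup.card_dvd_of_le hYσ)
  have hYp : IsPGroup q Y := IsPGroup.of_card (n := 1) (by rw [hYc, pow_one])
  have hY1 : Y ≠ ⊥ := by
    intro h
    rw [h, Subgroup.card_bot] at hYc
    exact hq.ne_one hYc.symm
  obtain ⟨m, hm, c, hc, rfl⟩ :=
    (Cfsg.Agent.S1404.result hG M hM q hqσ Y hYp hY1 (hYσ.trans hσM)).1 g hg
  exact M.mul_mem hm (hC hc)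

/-- conjunct 1 of S1431: `K* ∩ M^g = 1` for `g ∉ M`. -/
theorem bg14r_part1 (hG : IsMinSimpleOddOrder G) {M T : Subgroup G} (hM : IsCoatom M)
    (hTσ : T ≤ sigmaCore M)
    (hU1 : ∀ Y : Subgroup G, Y ≤ T → (Nat.card Y).Prime → centralizer (Y : Set G) ≤ M) :
    ∀ g : G, g ∉ M → T ⊓ M.map (MulAut.conj g).toMonoidHom = ⊥ := by
  intro g hg
  rw [eq_bot_iff]
  intro x hx
  rw [mem_bot]
  by_contra hx1
  obtain ⟨hxK, hxM⟩ := Subgroup.mem_inf.mp hx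
  obtain ⟨q, Y, hq, hYx, hYc⟩ := Cfsg.Agent.Helper51.bgc_exists_prime_sub hx1
  have hYK : Y ≤ T := hYx.trans (zpowers_le.mpr hxK)
  have hC := hU1 Y hYK (hYc ▸ hq)
  apply hg
  have h1 : g⁻¹ ∈ M := by
    refine bg14r_mem_of_conj hG hM hq (hYK.trans hTσ) hYc hC (g := g⁻¹) ?_
    rintro _ ⟨y, hy, rfl⟩
    have hyM : y ∈ M.map (MulAut.conj g).toMonoidHom := (zpowers_le.mpr hxM) (hYx hy)
    obtain ⟨m, hm, hmy⟩ := hyM
    have hmy' : g * m * g⁻¹ = y := hmy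
    have h2 : (MulAut.conj g⁻¹).toMonoidHom y = m := by
      show g⁻¹ * y * g⁻¹⁻¹ = m
      rw [← hmy']
      group
    rw [h2]
    exact hm
  have h3 := M.inv_mem h1
  rwa [inv_inv] at h3

/-- conjunct 4 of S1431: a `σ(M)`-subgroup meeting `K*` lies in `M_σ`. -/
theorem bg14r_part4 (hG : IsMinSimpleOddOrder G) {M T : Subgroup G} (hM : IsCoatom M)
    (hTσ : T ≤ sigmaCore M)
    (hU1 : ∀ Y : Subgroup G, Y ≤ T → (Nat.card Y).Prime → centralizer (Y : Set G) ≤ M) :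
    ∀ Y : Subgroup G, (∀ p : ℕ, p.Prime → p ∣ Nat.card Y → p ∈ sigma M) → Y ⊓ T ≠ ⊥ →
      Y ≤ sigmaCore M := by
  intro Y hYσ hYT
  obtain ⟨⟨x, hx⟩, hx1'⟩ := Subgroup.ne_bot_iff_exists_ne_one.mp hYT
  have hx1 : x ≠ 1 := fun h => hx1' (Subtype.ext h)
  obtain ⟨hxY, hxT⟩ := Subgroup.mem_inf.mp hx
  have hY1 : Y ≠ ⊥ := fun h => by
    rw [h] at hxY
    exact hx1 (Subgroup.mem_bot.mp hxY)
  obtain ⟨g, hg⟩ := Cfsg.Agent.S1425.result hG M hM Y hY1 hYσ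
  obtain ⟨q, Y₀, hq, hY₀x, hY₀c⟩ := Cfsg.Agent.Helper51.bgc_exists_prime_sub hx1
  have hY₀T : Y₀ ≤ T := hY₀x.trans (zpowers_le.mpr hxT)
  have hC := hU1 Y₀ hY₀T (hY₀c ▸ hq)
  have hσM : sigmaCore M ≤ M := Cfsg.Agent.Helper23.piCoreOf_le (sigma M) M
  have hgM : g ∈ M := by
    refine bg14r_mem_of_conj hG hM hq (hY₀T.trans hTσ) hY₀c hC ?_
    exact (Subgroup.map_mono (hY₀x.trans (zpowers_le.mpr hxY))).trans (hg.trans hσM)
  intro y hy
  have h1 : (MulAut.conj g).toMonoidHom y ∈ sigmaCore M := hg (Subgroup.mem_map_of_mem _ hy)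
  have h1' : g * y * g⁻¹ ∈ sigmaCore M := h1
  have hSn : M ≤ normalizer (sigmaCore M : Set G) :=
    Cfsg.Agent.Helper23.le_normalizer_piCoreOf (sigma M) M
  have h2 := (mem_normalizer_iff.mp (hSn (M.inv_mem hgM)) (g * y * g⁻¹)).mp h1'
  have h3 : g⁻¹ * (g * y * g⁻¹) * g⁻¹⁻¹ = y := by group
  rwa [h3] at h2

omit [Finite G] in
/-- conjunct 2 of S1431: `K ∩ K^g = 1` for `g ∈ M ∖ K K*`. -/
theorem bg14r_part2 {M K S : Subgroup G} (hKM : K ≤ M)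
    (hcop : (Nat.card K).Coprime (Nat.card ↥⁅M, M⁆))
    (h54 : ∀ k ∈ K, k ≠ 1 →
      M ⊓ centralizer ({k} : Set G) = K ⊔ (S ⊓ centralizer (K : Set G))) :
    ∀ g ∈ M, g ∉ K ⊔ (S ⊓ centralizer (K : Set G)) →
      K ⊓ K.map (MulAut.conj g).toMonoidHom = ⊥ := by
  intro g hgM hg
  rw [eq_bot_iff]
  intro k hk
  rw [mem_bot]
  by_contra hk1
  obtain ⟨hkK, hkg⟩ := Subgroup.mem_inf.mp hk
  obtain ⟨k', hk', hkk'⟩ := hkg
  have hkk : g * k' * g⁻¹ = k := hkk'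
  have hk'1 : k' ≠ 1 := by
    intro h
    apply hk1
    rw [← hkk, h]
    group
  have h2 : g * k' * g⁻¹ * k'⁻¹ ∈ K ⊓ ⁅M, M⁆ := by
    refine Subgroup.mem_inf.mpr ⟨?_, ?_⟩
    · rw [hkk]
      exact K.mul_mem hkK (K.inv_mem hk')
    · have h3 : g * k' * g⁻¹ * k'⁻¹ = ⁅g, k'⁆ := rfl
      rw [h3]
      exact Subgroup.commutator_mem_commutator hgM (hKM hk')
  have h3 : K ⊓ ⁅M, M⁆ = ⊥ := (Subgroup.disjoint_of_coprime_natCard hcop).eq_bot
  rw [h3, mem_bot] at h2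
  apply hg
  rw [← h54 k' hk' hk'1]
  refine Subgroup.mem_inf.mpr ⟨hgM, ?_⟩
  rw [mem_centralizer_iff]
  intro z hz
  rw [Set.mem_singleton_iff] at hz
  subst hz
  calc z * g = (g * z * g⁻¹ * z⁻¹)⁻¹ * (g * z) := by group
    _ = g * z := by rw [h2, inv_one, one_mul]

/-- focal-subgroup lemma for a split extension: if `N ⊴ L`, `N ∩ S = 1`, `N S = L`, then
`S ∩ L' = S'`. -/
theorem bg14r_focal {L : Type*} [Group L] (N S : Subgroup L) [N.Normal] (hNS : N ⊓ S = ⊥)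
    (hsup : N ⊔ S = ⊤) {x : L} (hxS : x ∈ S) (hx : x ∈ commutator L) : x ∈ ⁅S, S⁆ := by
  have hmap : S.map (QuotientGroup.mk' N) = ⊤ := by
    rw [eq_top_iff]
    intro q _
    obtain ⟨l, rfl⟩ := QuotientGroup.mk'_surjective N q
    have hl : l ∈ N ⊔ S := by rw [hsup]; exact Subgroup.mem_top l
    have hSN : S ≤ normalizer (N : Set L) := by
      rw [Subgroup.normalizer_eq_top_iff.mpr inferInstance]; exact le_top
    obtain ⟨n, hn, s, hs, rfl⟩ :=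
      Cfsg.Agent.Helper35.exists_mul_of_mem_sup_of_le_normalizer hSN hl
    refine ⟨s, hs, ?_⟩
    show (QuotientGroup.mk' N) s = (QuotientGroup.mk' N) (n * s)
    rw [map_mul]
    have h0 : (QuotientGroup.mk' N) n = 1 := (QuotientGroup.eq_one_iff n).mpr hn
    rw [h0, one_mul]
  have h1 : (QuotientGroup.mk' N) x ∈ (⁅S, S⁆).map (QuotientGroup.mk' N) := by
    rw [Subgroup.map_commutator, hmap]
    have h2 : (QuotientGroup.mk' N) x ∈ (commutator L).map (QuotientGroup.mk' N) :=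
      Subgroup.mem_map_of_mem _ hx
    rw [commutator_def, Subgroup.map_commutator] at h2
    exact Subgroup.commutator_mono le_top le_top h2
  obtain ⟨c, hc, hcx⟩ := h1
  have h2 : c⁻¹ * x ∈ N := QuotientGroup.eq.mp hcx
  have h3 : c⁻¹ * x ∈ S := S.mul_mem (S.inv_mem (Subgroup.commutator_le_self S hc)) hxS
  have h4 : c⁻¹ * x ∈ N ⊓ S := Subgroup.mem_inf.mpr ⟨h2, h3⟩
  rw [hNS, mem_bot] at h4
  have h5 : x = c := by
    have h6 : c * (c⁻¹ * x) = c * 1 := congrArg (fun z => c * z) h4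
    rw [mul_inv_cancel_left, mul_one] at h6
    exact h6
  rw [h5]
  exact hc

/-- a `p`-element of `M`, `p ∈ σ(M)`, lies in `M_σ`. -/
theorem bg14r_mem_sigmaCore_of_pelem (hG : IsMinSimpleOddOrder G) {M : Subgroup G}
    (hM : IsCoatom M) {p : ℕ} (hp : p.Prime) (hpσ : p ∈ sigma M) {b : G} (hb : b ∈ M) {j : ℕ}
    (hbo : orderOf b = p ^ j) : b ∈ sigmaCore M := by
  have hU : Cfsg.Agent.Helper22.BGUniq G :=
    fun K hK h1 h2 => Cfsg.Agent.S1403.result hG K hK h1 h2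
  obtain ⟨⟨hσle, hσpi, hσidx⟩, -, -⟩ := Cfsg.Agent.Helper22.bg10_sigma_hall hG hU hM
  apply Cfsg.Agent.Helper31.bgc_mem_sigmaCore_of_order hG hM hb
  have h1 : Nat.card ↥(sigmaCore M) * (sigmaCore M).relIndex M = Nat.card M := by
    have h := Subgroup.relIndex_mul_relIndex ⊥ (sigmaCore M) M bot_le hσle
    rwa [Subgroup.relIndex_bot_left, Subgroup.relIndex_bot_left] at h
  have h2 : orderOf b ∣ Nat.card M := by
    have h3 := orderOf_dvd_natCard (⟨b, hb⟩ : M)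
    rwa [Subgroup.orderOf_mk] at h3
  rw [← h1] at h2
  rw [hbo] at h2 ⊢
  exact (Nat.Coprime.dvd_mul_right
    (Nat.Coprime.pow_left j ((Nat.Prime.coprime_iff_not_dvd hp).mpr (hσidx p hp hpσ)))).mp h2

/-- for `p ∈ σ(M) ∖ β(M)`: a subgroup of order `p` of `M''` lies in `(M_σ)'`. -/
theorem bg14r_le_sigma_derived (hG : IsMinSimpleOddOrder G) {M X : Subgroup G}
    (hM : IsCoatom M) {p : ℕ} (hp : p.Prime) (hpσ : p ∈ sigma M) (hpβ : p ∉ beta M)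
    (hXc : Nat.card X = p) (hXM' : X ≤ ⁅M, M⁆) (hXM'' : X ≤ ⁅⁅M, M⁆, ⁅M, M⁆⁆) :
    X ≤ ⁅sigmaCore M, sigmaCore M⁆ := by
  haveI := Fact.mk hp
  obtain ⟨-, -, -, -, h14⟩ := Cfsg.Agent.S1414.result hG M hM
  obtain ⟨⟨P, N, hNn, hNP⟩, -, -⟩ := h14 p hp hpσ.2.1 hpβ
  haveI := hNn
  have hXp : IsPGroup p (X.subgroupOf ⁅M, M⁆) := IsPGroup.of_card (n := 1) (by
    rw [Cfsg.Agent.Helper35.card_subgroupOf_of_le hXM', hXc, pow_one])
  obtain ⟨Q, hQ⟩ := hXp.exists_le_sylow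
  have hcardQ : Nat.card (Q : Subgroup ↥⁅M, M⁆) = Nat.card (P : Subgroup ↥⁅M, M⁆) := by
    rw [Sylow.card_eq_multiplicity, Sylow.card_eq_multiplicity]
  have hcard := hNP.card_mul_card
  have hcopN : (Nat.card N).Coprime (Nat.card (Q : Subgroup ↥⁅M, M⁆)) := by
    have h1 : Nat.card N = (P : Subgroup ↥⁅M, M⁆).index := by
      have h2 := (P : Subgroup ↥⁅M, M⁆).card_mul_index
      apply Nat.eq_of_mul_eq_mul_left (Nat.card_pos : 0 < Nat.card (P : Subgroup ↥⁅M, M⁆))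
      rw [h2, ← hcard, mul_comm]
    rw [h1, hcardQ]
    exact (P.card_coprime_index).symm
  have hNQ : N ⊓ (Q : Subgroup ↥⁅M, M⁆) = ⊥ :=
    (Subgroup.disjoint_of_coprime_natCard hcopN).eq_bot
  have hsup : N ⊔ (Q : Subgroup ↥⁅M, M⁆) = ⊤ := by
    apply Subgroup.eq_top_of_card_eq
    have h3 := Cfsg.Agent.Helper51.card_sup_mul_card_inf_of_le_normalizer
      (Q : Subgroup ↥⁅M, M⁆) N (by
        rw [Subgroup.normalizer_eq_top_iff.mpr hNn]; exact le_top)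
    rw [inf_comm, hNQ, Subgroup.card_bot, mul_one, sup_comm] at h3
    rw [h3, hcardQ, ← hcard, mul_comm]
  have hmap : (commutator ↥⁅M, M⁆).map (⁅M, M⁆).subtype = ⁅⁅M, M⁆, ⁅M, M⁆⁆ := by
    rw [commutator_def, Subgroup.map_commutator, ← MonoidHom.range_eq_map,
      Subgroup.range_subtype]
  have hQσ : (Q : Subgroup ↥⁅M, M⁆).map (⁅M, M⁆).subtype ≤ sigmaCore M := by
    rintro _ ⟨b, hb, rfl⟩
    obtain ⟨j, hj⟩ := (IsPGroup.iff_orderOf.mp Q.isPGroup') ⟨b, hb⟩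
    rw [Subgroup.orderOf_mk] at hj
    have hj' : orderOf ((⁅M, M⁆).subtype b) = p ^ j := by
      rw [Subgroup.coe_subtype, Subgroup.orderOf_coe]
      exact hj
    exact bg14r_mem_sigmaCore_of_pelem hG hM hp hpσ (Subgroup.commutator_le_self M b.2) hj'
  intro x hx
  have hx2 : x ∈ (commutator ↥⁅M, M⁆).map (⁅M, M⁆).subtype := by
    rw [hmap]
    exact hXM'' hx
  obtain ⟨z, hz, hzx⟩ := hx2
  have hzQ : z ∈ (Q : Subgroup ↥⁅M, M⁆) := by
    apply hQ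
    rw [Subgroup.mem_subgroupOf]
    have hzx' : (z : G) = x := hzx
    rw [hzx']
    exact hx
  have hzc := bg14r_focal N (Q : Subgroup ↥⁅M, M⁆) hNQ hsup hzQ hz
  have h5 : x ∈ (⁅(Q : Subgroup ↥⁅M, M⁆), (Q : Subgroup ↥⁅M, M⁆)⁆).map (⁅M, M⁆).subtype :=
    ⟨z, hzc, hzx⟩
  rw [Subgroup.map_commutator] at h5
  exact Subgroup.commutator_mono hQσ hQσ h5

/-- conjunct 3 of S1431: Sylow subgroups of `M_σ` for the primes of `K*`. -/
theorem bg14r_part3 (hG : IsMinSimpleOddOrder G) (hUse : BGUse1 G) {M K : Subgroup G}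
    (hM : IsCoatom M) (hK : IsPiHallOf (kappa M) K M) (hK1 : K ≠ ⊥)
    (hσM' : sigmaCore M ≤ ⁅M, M⁆)
    (hKs : sigmaCore M ⊓ centralizer (K : Set G) ≠ ⊥)
    (hKM'' : sigmaCore M ⊓ centralizer (K : Set G) ≤ ⁅⁅M, M⁆, ⁅M, M⁆⁆) :
    ∀ (p : ℕ), p.Prime → p ∣ Nat.card ↥(sigmaCore M ⊓ centralizer (K : Set G)) →
      ∀ S : Sylow p ↥(sigmaCore M),
        InUniqueMaximal ((S : Subgroup ↥(sigmaCore M)).map (sigmaCore M).subtype) ∧
        (S : Subgroup ↥(sigmaCore M)).map (sigmaCore M).subtype ≤ M ∧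
        ¬ (S : Subgroup ↥(sigmaCore M)).map (sigmaCore M).subtype
            ≤ (sigmaCore M ⊓ centralizer (K : Set G)) := by
  intro p hp hpd S
  haveI := Fact.mk hp
  have hσM : sigmaCore M ≤ M := Cfsg.Agent.Helper23.piCoreOf_le (sigma M) M
  have hpσ : p ∈ sigma M := Cfsg.Agent.Helper23.mem_of_dvd_card_piCoreOf (sigma M) M hp
    (hpd.trans (Subgroup.card_dvd_of_le inf_le_left))
  obtain ⟨x, hxo⟩ := exists_prime_orderOf_dvd_card'
    (G := ↥(sigmaCore M ⊓ centralizer (K : Set G))) p hpd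
  have hXc : Nat.card (zpowers (x : G)) = p := by
    rw [Nat.card_zpowers, Subgroup.orderOf_coe, hxo]
  have hXK : zpowers (x : G) ≤ sigmaCore M ⊓ centralizer (K : Set G) := zpowers_le.mpr x.2
  have hor : p ∈ beta M ∨ zpowers (x : G) ≤ ⁅sigmaCore M, sigmaCore M⁆ := by
    by_cases hβ : p ∈ beta M
    · exact Or.inl hβ
    · exact Or.inr (bg14r_le_sigma_derived hG hM hp hpσ hβ hXc
        ((hXK.trans inf_le_left).trans hσM') (hXK.trans hKM''))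
  obtain ⟨-, huniq, hle⟩ := Cfsg.Agent.S1423.result hG M hM p hpσ (zpowers (x : G))
    ((hXK.trans inf_le_left).trans hσM) hXc S hor
  refine ⟨huniq, hle, ?_⟩
  intro hPK
  obtain ⟨⟨k, hk⟩, hk1'⟩ := Subgroup.ne_bot_iff_exists_ne_one.mp hK1
  have hk1 : k ≠ 1 := fun h => hk1' (Subtype.ext h)
  obtain ⟨q, Y, hq, hYk, hYc⟩ := Cfsg.Agent.Helper51.bgc_exists_prime_sub hk1
  have hYK : Y ≤ K := hYk.trans (zpowers_le.mpr hk)
  have hYp : (Nat.card Y).Prime := hYc ▸ hq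
  have hY1 : Y ≠ ⊥ := by
    intro h
    rw [h, Subgroup.card_bot] at hYp
    exact Nat.not_prime_one hYp
  have hYtop : Y ≠ ⊤ := fun h => hM.1 (top_le_iff.mp (h ▸ hYK.trans hK.1))
  haveI : IsSimpleGroup G := hG.2.1
  obtain ⟨L, hL, hNL⟩ := Cfsg.Agent.Helper23.uq_exists_coatom_ge
    (Cfsg.Agent.Helper23.normalizer_ne_top_of_simple hY1 hYtop)
  have hPL : (S : Subgroup ↥(sigmaCore M)).map (sigmaCore M).subtype ≤ L :=
    hPK.trans (inf_le_right.trans ((Subgroup.centralizer_le hYK).trans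
      ((Subgroup.centralizer_le_normalizer _).trans hNL)))
  have hLM : L = M := huniq.unique ⟨hL, hPL⟩ ⟨hM, hle⟩
  have hD : sigmaCore M ⊓ centralizer (Y : Set G) ≠ ⊥ := by
    intro h
    apply hKs
    rw [eq_bot_iff] at h ⊢
    exact (inf_le_inf_left _ (Subgroup.centralizer_le hYK)).trans h
  have hYσ : Y ≤ sigmaCore L := bg14r_le_sigmaCore hG hUse hM hK hYK hYp hD hL hNL
  rw [hLM] at hYσ
  have hinf : K ⊓ sigmaCore M = ⊥ := Cfsg.Agent.Helper49.bg14u_kappa_inf_sigma hK.2.1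
  apply hY1
  rw [eq_bot_iff, ← hinf]
  exact le_inf hYK hYσ

/-- **Row S1431 for a cyclic `K`.** -/
theorem bg14_1431_of_cyclic (hG : IsMinSimpleOddOrder G) (hUse : BGUse1 G)
    (M : Subgroup G) (hM : IsCoatom M) (K : Subgroup G) (hK : IsPiHallOf (kappa M) K M)
    (hK1 : K ≠ ⊥) (hKcyc : IsCyclic K) :
    (∀ g : G, g ∉ M → (sigmaCore M ⊓ centralizer (K : Set G))
        ⊓ M.map (MulAut.conj g).toMonoidHom = ⊥) ∧
      (∀ g ∈ M, g ∉ K ⊔ (sigmaCore M ⊓ centralizer (K : Set G)) →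
        K ⊓ K.map (MulAut.conj g).toMonoidHom = ⊥) ∧
      (∀ (p : ℕ), p.Prime → p ∣ Nat.card ↥(sigmaCore M ⊓ centralizer (K : Set G)) →
        ∀ S : Sylow p ↥(sigmaCore M),
          InUniqueMaximal ((S : Subgroup ↥(sigmaCore M)).map (sigmaCore M).subtype) ∧
          (S : Subgroup ↥(sigmaCore M)).map (sigmaCore M).subtype ≤ M ∧
          ¬ (S : Subgroup ↥(sigmaCore M)).map (sigmaCore M).subtype
              ≤ (sigmaCore M ⊓ centralizer (K : Set G))) ∧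
      ∀ Y : Subgroup G, (∀ p : ℕ, p.Prime → p ∣ Nat.card Y → p ∈ sigma M) →
        Y ⊓ (sigmaCore M ⊓ centralizer (K : Set G)) ≠ ⊥ → Y ≤ sigmaCore M := by
  obtain ⟨⟨U, hKU⟩, -⟩ := Cfsg.Agent.S1352.result hG M hM K hKcyc hK
  obtain ⟨h65, hcop, -, hKs, h54, hU1⟩ := Cfsg.Agent.Helper23.bg14_pkg hG hM hKU hK1
  have h65b := (Cfsg.Agent.Helper22.bg14d_1365 hG (Cfsg.Agent.Helper23.bg14_sigmaPart hG)
    (Cfsg.Agent.Helper23.bg14_lemmaZ_pkg hG) hM hKU hK1).2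
  have hσM' : sigmaCore M ≤ ⁅M, M⁆ := by
    rw [h65]
    exact le_sup_right
  exact ⟨bg14r_part1 hG hM inf_le_left (fun Y hY hYp => (hU1 Y hY hYp).1),
    bg14r_part2 hK.1 hcop h54,
    bg14r_part3 hG hUse hM hK hK1 hσM' hKs h65b,
    bg14r_part4 hG hM inf_le_left (fun Y hY hYp => (hU1 Y hY hYp).1)⟩

end Cfsg.Agent.Helper68
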