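/-
helper68: piece C2A of CALL S1363.
-/
import Cfsg.Agent.Helper68.BG63Defs
import Cfsg.Agent.Helper35.CoprimeGen2
import Cfsg.Agent.Helper22.BG10c
import Cfsg.Agent.Helper22.BG12a
import Cfsg.Agent.Helper23.BG12b
import Cfsg.Agent.Helper24.BG11b
import Cfsg.Agent.S1420
import Cfsg.Agent.S1417

set_option autoImplicit false

namespace Cfsg.Agent.Helper68

open Cfsg Subgroup

universe u

variable {G : Type u} [Group G] [Finite G]

/-- C2A. For a complement `E` of `H_σ` in `H`, the group `C_{E'}(H_σ)` is cyclic. -/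
theorem bg63_W_cyclic (hG : IsMinSimpleOddOrder G) {H E : Subgroup G} (hH : IsCoatom H)
    (hE : IsComplIn E (sigmaCore H) H) :
    IsCyclic ↥(⁅E, E⁆ ⊓ centralizer (sigmaCore H : Set G)) := by
  have hU : Helper22.BGUniq G := fun K hK h1 h2 => Cfsg.Agent.S1403.result hG K hK h1 h2
  have hEE : ⁅E, E⁆ ≤ E := Subgroup.commutator_le.mpr fun a ha b hb =>
    E.mul_mem (E.mul_mem (E.mul_mem ha hb) (E.inv_mem ha)) (E.inv_mem hb)
  have hcomm : IsMulCommutative ↥⁅E, E⁆ := (Cfsg.Agent.S1420.result hG H hH E hE).2.1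
  obtain ⟨W, hW⟩ : ∃ W : Subgroup G, W = ⁅E, E⁆ ⊓ centralizer (sigmaCore H : Set G) := ⟨_, rfl⟩
  rw [← hW]
  have hWE' : W ≤ ⁅E, E⁆ := hW.le.trans inf_le_left
  have hWcen : W ≤ centralizer (sigmaCore H : Set G) := hW.le.trans inf_le_right
  have hWc : ∀ a ∈ W, ∀ b ∈ W, a * b = b * a := fun a ha b hb => by
    have := hcomm.is_comm.comm (⟨a, hWE' ha⟩ : ↥⁅E, E⁆) ⟨b, hWE' hb⟩
    exact congrArg Subtype.val this
  by_contra hnc
  letI : CommGroup W :=
    { (inferInstance : Group W) with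
      mul_comm := fun a b => Subtype.ext (hWc a a.2 b b.2) }
  obtain ⟨t, ht, u, v, hu, hv, hu1, huv⟩ := Helper35.exists_prime_pow_of_not_isCyclic hnc
  haveI := Fact.mk ht
  have hnr : ¬ PRankLE t 1 ↥W := by
    intro hr
    let A' : Subgroup W :=
      { carrier := {x | x ^ t = 1}
        mul_mem' := by
          intro a b ha hb
          simp only [Set.mem_setOf_eq] at *
          rw [mul_pow, ha, hb, one_mul]
        one_mem' := one_pow _
        inv_mem' := by
          intro a ha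
          simp only [Set.mem_setOf_eq] at *
          rw [inv_pow, ha, inv_one] }
    have hA'c : IsMulCommutative A' := ⟨⟨fun a b => Subtype.ext (mul_comm (a : W) b)⟩⟩
    have hcard := hr A' hA'c (fun a ha => ha)
    rw [pow_one] at hcard
    have huA : u ∈ A' := hu
    have hvA : v ∈ A' := hv
    have hou : orderOf u = t := orderOf_eq_prime hu hu1
    have hzle : zpowers u ≤ A' := zpowers_le.mpr huA
    have hzcard : Nat.card (zpowers u) = t := by rw [Nat.card_zpowers, hou]
    have heq : zpowers u = A' :=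
      Subgroup.eq_of_le_of_card_ge hzle (by rw [hzcard]; exact hcard)
    have hvz : v ∈ zpowers u := heq ▸ hvA
    have hvp : v ∈ Submonoid.powers u := (mem_powers_iff_mem_zpowers).mpr hvz
    obtain ⟨n, hn⟩ := hvp
    apply huv (n * (t - 1))
    have hn' : u ^ n = v := hn
    rw [← hn', ← pow_add]
    have h1 : n * (t - 1) + n = t * n := by
      have := ht.one_lt
      zify [this.le]
      ring
    rw [h1, pow_mul, hu, one_pow]
  obtain ⟨A, hAW, hAc, hAe, hAcard⟩ := Helper22.bg10_exists_elemAb_sq ht hnr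
  have hAE : A ≤ E := hAW.trans (hWE'.trans hEE)
  have hAH : A ≤ H := hAE.trans hE.1
  have htE : t ∣ Nat.card E := by
    have h1 : t ∣ Nat.card A := by rw [hAcard]; exact dvd_pow_self t two_ne_zero
    exact h1.trans (Subgroup.card_dvd_of_le hAE)
  have htσ : t ∉ sigma H := Helper22.bg12_not_sigma_of_dvd hG hU hH hE ht htE
  have hr2 : PRankLE t 2 ↥H := Helper22.bg10_pRank_of_not_alpha H t ht
    (fun hα => htσ (Helper22.bg10_alpha_sub_sigma hG hU hH hα))
  have hAel : IsElementaryAbelian t A :=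
    ⟨⟨⟨fun a b => Subtype.ext (hAc a a.2 b b.2)⟩⟩, hAe⟩
  have hr1 : ¬ PRankLE t 1 ↥H := by
    intro hr
    have h1 := Helper23.bg12_card_le_of_pRankLE hr hAH hAel
    rw [hAcard, pow_one] at h1
    have := ht.one_lt
    nlinarith
  have htτ : t ∈ tau2 H := ⟨ht, htσ, hr2, hr1⟩
  have h17 := (Cfsg.Agent.S1417.result hG H hH t htτ A ⟨hAH, hAel, hAcard⟩).2.2.2.1
  have hle : sigmaCore H ≤ centralizer (A : Set G) := by
    intro s hs
    rw [Subgroup.mem_centralizer_iff]
    intro a ha
    exact ((Subgroup.mem_centralizer_iff.mp (hWcen (hAW ha))) s hs).symm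
  have hbot : sigmaCore H = ⊥ := by
    rw [← h17]
    exact (inf_eq_left.mpr hle).symm
  exact Helper24.bg11b_sigmaCore_ne_bot hG hU hH hbot

end Cfsg.Agent.Helper68
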