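/-
helper68: pieces REG and CEN of CALL S1363.
-/
import Cfsg.Agent.Helper68.BG63Pure
import Cfsg.Agent.Helper68.BG14R30
import Cfsg.Agent.Helper23.BG139D1
import Cfsg.Agent.Helper23.BG14U1

set_option autoImplicit false

namespace Cfsg.Agent.Helper68

open Cfsg Subgroup

universe u

variable {G : Type u} [Group G] [Finite G]

/-- REG. `K` acts regularly on `U`. -/
theorem bg63_reg (hG : IsMinSimpleOddOrder G) {M K U : Subgroup G} (hM : IsCoatom M)
    (hKU : IsSigmaDecomposition M K U) (hK1 : K ≠ ⊥) :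
    ∀ k ∈ K, k ≠ 1 → ∀ a ∈ U, k * a = a * k → a = 1 := by
  intro k hk hk1 a ha hka
  obtain ⟨-, -, -, -, hcent, -⟩ := Helper23.bg14_pkg hG hM hKU hK1
  have h1 : a ∈ M ⊓ centralizer ({k} : Set G) := by
    refine Subgroup.mem_inf.mpr ⟨hKU.compl.1 ha, ?_⟩
    rw [Subgroup.mem_centralizer_iff]
    intro h hh
    rw [Set.mem_singleton_iff] at hh
    rw [hh]
    exact hka
  rw [hcent k hk hk1] at h1
  have h2 : K ⊔ (sigmaCore M ⊓ centralizer (K : Set G)) ≤ K ⊔ sigmaCore M :=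
    sup_le_sup_left inf_le_left K
  have h3 : a ∈ U ⊓ (K ⊔ sigmaCore M) := Subgroup.mem_inf.mpr ⟨ha, h2 h1⟩
  rw [hKU.compl.2.2.1] at h3
  exact Subgroup.mem_bot.mp h3

/-- CEN. `H_σ` centralizes the `σ(H)'`-part of `U`. -/
theorem bg63_cent (hG : IsMinSimpleOddOrder G) {M K U H : Subgroup G} (hM : IsCoatom M)
    (hKU : IsSigmaDecomposition M K U) (hK1 : K ≠ ⊥) (hKp : (Nat.card K).Prime)
    (hUc : IsMulCommutative U) (hH : IsCoatom H) (hKH : K ≤ H) (hUH : U ≤ H)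
    (hpσ : Nat.card K ∉ sigma H) (hnil : Group.IsNilpotent (sigmaCore H))
    (hfpf : ∀ k ∈ K, k ≠ 1 → ∀ y ∈ sigmaCore H, k * y = y * k → y = 1) :
    sigmaCore H ≤ centralizer (bg63C (sigma H) U : Set G) := by
  obtain ⟨k, hk, hk1⟩ : ∃ k ∈ K, k ≠ 1 := by
    by_contra hcon
    exact hK1 ((Subgroup.eq_bot_iff_forall K).mpr fun x hx => by
      by_contra hx1
      exact hcon ⟨x, hx, hx1⟩)
  have hreg := bg63_reg hG hM hKU hK1
  refine Helper23.bg139_frob_cent hG.1 hKp (S := bg63C (sigma H) U) (T := sigmaCore H) (x := k)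
    hnil ?_ ?_ ?_ ?_ ?_ ?_ ?_ ?_ ?_
  · exact ((bg63C_le _ _).trans hUH).trans (Helper23.le_normalizer_piCoreOf (sigma H) H)
  · exact Helper23.le_normalizer_piCoreOf (sigma H) H (hKH hk)
  · exact bg63_C_norm _ (hKU.normal hk)
  · have h' := orderOf_dvd_natCard (⟨k, hk⟩ : K)
    rw [Subgroup.orderOf_mk] at h'
    exact orderOf_dvd_iff_pow_eq_one.mp h'
  · intro hd
    exact hpσ (Helper23.mem_of_dvd_card_piCoreOf (sigma H) H hKp hd)
  · intro hd
    have hdU : Nat.card K ∣ Nat.card U := hd.trans (Subgroup.card_dvd_of_le (bg63C_le _ _))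
    have h1 := (bg14r_U_hall hG hM hKU).2.1 _ hKp hdU
    exact h1.2.1 (hKU.hall.2.1 _ hKp dvd_rfl)
  · apply Nat.coprime_of_dvd
    intro q hq h1 h2
    have hqσ : q ∈ sigma H := Helper23.mem_of_dvd_card_piCoreOf (sigma H) H hq h1
    haveI := Fact.mk hq
    obtain ⟨x, hx⟩ := exists_prime_orderOf_dvd_card' q h2
    have hxm := (bg63_C_mem hUc (sigma H) (x : G)).mp x.2
    exact hxm.2 q hq (by rw [Subgroup.orderOf_coe, hx]) hqσ
  · exact hfpf k hk hk1
  · intro a ha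
    exact hreg k hk hk1 a (bg63C_le _ _ ha)

end Cfsg.Agent.Helper68
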