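/-
helper68: pieces NM and DEC of CALL S1363.
-/
import Cfsg.Agent.Helper68.BG63Defs
import Cfsg.Agent.Helper23.BG12b
import Cfsg.Agent.Helper54.BG14T4
import Cfsg.Agent.Helper54.BG14S

set_option autoImplicit false

namespace Cfsg.Agent.Helper68

open Cfsg Subgroup

universe u

variable {G : Type u} [Group G] [Finite G]

/-- NM. A maximal subgroup over `N_G(R)`, `R` a Sylow `r`-subgroup of `M`, `r ∉ σ(M)`, is not
conjugate to `M`. -/
theorem bg63_nconj_M {M H R : Subgroup G} {r : ℕ} (hr : r.Prime) (hrσ : r ∉ sigma M)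
    (hRM : R ≤ M) (hR1 : R ≠ ⊥) (hRr : IsPGroup r R) (hRi : ¬ r ∣ R.relIndex M)
    (hNR : normalizer (R : Set G) ≤ H) :
    ∀ g : G, H ≠ M.map (MulAut.conj g).toMonoidHom := by
  intro g hg
  haveI := Fact.mk hr
  have hRH : R ≤ H := le_normalizer.trans hNR
  have hcard : Nat.card H = Nat.card M := by
    rw [hg]
    exact Subgroup.card_map_of_injective (MulEquiv.injective _)
  have h1 : Nat.card R * R.relIndex M = Nat.card M := by
    have h := Subgroup.card_mul_index (R.subgroupOf M)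
    rwa [Helper35.card_subgroupOf_of_le hRM] at h
  have h2 : Nat.card R * R.relIndex H = Nat.card H := by
    have h := Subgroup.card_mul_index (R.subgroupOf H)
    rwa [Helper35.card_subgroupOf_of_le hRH] at h
  have hRiH : ¬ r ∣ R.relIndex H := by
    have h3 : R.relIndex H = R.relIndex M := by
      apply Nat.eq_of_mul_eq_mul_left (Nat.card_pos (α := R))
      rw [h1, h2, hcard]
    rw [h3]
    exact hRi
  have hS : Helper23.IsSylowOf r R H := by
    refine ⟨hRH, hRr, ?_⟩
    intro T hTH hT hRT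
    have h3 : R.relIndex T ∣ R.relIndex H :=
      Dvd.intro _ (Subgroup.relIndex_mul_relIndex R T H hRT hTH)
    obtain ⟨n, hn⟩ := IsPGroup.iff_card.mp hT
    have h4 : R.relIndex T ∣ r ^ n := by
      rw [← hn]
      exact Subgroup.relIndex_dvd_card R T
    obtain ⟨j, -, hj⟩ := (Nat.dvd_prime_pow hr).mp h4
    have hj0 : j = 0 := by
      by_contra hj0
      apply hRiH
      refine dvd_trans ?_ h3
      rw [hj]
      exact dvd_pow_self r hj0
    rw [hj0, pow_zero] at hj
    exact le_antisymm (Subgroup.relIndex_eq_one.mp hj) hRT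
  have h5 := Helper23.bg12_mem_sigma hS hR1 hNR
  rw [hg, Helper54.bg14t_sigma_conj] at h5
  exact hrσ h5

/-- DEC. Every element of `U ≤ H` is a product of an element of `U ∩ H_σ` and a
`σ(H)'`-element of `U`. -/
theorem bg63_decomp (hG : IsMinSimpleOddOrder G) {H U : Subgroup G} (hH : IsCoatom H)
    (hUH : U ≤ H) {u : G} (hu : u ∈ U) :
    ∃ a b : G, a ∈ U ∧ a ∈ sigmaCore H ∧ b ∈ bg63C (sigma H) U ∧ u = a * b := by
  obtain ⟨x, y, hx, hy, hxy, hxπ, hyπ⟩ := Helper54.bg14s_decomp (sigma H) u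
  have hxU : x ∈ U := (zpowers_le.mpr hu) hx
  have hyU : y ∈ U := (zpowers_le.mpr hu) hy
  exact ⟨x, y, hxU, Helper54.bg14s_mem_sigmaCore hG hH (hUH hxU) hxπ,
    bg63C_mem_of _ hyU hyπ, hxy⟩

end Cfsg.Agent.Helper68
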