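/-
helper68: assembly of CALL S1363: for a maximal subgroup `M = K U M_σ` with `K ≠ 1`, `U ≠ 1`
and partner `M*`: `N_G(U) ≰ M`.
-/
import Cfsg.Agent.Helper68.BG63Pure
import Cfsg.Agent.Helper68.BG63CEN
import Cfsg.Agent.Helper68.BG63NM
import Cfsg.Agent.Helper11.BG63C1A
import Cfsg.Agent.Helper11.BG63C2B
import Cfsg.Agent.Helper11.BG63C2C
import Cfsg.Agent.Helper23.BG63C1B
import Cfsg.Agent.Helper23.BG63FPFB
import Cfsg.Agent.Helper23.BG63NS
import Cfsg.Agent.Helper54.BG63COP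
import Cfsg.Agent.Helper54.BG63FPFA
import Cfsg.Agent.Helper68.BG63C2A
import Cfsg.Agent.Helper68.BG14R30
import Cfsg.Agent.Helper23.BGPMain
import Cfsg.Agent.Helper20.BG13P4
import Cfsg.Agent.S1369
import Cfsg.Agent.S1372
import Cfsg.Agent.S1429
import Cfsg.Agent.S1378

set_option autoImplicit false

namespace Cfsg.Agent.Helper68

open Cfsg Subgroup

universe u

variable {G : Type u} [Group G] [Finite G]

omit [Finite G] in
theorem bg63_map_conj_one (M : Subgroup G) : M.map (MulAut.conj (1 : G)).toMonoidHom = M := by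
  ext x
  simp

theorem bg63_main (hG : IsMinSimpleOddOrder G) {M K U Mstar : Subgroup G} (hM : IsCoatom M)
    (hKU : IsSigmaDecomposition M K U) (hK1 : K ≠ ⊥) (hU1 : U ≠ ⊥) (hMstar : IsCoatom Mstar)
    (hKst : K = sigmaCore Mstar ⊓
      centralizer ((sigmaCore M ⊓ centralizer (K : Set G) : Subgroup G) : Set G))
    (hKstH : IsPiHallOf (kappa Mstar) (sigmaCore M ⊓ centralizer (K : Set G)) Mstar) :
    ¬ normalizer (U : Set G) ≤ M := by
  intro hNU
  haveI : IsSimpleGroup G := hG.2.1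
  have hU : Helper22.BGUniq G := fun K hK h1 h2 => Cfsg.Agent.S1403.result hG K hK h1 h2
  have hKp : (Nat.card K).Prime := (Cfsg.Agent.S1372.result hG M hM K U hKU hK1 hU1).1
  have hUc : IsMulCommutative U := bg14r_U_comm hG hM hKU hK1
  have hUhall := bg14r_U_hall hG hM hKU
  have hUM : U ≤ M := hKU.compl.1
  obtain ⟨r, R, hr, hRU, hR1, hRr, hRi, hRn⟩ := bg63_exists_R hUc hU1
  haveI := Fact.mk hr
  have hrU : r ∣ Nat.card U :=
    (Helper22.bg11_dvd_card_of_isPGroup hRr hR1).trans (Subgroup.card_dvd_of_le hRU)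
  have hrπ := hUhall.2.1 r hr hrU
  have hrσ : r ∉ sigma M := hrπ.2.2
  have hRiM : ¬ r ∣ R.relIndex M := by
    rw [← Subgroup.relIndex_mul_relIndex R U M hRU hUM]
    intro h
    rcases (Nat.Prime.dvd_mul hr).mp h with h | h
    · exact hRi h
    · exact hUhall.2.2 r hr hrπ h
  have hRtop : R ≠ ⊤ := by
    intro h
    apply hM.1
    rw [eq_top_iff, ← h]
    exact hRU.trans hUM
  obtain ⟨H, hH, hNR⟩ :=
    Helper23.uq_exists_coatom_ge (Helper23.normalizer_ne_top_of_simple hR1 hRtop)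
  have hNUH : normalizer (U : Set G) ≤ H := fun g hg => hNR (hRn g hg)
  have hUH : U ≤ H := le_normalizer.trans hNUH
  have hKH : K ≤ H := hKU.normal.trans hNUH
  have hnM := bg63_nconj_M hr hrσ (hRU.trans hUM) hR1 hRr hRiM hNR
  have hnMs := Helper23.bg63_nconj_Ms hG hM hKU hK1 hU1 hMstar hKst hKstH hKH hUH
  have hκ : ∀ q : ℕ, q ∉ kappa H := by
    intro q hq
    obtain ⟨g, hg | hg⟩ :=
      (Cfsg.Agent.S1369.result hG M hM K U hKU hK1 Mstar hMstar hKst hKstH).2 H hH ⟨q, hq⟩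
    · exact hnM g hg
    · exact hnMs g hg
  have hpσs : Nat.card K ∈ sigma Mstar := by
    have hKσ : K ≤ sigmaCore Mstar := hKst.le.trans inf_le_left
    exact Helper23.mem_of_dvd_card_piCoreOf (sigma Mstar) Mstar hKp (Subgroup.card_dvd_of_le hKσ)
  have hpσ : Nat.card K ∉ sigma H := by
    intro h
    obtain ⟨g, hg⟩ := (Cfsg.Agent.S1378.result hG).2 Mstar H hMstar hH ⟨_, hpσs, h⟩
    exact hnMs g hg
  have hpH : Nat.card K ∣ Nat.card H := Subgroup.card_dvd_of_le hKH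
  have hnil : Group.IsNilpotent (sigmaCore H) := by
    haveI := Fact.mk hKp
    obtain ⟨S⟩ : Nonempty (Sylow (Nat.card K) H) := inferInstance
    exact (Cfsg.Agent.S1429.result hG H hH (fun h => hκ _ (h _ hKp hpH hpσ)) (Nat.card K) hpH
      (by rintro (h | h); exacts [hpσ h, hκ _ h]) S).2.2
  have hHMs : H ≠ Mstar := by
    intro h
    apply hnMs 1
    rw [h, bg63_map_conj_one]
  have hfpf : ∀ k ∈ K, k ≠ 1 → ∀ y ∈ sigmaCore H, k * y = y * k → y = 1 := by
    intro k hk hk1 y hy hky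
    by_contra hy1
    by_cases hrk : PRankLE (Nat.card K) 1 ↥H
    · exact hκ _ (Helper54.bg63_fpf_rank1 hG hKH hKp hpσ hrk hk hk1 hy hy1 hky)
    · have ht : Nat.card K ∈ tau2 H :=
        ⟨hKp, hpσ, Helper22.bg10_pRank_of_not_alpha H _ hKp
          (fun hα => hpσ (Helper22.bg10_alpha_sub_sigma hG hU hH hα)), hrk⟩
      exact hHMs (Helper23.bg63_fpf_tau2 hG hM hKU hK1 hMstar hKst hKstH hKp hH hKH ht hk hk1 hy hy1 hky)
  have hcen := bg63_cent hG hM hKU hK1 hKp hUc hH hKH hUH hpσ hnil hfpf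
  have hdec : ∀ u ∈ U, ∃ a b : G, a ∈ U ∧ a ∈ sigmaCore H ∧ b ∈ bg63C (sigma H) U ∧
      u = a * b := fun u hu => bg63_decomp hG hH hUH hu
  by_cases hSU : sigmaCore H ≤ U
  · -- Case 2: `H_σ ≤ U`; then `H ≤ N_G(U) ≤ M`.
    have hcop := Helper54.bg63_cop (H := H) hKp hpσ hKU.normal hUc
    obtain ⟨E, hE, hKCE⟩ := Helper20.bg13_exists_compl_ge hG hU hH
      (sup_le hKH ((bg63C_le _ _).trans hUH)) hcop
    have hKE : K ≤ E := le_sup_left.trans hKCE
    have hCE : bg63C (sigma H) U ≤ E := le_sup_right.trans hKCE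
    obtain ⟨k, hk, hk1⟩ : ∃ k ∈ K, k ≠ 1 := by
      by_contra hcon
      push_neg at hcon
      exact hK1 ((Subgroup.eq_bot_iff_forall K).mpr hcon)
    have hCc : ∀ a ∈ bg63C (sigma H) U, ∀ b ∈ bg63C (sigma H) U, a * b = b * a :=
      fun a ha b hb => by
        have := hUc.is_comm.comm (⟨a, bg63C_le _ _ ha⟩ : U) ⟨b, bg63C_le _ _ hb⟩
        exact congrArg Subtype.val this
    have hCcomm : bg63C (sigma H) U ≤ ⁅E, E⁆ :=
      Helper11.bg63_mem_comm (hKE hk) hCE hCc (bg63_C_norm _ (hKU.normal hk))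
        (fun a ha => bg63_reg hG hM hKU hK1 k hk hk1 a (bg63C_le _ _ ha))
    have hWc := bg63_W_cyclic hG hH hE
    have hCW : bg63C (sigma H) U ≤ ⁅E, E⁆ ⊓ centralizer (sigmaCore H : Set G) := by
      refine le_inf hCcomm ?_
      intro c hc
      rw [Subgroup.mem_centralizer_iff]
      intro s hs
      exact ((Subgroup.mem_centralizer_iff.mp (hcen hs)) c hc).symm
    have hEW := bg63_W_norm (E := E) (S := sigmaCore H)
      (hE.1.trans (Helper23.le_normalizer_piCoreOf (sigma H) H))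
    have hconj : ∀ e ∈ E, ∀ u ∈ bg63C (sigma H) U, e * u * e⁻¹ ∈ bg63C (sigma H) U :=
      fun e he u hu => (zpowers_le.mpr hu) (Helper11.bg63_conj_mem hWc (hEW he) (hCW hu))
    have hHn := bg63_le_norm hE hSU hUc (Helper23.le_normalizer_piCoreOf (sigma H) H) hdec
      (bg63C_le _ _) hconj
    have hHM : H ≤ M := hHn.trans hNU
    have hHeq : H = M := by
      by_contra hne
      exact hM.1 (hH.2 M (lt_of_le_of_ne hHM hne))
    apply hnM 1
    rw [hHeq, bg63_map_conj_one]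
  · -- Case 1: an element of `H_σ \ U` normalizing `U`.
    obtain ⟨g, hgS, hgU, hgN⟩ := Helper11.bg63_norm_elt hnil hSU hdec (bg63C_le _ _) hcen
    exact hgU (Helper23.bg63_mem_U hG hM hKU hK1 hKp hH hnM hpσ (hNU hgN) hgS hgN)

end Cfsg.Agent.Helper68
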