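/-
helper68: pieces MSINT, WCENT, UNIQ of CALL S1435 (doubles).
-/
import Cfsg.Agent.Helper23.BG65Defs
import Cfsg.Agent.Helper23.BGPMain
import Cfsg.Agent.Helper55.BGFpf
import Cfsg.Agent.S1432

set_option autoImplicit false

namespace Cfsg.Agent.Helper68

open Cfsg Subgroup Cfsg.Agent.Helper23

open scoped commutatorElement

universe u

variable {G : Type u} [Group G] [Finite G] {M K U Mstar H : Subgroup G}

/-- MSINT. `M* ∩ H_σ = 1`. -/
theorem bg65_Ms_inter (c : BG65Ctx M K U Mstar) (h : BG65H M K U Mstar H) :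
    Mstar ⊓ sigmaCore H = ⊥ := by
  have hG := c.hG
  obtain ⟨k, hk, hk1⟩ : ∃ k ∈ K, k ≠ 1 := by
    by_contra hcon
    exact c.hK1 ((Subgroup.eq_bot_iff_forall K).mpr fun x hx => by
      by_contra hx1
      exact hcon ⟨x, hx, hx1⟩)
  rw [eq_bot_iff]
  intro d hd
  obtain ⟨hdM, hdH⟩ := Subgroup.mem_inf.mp hd
  rw [Subgroup.mem_bot]
  have hKσ : K ≤ sigmaCore Mstar := c.hKst.le.trans inf_le_left
  have hdisj := Helper23.bgp_sigma_disj hG c.hMstar h.hH h.hnMs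
  have h1 : d * k * d⁻¹ ∈ sigmaCore Mstar :=
    (Subgroup.mem_normalizer_iff.mp
      (Helper23.le_normalizer_piCoreOf (sigma Mstar) Mstar hdM) k).mp (hKσ hk)
  have h2 : k * d⁻¹ * k⁻¹ ∈ sigmaCore H :=
    (Subgroup.mem_normalizer_iff.mp
      (Helper23.le_normalizer_piCoreOf (sigma H) H (h.hKH hk)) d⁻¹).mp (inv_mem hdH)
  have h3 : d * k * d⁻¹ * k⁻¹ ∈ sigmaCore Mstar := mul_mem h1 (inv_mem (hKσ hk))
  have h4 : d * k * d⁻¹ * k⁻¹ ∈ sigmaCore H := by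
    have e : d * k * d⁻¹ * k⁻¹ = d * (k * d⁻¹ * k⁻¹) := by group
    rw [e]
    exact mul_mem hdH h2
  have h5 := Helper23.bgp_sigma_inter hdisj h3 h4
  have h6 : k * d = d * k := by
    have e : d * k = (d * k * d⁻¹ * k⁻¹) * (k * d) := by group
    rw [h5, one_mul] at e
    exact e.symm
  exact h.hfpf k hk hk1 d hdH h6

/-- WCENT. `H_σ` centralizes `[Q, K]` for a `p'`-subgroup `Q ≤ H` of order prime to `|H_σ|`
normalized by `K`. -/
theorem bg65_W_cent (h : BG65H M K U Mstar H) {Q : Subgroup G} (hQH : Q ≤ H)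
    (hKQ : K ≤ normalizer (Q : Set G)) (hpQ : ¬ Nat.card K ∣ Nat.card Q)
    (hcop : (Nat.card (sigmaCore H)).Coprime (Nat.card Q)) :
    sigmaCore H ≤ centralizer ((⁅Q, K⁆ : Subgroup G) : Set G) := by
  have hG := h.hG
  rw [Subgroup.le_centralizer_iff, Subgroup.commutator_le]
  intro y hy k hk
  rw [Subgroup.mem_centralizer_iff]
  intro a ha
  by_cases hk1 : k = 1
  · subst hk1
    simp
  have hSn := Helper23.le_normalizer_piCoreOf (sigma H) H
  have hkp : k ^ Nat.card K = 1 := by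
    have h' := orderOf_dvd_natCard (⟨k, hk⟩ : K)
    rw [Subgroup.orderOf_mk] at h'
    exact orderOf_dvd_iff_pow_eq_one.mp h'
  have key := Helper55.bg_fpf_comm_centralizes hG.1 h.hKp (sigmaCore H) Q k h.hnil
    (hQH.trans hSn) (hSn (h.hKH hk)) (hKQ hk) hkp
    (fun hd => h.hpσ (Helper23.mem_of_dvd_card_piCoreOf (sigma H) H h.hKp hd)) hpQ hcop
    (h.hfpf k hk hk1) y hy a ha
  have e : ⁅y, k⁆ = (k * y * k⁻¹ * y⁻¹)⁻¹ := by
    rw [commutatorElement_def]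
    group
  rw [e]
  have e2 : a * (k * y * k⁻¹ * y⁻¹)⁻¹ =
      (k * y * k⁻¹ * y⁻¹)⁻¹ * ((k * y * k⁻¹ * y⁻¹) * a) * (k * y * k⁻¹ * y⁻¹)⁻¹ := by group
  rw [e2, key]
  group

/-- UNIQ. If `κ(H) = ∅`, a `σ(H)'`-element `w ≠ 1` of `H` centralizing some `y ∈ H_σ#` is a
`τ₂(H)`-element and `H` is the unique maximal subgroup containing `C_G(w)` (S1432). -/
theorem bg65_uniq (hG : IsMinSimpleOddOrder G) {H : Subgroup G} (hH : IsCoatom H)
    (hκ : ∀ q : ℕ, q ∉ kappa H) {w y : G} (hw : w ∈ H) (hw1 : w ≠ 1) (hy : y ∈ sigmaCore H)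
    (hy1 : y ≠ 1) (hwy : w * y = y * w)
    (hσ : ∀ q : ℕ, q.Prime → q ∣ orderOf w → q ∉ sigma H) :
    (∀ q : ℕ, q.Prime → q ∣ orderOf w → q ∈ tau2 H) ∧ centralizer ({w} : Set G) ≤ H ∧
      ∀ L : Subgroup G, IsCoatom L → centralizer ({w} : Set G) ≤ L → L = H := by
  have hwc : w ∈ H ⊓ centralizer ({y} : Set G) := by
    refine Subgroup.mem_inf.mpr ⟨hw, ?_⟩
    rw [Subgroup.mem_centralizer_iff]
    intro z hz
    rw [Set.mem_singleton_iff] at hz
    rw [hz]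
    exact hwy.symm
  rcases Cfsg.Agent.S1432.result hG H hH y hy hy1 w hwc hw1 hσ with hA | hB
  · exfalso
    have hn1 : orderOf w ≠ 1 := fun h => hw1 (orderOf_eq_one_iff.mp h)
    obtain ⟨q, hq, hqd⟩ := Nat.exists_prime_and_dvd hn1
    exact hκ q (hA.1 q hq hqd)
  · exact ⟨hB.1, hB.2.2.1, hB.2.2.2⟩

end Cfsg.Agent.Helper68
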