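/-
helper68: pieces for rows S1436 / S1376 (Bender–Glauberman 14.4 / 15.9).
Setting: `x ≠ 1` in `M_σ`, `C_G(x) ≰ M`, `N` the maximal subgroup over `C_G(x)`, `M_σ` nilpotent.
* `bg36h_comm_cent`: there is a subgroup `Y ≤ ⟨x⟩` of prime order `p ∈ σ(M) ∩ τ₂(N)` with
  `N_G(Y) ≤ N` such that every commutator of two elements of a complement `E` of `M_σ` in `M`
  centralizes `Y` (the derived group of `M` has a normal `p`-complement, `p ∉ β(M)`).
* `bg36h_kappa_comm`: in a maximal subgroup `N` with a factorisation `(K, U)`, `U ≠ 1`, an element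
  `c ≠ 1` with `c ^ s = 1`, `s ∈ κ(N)`, commutes with no element of prime order `p ∉ σ(N)`, `p ≠ s`.
* `bg36h_hole`: an element `z ∈ E` normalizing a subgroup `A ≤ E` of exponent `s ∈ κ(N)`
  centralizes it.
-/
import Mathlib
import Cfsg.Agent.S1350
import Cfsg.Agent.S1351
import Cfsg.Agent.S1352
import Cfsg.Agent.S1372
import Cfsg.Agent.S1375
import Cfsg.Agent.S1408
import Cfsg.Agent.S1414
import Cfsg.Agent.Helper23.Trans
import Cfsg.Agent.Helper23.BG14U1
import Cfsg.Agent.Helper35.Coprime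
import Cfsg.Agent.Helper54.BG14T
import Cfsg.Agent.Helper54.BG56KNE
import Cfsg.Agent.Helper62.BG72B
import Cfsg.Agent.Helper68.BG36HPure

set_option autoImplicit false

namespace Cfsg.Agent.Helper68

open Cfsg Subgroup

universe u

variable {G : Type u} [Group G] [Finite G]

/-- No prime of `σ(M)` divides the order of a complement of `M_σ` in `M`. -/
theorem bg36h_compl_card (hG : IsMinSimpleOddOrder G) {M E : Subgroup G} (hM : IsCoatom M)
    (hE : IsComplIn E (sigmaCore M) M) {p : ℕ} (hp : p ∈ sigma M) : ¬ p ∣ Nat.card E := by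
  have hσM : sigmaCore M ≤ M := Cfsg.Agent.Helper23.piCoreOf_le _ _
  have h50M := Cfsg.Agent.S1350.result hG M hM
  have hmul : (sigmaCore M).relIndex M * Nat.card (sigmaCore M) = Nat.card M := by
    have h := Subgroup.relIndex_mul_relIndex ⊥ (sigmaCore M) M bot_le hσM
    rw [Subgroup.relIndex_bot_left, Subgroup.relIndex_bot_left] at h
    rw [mul_comm]
    exact h
  have hcard := Cfsg.Agent.Helper62.bg72_card_compl hE
  have hpos : 0 < Nat.card (sigmaCore M) := Nat.card_pos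
  have h1 : (sigmaCore M).relIndex M * Nat.card (sigmaCore M) =
      Nat.card E * Nat.card (sigmaCore M) := by rw [hmul, hcard]
  have h2 : (sigmaCore M).relIndex M = Nat.card E := Nat.eq_of_mul_eq_mul_right hpos h1
  rw [← h2]
  exact h50M.1.2.2 p hp.1 hp

/-- The commutators of a complement of `M_σ` centralize a subgroup of prime order of `⟨x⟩`. -/
theorem bg36h_comm_cent (hG : IsMinSimpleOddOrder G) {M N : Subgroup G} (hM : IsCoatom M) {x : G}
    (hx : x ∈ sigmaCore M) (hx1 : x ≠ 1) (hxM : ¬ centralizer ({x} : Set G) ≤ M)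
    (hN : IsCoatom N) (hxN : centralizer ({x} : Set G) ≤ N)
    (hnil : Group.IsNilpotent ↥(sigmaCore M)) :
    ∃ (p : ℕ) (Y : Subgroup G), p ∈ sigma M ∧ p ∈ tau2 N ∧ Y ≤ zpowers x ∧ Nat.card Y = p ∧
      normalizer (Y : Set G) ≤ N ∧
      ∀ E : Subgroup G, IsComplIn E (sigmaCore M) M → ∀ e₁ ∈ E, ∀ e₂ ∈ E,
        e₁ * e₂ * e₁⁻¹ * e₂⁻¹ ∈ centralizer (Y : Set G) := by
  classical
  obtain ⟨L, p, Y, hL, -, -, hpσ, hpτ, -, hYx, hYc, hYN, hCL, -, -, -, -⟩ :=
    Cfsg.Agent.Helper54.bg14t_core hG hM hx hx1 hxM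
  obtain ⟨N₀, -, huniq, -⟩ := Cfsg.Agent.S1375.result hG M hM x hx hx1 hxM
  have hLN : L = N := by rw [huniq L hL hCL, huniq N hN hxN]
  rw [hLN] at hpτ hYN
  have hpp : p.Prime := hpσ.1
  haveI hFp : Fact p.Prime := Fact.mk hpp
  have hpN : p ∉ sigma N := hpτ.2.1
  have h08 := Cfsg.Agent.S1408.result hG N hN p hpN hpτ.2.2.1 hpτ.2.2.2
  have hpβM : p ∉ beta M := fun h => h08.1 h.2
  have h14M := (Cfsg.Agent.S1414.result hG M hM).2.2.2.2 p hpp hpσ.2.1 hpβM
  refine ⟨p, Y, hpσ, hpτ, hYx, hYc, hYN, ?_⟩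
  intro E hE e₁ he₁ e₂ he₂
  rw [mem_centralizer_iff]
  intro y hy
  have hσM : sigmaCore M ≤ M := Cfsg.Agent.Helper23.piCoreOf_le _ _
  have hEM : E ≤ M := hE.1
  have hXM : ⁅M, M⁆ ≤ M := by
    rw [Subgroup.commutator_le]
    intro a ha b hb
    rw [commutatorElement_def]
    exact M.mul_mem (M.mul_mem (M.mul_mem ha hb) (M.inv_mem ha)) (M.inv_mem hb)
  have hXn : ∀ m ∈ M, ∀ g ∈ ⁅M, M⁆, m * g * m⁻¹ ∈ ⁅M, M⁆ := by
    intro m hm g hg
    have h1 := Subgroup.commutator_mem_commutator (H₁ := M) (H₂ := M) hm (hXM hg)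
    rw [commutatorElement_def] at h1
    have e : m * g * m⁻¹ = (m * g * m⁻¹ * g⁻¹) * g := by group
    rw [e]
    exact Subgroup.mul_mem _ h1 hg
  have hSn : ∀ m ∈ M, ∀ g ∈ sigmaCore M, m * g * m⁻¹ ∈ sigmaCore M := fun m hm g hg =>
    (mem_normalizer_iff.mp (Cfsg.Agent.Helper23.le_normalizer_piCoreOf (sigma M) M hm) g).mp hg
  have hc : e₁ * e₂ * e₁⁻¹ * e₂⁻¹ ∈ ⁅M, M⁆ := by
    have h1 := Subgroup.commutator_mem_commutator (H₁ := M) (H₂ := M) (hEM he₁) (hEM he₂)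
    rwa [commutatorElement_def] at h1
  have hcE : e₁ * e₂ * e₁⁻¹ * e₂⁻¹ ∈ E :=
    E.mul_mem (E.mul_mem (E.mul_mem he₁ he₂) (E.inv_mem he₁)) (E.inv_mem he₂)
  have hcp : ¬ p ∣ orderOf (e₁ * e₂ * e₁⁻¹ * e₂⁻¹) := fun h =>
    bg36h_compl_card hG hM hE hpσ (h.trans (Subgroup.orderOf_dvd_natCard E hcE))
  have hyσ : y ∈ sigmaCore M := (hYx.trans (zpowers_le.mpr hx)) hy
  have hyp : y ^ p = 1 := by
    have h1 : (⟨y, hy⟩ : ↥Y) ^ Nat.card ↥Y = 1 := pow_card_eq_one'
    rw [hYc] at h1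
    have h2 := congrArg Subtype.val h1
    simpa using h2
  exact (bg36h_comm (M := M) (X := ⁅M, M⁆) (S := sigmaCore M) hXM hXn h14M.1 hσM hSn hnil
    hc hcp hyσ hyp).symm

/-- In a maximal subgroup `N` with a standard factorisation `(K, U)`, `U ≠ 1`: an element `c ≠ 1`
with `c ^ s = 1`, `s ∈ κ(N)`, commutes with no element `y ≠ 1` with `y ^ p = 1`, `p` a prime outside
`σ(N)` different from `s`. -/
theorem bg36h_kappa_comm (hG : IsMinSimpleOddOrder G) {N K U : Subgroup G} (hN : IsCoatom N)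
    (hKU : IsSigmaDecomposition N K U) (hU1 : U ≠ ⊥) {s : ℕ} (hs : s ∈ kappa N) {c : G}
    (hcN : c ∈ N) (hc1 : c ≠ 1) (hcs : c ^ s = 1) {p : ℕ} (hp : p.Prime) (hpσ : p ∉ sigma N)
    (hps : p ≠ s) {y : G} (hyN : y ∈ N) (hy1 : y ≠ 1) (hyp : y ^ p = 1) (hcy : c * y = y * c) :
    False := by
  classical
  have hsp : s.Prime := hs.1
  haveI hFs : Fact s.Prime := Fact.mk hsp
  haveI hFp : Fact p.Prime := Fact.mk hp
  have hK1 : K ≠ ⊥ := Cfsg.Agent.Helper54.bg56_K_ne_bot ⟨s, hs⟩ hKU.hall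
  have h72 := Cfsg.Agent.S1372.result hG N hN K U hKU hK1 hU1
  have hKprime : (Nat.card K).Prime := h72.1
  have hKN : K ≤ N := hKU.hall.1
  have hmul : ∀ {H : Subgroup G}, H ≤ N → H.relIndex N * Nat.card H = Nat.card N := by
    intro H hle
    have h := Subgroup.relIndex_mul_relIndex ⊥ H N bot_le hle
    rw [Subgroup.relIndex_bot_left, Subgroup.relIndex_bot_left] at h
    rw [mul_comm]
    exact h
  -- every prime of `κ(N)` equals `|K|`
  have hκ : ∀ t ∈ kappa N, t = Nat.card K := by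
    intro t ht
    have h1 : t ∣ K.relIndex N * Nat.card K := by
      rw [hmul hKN]
      exact ht.2.1
    rcases (Nat.Prime.dvd_mul ht.1).mp h1 with h | h
    · exact absurd h (hKU.hall.2.2 t ht.1 ht)
    · exact (Nat.prime_dvd_prime_iff_eq ht.1 hKprime).mp h
  have hsK : s = Nat.card K := hκ s hs
  have hco : orderOf c = s := orderOf_eq_prime hcs hc1
  have hK₁card : Nat.card ↥(zpowers c) = s := by
    rw [Nat.card_zpowers, hco]
  have hK₁N : zpowers c ≤ N := zpowers_le.mpr hcN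
  have hrel : (zpowers c).relIndex N = K.relIndex N := by
    have h1 := hmul hK₁N
    have h2 := hmul hKN
    rw [hK₁card] at h1
    rw [← hsK] at h2
    have h3 : (zpowers c).relIndex N * s = K.relIndex N * s := by rw [h1, h2]
    exact Nat.eq_of_mul_eq_mul_right hsp.pos h3
  have hHall : IsPiHallOf (kappa N) (zpowers c) N := by
    refine ⟨hK₁N, ?_, ?_⟩
    · intro t ht hdvd
      rw [hK₁card] at hdvd
      have : t = s := (Nat.prime_dvd_prime_iff_eq ht hsp).mp hdvd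
      rw [this]
      exact hs
    · intro t ht htκ
      rw [hrel]
      exact hKU.hall.2.2 t ht htκ
  have hcyc : IsCyclic ↥(zpowers c) := Subgroup.isCyclic_zpowers c
  obtain ⟨U₁, hKU₁⟩ := (Cfsg.Agent.S1352.result hG N hN (zpowers c) hcyc hHall).1
  have hK₁1 : zpowers c ≠ ⊥ := by
    intro h
    have : c ∈ (⊥ : Subgroup G) := h ▸ mem_zpowers c
    exact hc1 (Subgroup.mem_bot.mp this)
  have hpkg := Cfsg.Agent.Helper23.bg14_pkg hG hN hKU₁ hK₁1
  have hcent := hpkg.2.2.2.2.1 c (mem_zpowers c) hc1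
  have hyC : y ∈ N ⊓ centralizer ({c} : Set G) := by
    refine Subgroup.mem_inf.mpr ⟨hyN, ?_⟩
    rw [mem_centralizer_iff]
    intro h hh
    rw [Set.mem_singleton_iff] at hh
    rw [hh]
    exact hcy
  rw [hcent, sup_comm] at hyC
  have hnorm : zpowers c ≤ normalizer
      ((sigmaCore N ⊓ centralizer ((zpowers c : Subgroup G) : Set G) : Subgroup G) : Set G) := by
    intro k hk
    rw [mem_normalizer_iff]
    intro v
    have key : ∀ w ∈ sigmaCore N ⊓ centralizer ((zpowers c : Subgroup G) : Set G),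
        k * w * k⁻¹ = w := by
      intro w hw
      have h1 : k * w = w * k := (mem_centralizer_iff.mp hw.2) k hk
      rw [h1]
      group
    constructor
    · intro hv
      rw [key v hv]
      exact hv
    · intro hv
      have h2 : v = k⁻¹ * (k * v * k⁻¹) * k := by group
      have h3 : k⁻¹ * (k * v * k⁻¹) * k = k * v * k⁻¹ := by
        have h1 : k * (k * v * k⁻¹) = (k * v * k⁻¹) * k := (mem_centralizer_iff.mp hv.2) k hk
        calc k⁻¹ * (k * v * k⁻¹) * k = k⁻¹ * ((k * v * k⁻¹) * k) := by group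
          _ = k⁻¹ * (k * (k * v * k⁻¹)) := by rw [h1]
          _ = k * v * k⁻¹ := by group
      rw [h2, h3]
      exact hv
  obtain ⟨v, hv, k, hk, hyvk⟩ :=
    Cfsg.Agent.Helper35.exists_mul_of_mem_sup_of_le_normalizer hnorm hyC
  have hkv : k * v = v * k := (mem_centralizer_iff.mp hv.2) k hk
  have hks : k ^ s = 1 := by
    have h1 : (⟨k, hk⟩ : ↥(zpowers c)) ^ Nat.card ↥(zpowers c) = 1 := pow_card_eq_one'
    rw [hK₁card] at h1
    have h2 := congrArg Subtype.val h1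
    simpa using h2
  have hys : y ^ s = v ^ s := by
    have hcomm : Commute v k := hkv.symm
    rw [hyvk, hcomm.mul_pow, hks, mul_one]
  have hyo : orderOf y = p := orderOf_eq_prime hyp hy1
  have hyσ : y ∈ sigmaCore N := by
    refine bg36h_mem_of_pow_mem (m := s) ?_ ?_
    · rw [hys]
      exact (sigmaCore N).pow_mem hv.1 s
    · rw [hyo]
      exact (Nat.coprime_primes hsp hp).mpr (Ne.symm hps)
  have hdvd : p ∣ Nat.card (sigmaCore N) := by
    rw [← hyo]
    exact Subgroup.orderOf_dvd_natCard _ hyσ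
  exact hpσ (Cfsg.Agent.Helper23.mem_of_dvd_card_piCoreOf (sigma N) N hp hdvd)

/-- **The `κ(N)` case of B&G 15.9 / S1436(a)**: an element `z` of a complement `E` of `M_σ`
normalizing a subgroup `A ≤ E` of exponent `s ∈ κ(N)` centralizes it. -/
theorem bg36h_hole (hG : IsMinSimpleOddOrder G) {M N : Subgroup G} (hM : IsCoatom M) {x : G}
    (hx : x ∈ sigmaCore M) (hx1 : x ≠ 1) (hxM : ¬ centralizer ({x} : Set G) ≤ M)
    (hN : IsCoatom N) (hxN : centralizer ({x} : Set G) ≤ N)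
    (hnil : Group.IsNilpotent ↥(sigmaCore M))
    {E : Subgroup G} (hE : IsComplIn E (sigmaCore M) M)
    {s : ℕ} (hs : s ∈ kappa N) {A : Subgroup G} (hAE : A ≤ E) (hAs : ∀ a ∈ A, a ^ s = 1)
    {z : G} (hzE : z ∈ E) (hzA : ∀ a ∈ A, z * a * z⁻¹ ∈ A) :
    ∀ a ∈ A, z * a = a * z := by
  classical
  obtain ⟨p, Y, hpσ, hpτ, hYx, hYc, hYN, hcomm⟩ :=
    bg36h_comm_cent hG hM hx hx1 hxM hN hxN hnil
  have hpp : p.Prime := hpσ.1
  haveI hFs : Fact s.Prime := Fact.mk hs.1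
  intro a ha
  by_contra hne
  have hcA : z * a * z⁻¹ * a⁻¹ ∈ A := A.mul_mem (hzA a ha) (A.inv_mem ha)
  have hc1 : z * a * z⁻¹ * a⁻¹ ≠ 1 := by
    intro h
    apply hne
    have e : z * a = (z * a * z⁻¹ * a⁻¹) * (a * z) := by group
    rw [e, h, one_mul]
  have hcs : (z * a * z⁻¹ * a⁻¹) ^ s = 1 := hAs _ hcA
  have hcC : z * a * z⁻¹ * a⁻¹ ∈ centralizer (Y : Set G) := hcomm E hE z hzE a (hAE ha)
  have hcN : z * a * z⁻¹ * a⁻¹ ∈ N := hYN (Subgroup.centralizer_le_normalizer _ hcC)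
  -- `s ≠ p`
  have hps : p ≠ s := by
    intro h
    have hco : orderOf (z * a * z⁻¹ * a⁻¹) = s := orderOf_eq_prime hcs hc1
    apply bg36h_compl_card hG hM hE hpσ
    rw [h, ← hco]
    exact Subgroup.orderOf_dvd_natCard E (hAE hcA)
  -- an element of order `p` of `Y`
  have hYne : Y ≠ ⊥ := by
    intro h
    rw [h, Subgroup.card_bot] at hYc
    exact hpp.one_lt.ne hYc
  obtain ⟨y, hy1⟩ := (Subgroup.ne_bot_iff_exists_ne_one.mp hYne)
  have hyY : (y : G) ∈ Y := y.2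
  have hy1' : (y : G) ≠ 1 := fun h => hy1 (Subtype.ext h)
  have hyN : (y : G) ∈ N := hYN (Subgroup.le_normalizer hyY)
  have hyp : (y : G) ^ p = 1 := by
    have h1 : y ^ Nat.card ↥Y = 1 := pow_card_eq_one'
    rw [hYc] at h1
    have h2 := congrArg Subtype.val h1
    simpa using h2
  have hcy : (z * a * z⁻¹ * a⁻¹) * (y : G) = (y : G) * (z * a * z⁻¹ * a⁻¹) :=
    ((mem_centralizer_iff.mp hcC) (y : G) hyY).symm
  -- a factorisation of `N`
  obtain ⟨hexK, hcycK⟩ := Cfsg.Agent.S1351.result hG N hN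
  obtain ⟨K, hK⟩ := hexK
  obtain ⟨U, hKU⟩ := (Cfsg.Agent.S1352.result hG N hN K (hcycK K hK) hK).1
  obtain ⟨N₀, hN₀, huniq, -, -, -, -, hdec⟩ := Cfsg.Agent.S1375.result hG M hM x hx hx1 hxM
  have hNN₀ : N = N₀ := huniq N hN hxN
  rw [← hNN₀] at hdec
  have hU1 : U ≠ ⊥ := (hdec K U hKU).1
  exact bg36h_kappa_comm hG hN hKU hU1 hs hcN hc1 hcs hpp hpτ.2.1 hps hyN hy1' hyp hcy

end Cfsg.Agent.Helper68
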