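/-
helper68: CALL BG36 (helper2, row S1436), piece P2.
`bg36_not_le_conj`: an `E_{p²}` subgroup `A ≤ M`, `p ∉ σ(N)`, has no conjugate `g A g⁻¹ ≤ N`
when `g z g⁻¹ ∈ N_σ` for some `z ≠ 1` in `M` (S1417 clause 5 in `N`).
-/
import Mathlib
import Cfsg.Agent.S1403
import Cfsg.Agent.S1417
import Cfsg.Agent.Helper22.BG10b
import Cfsg.Agent.Helper54.BG14T4
import Cfsg.Agent.Helper23.Trans

set_option autoImplicit false

namespace Cfsg.Agent.Helper68

open Cfsg Subgroup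

universe u

variable {G : Type u} [Group G] [Finite G]

/-- PIECE P2: if `g A g⁻¹ ≤ N` then `p ∈ τ₂(N)` (`p ∉ σ(N) ⊇ α(N)`: `Helper22.bg10_alpha_sub_sigma`)
and S1417 clause 5 for `(N, p, g A g⁻¹)` with `M* := g M g⁻¹ ≠ N` gives `N_σ ∩ g M g⁻¹ = 1`,
but `g z g⁻¹` lies in it. -/
theorem bg36_not_le_conj (hG : IsMinSimpleOddOrder G) {M N : Subgroup G} (hM : IsCoatom M)
    (hN : IsCoatom N) {p q : ℕ} (hp : p.Prime) (hpσN : p ∉ sigma N) (hq : q ∈ sigma N)
    (hqσ : q ∉ sigma M) {A : Subgroup G} (hAM : A ≤ M) (hAel : IsElementaryAbelian p A)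
    (hAc : Nat.card A = p ^ 2) {z g : G} (hzM : z ∈ M) (hz1 : z ≠ 1)
    (hgσ : g * z * g⁻¹ ∈ sigmaCore N) :
    ¬ A.map (MulAut.conj g).toMonoidHom ≤ N := by
  classical
  intro hle
  have hU : Cfsg.Agent.Helper22.BGUniq G :=
    fun K hK h1 h2 => Cfsg.Agent.S1403.result hG K hK h1 h2
  have : Fact p.Prime := ⟨hp⟩
  obtain ⟨A', hA'⟩ : ∃ A' : Subgroup G, A' = A.map (MulAut.conj g).toMonoidHom := ⟨_, rfl⟩
  rw [← hA'] at hle
  have hA'c : Nat.card A' = p ^ 2 := by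
    rw [hA', Subgroup.card_map_of_injective (MulAut.conj g).injective, hAc]
  have hA'el : IsElementaryAbelian p A' := by
    refine ⟨?_, ?_⟩
    · rw [hA']
      have := hAel.1
      exact Subgroup.map_isMulCommutative A (MulAut.conj g).toMonoidHom
    · intro a ha
      rw [hA'] at ha
      obtain ⟨a₀, ha₀, rfl⟩ := ha
      rw [← map_pow, hAel.2 a₀ ha₀, map_one]
  have hr2 : PRankLE p 2 ↥N := by
    by_contra h
    exact hpσN (Cfsg.Agent.Helper22.bg10_alpha_sub_sigma hG hU hN ⟨hp, h⟩)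
  have hr1 : ¬ PRankLE p 1 ↥N := by
    intro h
    have hc : IsMulCommutative ↥(A'.subgroupOf N) := by
      have := hA'el.1
      exact Subgroup.subgroupOf_isMulCommutative N A'
    have he : ∀ a ∈ A'.subgroupOf N, a ^ p = 1 := by
      intro a ha
      apply Subtype.ext
      rw [Subgroup.coe_pow]
      exact hA'el.2 (a : G) (Subgroup.mem_subgroupOf.mp ha)
    have h1 := h (A'.subgroupOf N) hc he
    rw [Nat.card_congr (Subgroup.subgroupOfEquivOfLe hle).toEquiv, hA'c, pow_one] at h1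
    have h2 : p < p ^ 2 := by
      have := hp.one_lt
      nlinarith
    omega
  have hpτ : p ∈ tau2 N := ⟨hp, hpσN, hr2, hr1⟩
  obtain ⟨-, -, -, -, hstar, -⟩ := Cfsg.Agent.S1417.result hG N hN p hpτ A' ⟨hle, hA'el, hA'c⟩
  have hMg : IsCoatom (M.map (MulAut.conj g).toMonoidHom) :=
    Cfsg.Agent.Helper47.isCoatom_map_conj hM g
  have hne : M.map (MulAut.conj g).toMonoidHom ≠ N := by
    intro h
    have h1 := Cfsg.Agent.Helper54.bg14t_sigma_conj M g
    rw [h] at h1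
    exact hqσ (h1 ▸ hq)
  have hA'M : A' ≤ M.map (MulAut.conj g).toMonoidHom := by
    rw [hA']
    exact Subgroup.map_mono hAM
  have hbot := hstar _ hMg hne hA'M
  have hmem : g * z * g⁻¹ ∈ sigmaCore N ⊓ M.map (MulAut.conj g).toMonoidHom := by
    refine ⟨hgσ, ?_⟩
    exact ⟨z, hzM, by simp [MulAut.conj_apply]⟩
  rw [hbot, mem_bot] at hmem
  apply hz1
  have h3 : g⁻¹ * (g * z * g⁻¹) * g = z := by group
  rw [← h3, hmem]
  group

end Cfsg.Agent.Helper68
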