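import Mathlib

set_option autoImplicit false

namespace Cfsg.Agent.Helper68

open Subgroup

variable {G : Type*} [Group G]

/-- orbit of `g` under conjugation by the elements of the subgroup `D` -/
def conjOrbit (D : Subgroup G) (g : G) : Set G := {y | ∃ x ∈ D, x * g * x⁻¹ = y}

theorem card_conjOrbit_eq_index (D : Subgroup G) (g : G) :
    Nat.card (conjOrbit D g) = ((centralizer ({g} : Set G)).subgroupOf D).index := by
  unfold index
  symm
  let K := (centralizer ({g} : Set G)).subgroupOf D
  have hwd : ∀ a b : D, QuotientGroup.leftRel K a b →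
      (⟨(a : G) * g * (a : G)⁻¹, ⟨a, a.2, rfl⟩⟩ : conjOrbit D g) =
      ⟨(b : G) * g * (b : G)⁻¹, ⟨b, b.2, rfl⟩⟩ := by
    intro a b hab
    rw [QuotientGroup.leftRel_apply, mem_subgroupOf, mem_centralizer_iff] at hab
    have h1 := hab g rfl
    simp only [coe_mul, InvMemClass.coe_inv] at h1
    apply Subtype.ext
    simp only
    have h2 : (b : G) = a * ((a : G)⁻¹ * b) := by group
    rw [h2]
    have h3 : (↑a * ((a : G)⁻¹ * ↑b)) * g * (↑a * ((a : G)⁻¹ * ↑b))⁻¹
        = ↑a * (((a : G)⁻¹ * ↑b) * g) * ((a : G)⁻¹ * ↑b)⁻¹ * (a : G)⁻¹ := by group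
    rw [h3, ← h1]
    group
  refine Nat.card_congr (Equiv.ofBijective (fun q => Quotient.liftOn' q _ hwd) ⟨?_, ?_⟩)
  · intro q1 q2
    refine Quotient.inductionOn₂' q1 q2 ?_
    intro a b hab
    simp only [Quotient.liftOn'_mk''] at hab
    have h1 := congrArg Subtype.val hab
    simp only at h1
    apply Quotient.sound'
    rw [QuotientGroup.leftRel_apply, mem_subgroupOf, mem_centralizer_iff]
    intro y hy
    rw [Set.mem_singleton_iff] at hy
    subst hy
    simp only [coe_mul, InvMemClass.coe_inv]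
    have h4 : y * ((a : G)⁻¹ * ↑b) = (a : G)⁻¹ * (a * y * (a : G)⁻¹) * b := by group
    rw [h4, h1]
    group
  · rintro ⟨y, x, hxD, hx⟩
    refine ⟨Quotient.mk'' ⟨x, hxD⟩, ?_⟩
    simp only [Quotient.liftOn'_mk'']
    apply Subtype.ext
    exact hx

theorem card_conjOrbit_mul (D : Subgroup G) (g : G) :
    Nat.card (conjOrbit D g) * Nat.card ↥(D ⊓ centralizer ({g} : Set G)) = Nat.card D := by
  rw [card_conjOrbit_eq_index]
  have h1 : Nat.card ↥(D ⊓ centralizer ({g} : Set G)) =
      Nat.card ((centralizer ({g} : Set G)).subgroupOf D) := by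
    rw [← inf_subgroupOf_left (centralizer ({g} : Set G)) D]
    exact Nat.card_congr (subgroupOfEquivOfLe inf_le_left).symm.toEquiv
  rw [h1, mul_comm]
  exact Subgroup.card_mul_index _

theorem card_conjOrbit [Finite G] (D : Subgroup G) (g : G) :
    Nat.card (conjOrbit D g) = Nat.card D / Nat.card ↥(D ⊓ centralizer ({g} : Set G)) := by
  have h := card_conjOrbit_mul D g
  exact (Nat.div_eq_of_eq_mul_left Nat.card_pos h.symm).symm

end Cfsg.Agent.Helper68
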