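import Mathlib

set_option autoImplicit false

namespace Cfsg.Agent.Helper68

open Subgroup

/-- the nonidentity elements lying in some conjugate of `K₁` -/
def conjUnion {K : Type*} [Group K] (K₁ : Subgroup K) : Set K :=
  {y | y ≠ 1 ∧ ∃ k : K, k⁻¹ * y * k ∈ K₁}

theorem card_subtype_ne_add_one {α : Type*} [Finite α] (a : α) :
    Nat.card {x : α // x ≠ a} + 1 = Nat.card α := by
  classical
  rw [← Finite.card_option]
  exact Nat.card_congr (Equiv.optionSubtypeNe a)

/-- Counting the elements in the conjugates of a "Frobenius complement". -/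
theorem frob_count {K : Type*} [Group K] [Finite K] (K₁ : Subgroup K)
    (hfrob : ∀ k : K, k ∉ K₁ → ∀ x ∈ K₁, k * x * k⁻¹ ∈ K₁ → x = 1) :
    (conjUnion K₁).ncard + K₁.index = Nat.card K := by
  let f : (K ⧸ K₁) × {x : K₁ // x ≠ 1} → conjUnion K₁ := fun z =>
    ⟨z.1.out * (z.2.1 : K) * z.1.out⁻¹, by
      refine ⟨?_, z.1.out, ?_⟩
      · intro h
        apply z.2.2
        apply Subtype.ext
        have : ((z.2.1 : K₁) : K) = z.1.out⁻¹ * (z.1.out * (z.2.1 : K) * z.1.out⁻¹) * z.1.out := by
          group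
        rw [this, h]; simp
      · have : z.1.out⁻¹ * (z.1.out * (z.2.1 : K) * z.1.out⁻¹) * z.1.out = (z.2.1 : K) := by group
        rw [this]; exact z.2.1.2⟩
  have hf : Function.Bijective f := by
    constructor
    · rintro ⟨q, x, hx⟩ ⟨q', x', hx'⟩ hab
      have h1 : q.out * (x : K) * q.out⁻¹ = q'.out * (x' : K) * q'.out⁻¹ := congrArg Subtype.val hab
      set a : K := q'.out⁻¹ * q.out with ha
      have h2 : a * (x : K) * a⁻¹ = x' := by
        have : a * (x : K) * a⁻¹ = q'.out⁻¹ * (q.out * (x : K) * q.out⁻¹) * q'.out := by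
          rw [ha]; group
        rw [this, h1]; group
      have haK : a ∈ K₁ := by
        by_contra haK
        apply hx
        apply Subtype.ext
        exact hfrob a haK x x.2 (by rw [h2]; exact x'.2)
      have hq : q' = q := by
        rw [← QuotientGroup.out_eq' q', ← QuotientGroup.out_eq' q]
        exact QuotientGroup.eq.2 haK
      subst hq
      have h3 : (x : K) = x' := by
        have := mul_left_cancel (mul_right_cancel h1)
        exact this
      have hx2 : x = x' := Subtype.ext h3
      subst hx2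
      rfl
    · rintro ⟨y, hy1, k, hk⟩
      set q : K ⧸ K₁ := (k : K ⧸ K₁) with hq
      have hc : q.out⁻¹ * k ∈ K₁ := by
        have : ((q.out : K) : K ⧸ K₁) = (k : K ⧸ K₁) := QuotientGroup.out_eq' q
        exact QuotientGroup.eq.1 this
      have hx : q.out⁻¹ * y * q.out ∈ K₁ := by
        have : q.out⁻¹ * y * q.out = (q.out⁻¹ * k) * (k⁻¹ * y * k) * (q.out⁻¹ * k)⁻¹ := by group
        rw [this]
        exact mul_mem (mul_mem hc hk) (inv_mem hc)
      have hx1 : (⟨q.out⁻¹ * y * q.out, hx⟩ : K₁) ≠ 1 := by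
        intro h
        apply hy1
        have h2 : q.out⁻¹ * y * q.out = 1 := congrArg Subtype.val h
        have : y = q.out * (q.out⁻¹ * y * q.out) * q.out⁻¹ := by group
        rw [this, h2]; simp
      refine ⟨(q, ⟨⟨q.out⁻¹ * y * q.out, hx⟩, hx1⟩), ?_⟩
      apply Subtype.ext
      show q.out * (q.out⁻¹ * y * q.out) * q.out⁻¹ = y
      group
  have h1 : (conjUnion K₁).ncard = K₁.index * Nat.card {x : K₁ // x ≠ 1} := by
    rw [← Nat.card_coe_set_eq, ← Nat.card_congr (Equiv.ofBijective f hf), Nat.card_prod]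
    rfl
  have h2 := card_subtype_ne_add_one (1 : K₁)
  have h3 := K₁.index_mul_card
  rw [h1, ← h3, ← h2]
  ring

end Cfsg.Agent.Helper68
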