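import Mathlib

set_option autoImplicit false

namespace Cfsg.Agent.Helper68

open Subgroup

/-- Decomposition of an element of finite order into its `p`-part and its `p'`-part. -/
theorem exists_p_decomp {K : Type*} [Group K] (g : K) (hg : 0 < orderOf g) (p : ℕ)
    [Fact p.Prime] :
    ∃ u c : K, u ∈ zpowers g ∧ c ∈ zpowers g ∧ u * c = g ∧ (∃ k : ℕ, orderOf u = p ^ k) ∧
      ¬ p ∣ orderOf c := by
  have hp : p.Prime := Fact.out
  set n := orderOf g with hn
  have hn0 : n ≠ 0 := hg.ne'
  set a := n.factorization p with ha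
  set b := n / p ^ a with hb
  have hab : p ^ a * b = n := Nat.ordProj_mul_ordCompl_eq_self n p
  have hcop : Nat.Coprime (p ^ a) b := (Nat.coprime_ordCompl hp hn0).pow_left a
  have hbez := Nat.gcd_eq_gcd_ab (p ^ a) b
  rw [hcop] at hbez
  have hgn : g ^ (n : ℤ) = 1 := by rw [zpow_natCast, hn, pow_orderOf_eq_one]
  have habz : ((p ^ a : ℕ) : ℤ) * (b : ℤ) = (n : ℤ) := by exact_mod_cast hab
  refine ⟨g ^ ((b : ℤ) * Nat.gcdB (p ^ a) b), g ^ (((p ^ a : ℕ) : ℤ) * Nat.gcdA (p ^ a) b),
    zpow_mem (mem_zpowers g) _, zpow_mem (mem_zpowers g) _, ?_, ?_, ?_⟩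
  · rw [← zpow_add]
    have : (b : ℤ) * Nat.gcdB (p ^ a) b + ((p ^ a : ℕ) : ℤ) * Nat.gcdA (p ^ a) b = 1 := by
      rw [add_comm]; exact_mod_cast hbez.symm
    rw [this, zpow_one]
  · have h1 : (g ^ ((b : ℤ) * Nat.gcdB (p ^ a) b)) ^ (p ^ a) = 1 := by
      rw [← zpow_natCast, ← zpow_mul]
      have : (b : ℤ) * Nat.gcdB (p ^ a) b * ((p ^ a : ℕ) : ℤ) = (n : ℤ) * Nat.gcdB (p ^ a) b := by
        rw [← habz]; ring
      rw [this, zpow_mul, hgn, one_zpow]
    obtain ⟨k, -, hk⟩ := (Nat.dvd_prime_pow hp).1 (orderOf_dvd_of_pow_eq_one h1)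
    exact ⟨k, hk⟩
  · have h1 : (g ^ (((p ^ a : ℕ) : ℤ) * Nat.gcdA (p ^ a) b)) ^ b = 1 := by
      rw [← zpow_natCast, ← zpow_mul]
      have : ((p ^ a : ℕ) : ℤ) * Nat.gcdA (p ^ a) b * (b : ℤ) = (n : ℤ) * Nat.gcdA (p ^ a) b := by
        rw [← habz]; ring
      rw [this, zpow_mul, hgn, one_zpow]
    intro hpc
    exact Nat.not_dvd_ordCompl hp hn0 (hpc.trans (orderOf_dvd_of_pow_eq_one h1))

/-- every prime divisor of the order of `g` lies in `T` -/
def IsPiElt {K : Type*} [Group K] (T : Set ℕ) (g : K) : Prop :=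
  ∀ q : ℕ, q.Prime → q ∣ orderOf g → q ∈ T

/-- the class consists of `T`-elements -/
def IsPiClass {K : Type*} [Group K] (T : Set ℕ) (C : ConjClasses K) : Prop :=
  ∀ q : ℕ, q.Prime → (∃ g : K, ConjClasses.mk g = C ∧ q ∣ orderOf g) → q ∈ T

theorem orderOf_conj' {K : Type*} [Group K] (z g : K) : orderOf (z * g * z⁻¹) = orderOf g := by
  rw [← MulAut.conj_apply]
  exact MulEquiv.orderOf_eq (MulAut.conj z) g

theorem isPiClass_mk {K : Type*} [Group K] (T : Set ℕ) (g : K) :
    IsPiClass T (ConjClasses.mk g) ↔ IsPiElt T g := by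
  constructor
  · intro h q hq hqg
    exact h q hq ⟨g, rfl, hqg⟩
  · rintro h q hq ⟨g', hg', hqg'⟩
    rw [ConjClasses.mk_eq_mk_iff_isConj, isConj_iff] at hg'
    obtain ⟨z, rfl⟩ := hg'
    exact h q hq (by rw [orderOf_conj']; exact hqg')

/-- the `T`-part of `n` -/
def piPart (T : Finset ℕ) (n : ℕ) : ℕ := ∏ q ∈ T, q ^ n.factorization q

theorem piPart_dvd (T : Finset ℕ) (hT : ∀ q ∈ T, q.Prime) (m : ℕ) :
    piPart T m ∣ m := by
  classical
  unfold piPart
  induction T using Finset.induction_on with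
  | empty => simp
  | insert p T' hp ih =>
    rw [Finset.prod_insert hp]
    have hpp : p.Prime := hT p (Finset.mem_insert_self p T')
    apply Nat.Coprime.mul_dvd_of_dvd_of_dvd
    · apply Nat.Coprime.prod_right
      intro q hq
      have hqp : q.Prime := hT q (Finset.mem_insert_of_mem hq)
      exact Nat.coprime_pow_primes _ _ hpp hqp (fun h => hp (h ▸ hq))
    · exact Nat.ordProj_dvd m p
    · exact ih (fun q hq => hT q (Finset.mem_insert_of_mem hq))

theorem piPart_le_of_dvd (T : Finset ℕ) (hT : ∀ q ∈ T, q.Prime) {a b : ℕ} (ha : a ≠ 0)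
    (hb : b ≠ 0) (hab : a ∣ b) : piPart T a ≤ piPart T b := by
  unfold piPart
  apply Finset.prod_le_prod (fun _ _ => Nat.zero_le _)
  intro q hq
  exact Nat.pow_le_pow_right (hT q hq).pos ((Nat.factorization_le_iff_dvd ha hb).2 hab q)

universe u

/-- The number of conjugacy classes of `T`-elements is at most the `T`-part of the order. -/
theorem card_piClass_le (T : Finset ℕ) (hT : ∀ q ∈ T, q.Prime) :
    ∀ (K : Type u) [Group K] [Finite K],
      Nat.card {C : ConjClasses K // IsPiClass (T : Set ℕ) C} ≤ piPart T (Nat.card K) := by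
  classical
  induction T using Finset.induction_on with
  | empty =>
    intro K _ _
    have : Subsingleton {C : ConjClasses K // IsPiClass ((∅ : Finset ℕ) : Set ℕ) C} := by
      have key : ∀ C : ConjClasses K, IsPiClass ((∅ : Finset ℕ) : Set ℕ) C → C = ConjClasses.mk 1 := by
        intro C hC
        obtain ⟨g, rfl⟩ := ConjClasses.mk_surjective C
        rw [isPiClass_mk] at hC
        have : orderOf g = 1 := by
          by_contra h1
          have := hC _ (Nat.minFac_prime h1) (Nat.minFac_dvd _)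
          simp at this
        rw [orderOf_eq_one_iff] at this
        rw [this]
      constructor
      rintro ⟨C₁, h₁⟩ ⟨C₂, h₂⟩
      exact Subtype.ext ((key C₁ h₁).trans (key C₂ h₂).symm)
    have h1 := Finite.card_le_one_iff_subsingleton.2 this
    simpa [piPart] using h1
  | insert p T' hp ih =>
    intro K _ _
    have hpp : p.Prime := hT p (Finset.mem_insert_self p T')
    have : Fact p.Prime := ⟨hpp⟩
    have hT' : ∀ q ∈ T', q.Prime := fun q hq => hT q (Finset.mem_insert_of_mem hq)
    obtain ⟨P⟩ : Nonempty (Sylow p K) := inferInstance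
    -- the map from pairs to classes
    let Ψ : (Σ x : (P : Subgroup K),
        {D : ConjClasses ↥(centralizer ({(x : K)} : Set K)) // IsPiClass (T' : Set ℕ) D}) →
        {C : ConjClasses K // IsPiClass ((insert p T' : Finset ℕ) : Set ℕ) C} := fun z =>
      ⟨Quotient.lift (fun c : ↥(centralizer ({(z.1 : K)} : Set K)) =>
          ConjClasses.mk ((z.1 : K) * (c : K))) (by
            intro c c' hcc'
            have hcc : IsConj c c' := hcc'
            rw [isConj_iff] at hcc
            obtain ⟨w, hw⟩ := hcc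
            show ConjClasses.mk ((z.1 : K) * (c : K)) = ConjClasses.mk ((z.1 : K) * (c' : K))
            rw [ConjClasses.mk_eq_mk_iff_isConj, isConj_iff]
            refine ⟨w, ?_⟩
            have hw' : (w : K) * c * (w : K)⁻¹ = c' := by
              have := congrArg Subtype.val hw
              simpa using this
            have hwx : (z.1 : K) * (w : K) = (w : K) * (z.1 : K) :=
              (mem_centralizer_iff.1 w.2) _ rfl
            rw [← hw']
            calc (w : K) * ((z.1 : K) * (c : K)) * (w : K)⁻¹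
                = ((w : K) * (z.1 : K)) * (c : K) * (w : K)⁻¹ := by group
              _ = ((z.1 : K) * (w : K)) * (c : K) * (w : K)⁻¹ := by rw [hwx]
              _ = (z.1 : K) * ((w : K) * c * (w : K)⁻¹) := by group) z.2.1, by
        obtain ⟨x, D, hD⟩ := z
        obtain ⟨c, rfl⟩ := ConjClasses.mk_surjective D
        rw [isPiClass_mk] at hD
        show IsPiClass _ (ConjClasses.mk ((x : K) * (c : K)))
        rw [isPiClass_mk]
        intro q hq hqd
        have hcomm : Commute (x : K) (c : K) := (mem_centralizer_iff.1 c.2) _ rfl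
        have h1 := hqd.trans hcomm.orderOf_mul_dvd_mul_orderOf
        rcases (Nat.Prime.dvd_mul hq).1 h1 with h2 | h2
        · obtain ⟨k, hk⟩ := P.2 x
          have h3 : orderOf (x : K) ∣ p ^ k := by
            apply orderOf_dvd_of_pow_eq_one
            have := congrArg Subtype.val hk
            simpa using this
          have h4 := (Nat.Prime.dvd_of_dvd_pow hq (h2.trans h3))
          have h5 : q = p := (Nat.prime_dvd_prime_iff_eq hq hpp).1 h4
          rw [h5]; simp
        · have h3 : q ∈ (T' : Set ℕ) := hD q hq (by rwa [Subgroup.orderOf_coe] at h2)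
          simp only [Finset.coe_insert, Set.mem_insert_iff]
          right; exact h3⟩
    have hΨ : Function.Surjective Ψ := by
      rintro ⟨C, hC⟩
      obtain ⟨g, rfl⟩ := ConjClasses.mk_surjective C
      rw [isPiClass_mk] at hC
      obtain ⟨u, c, hu, hc, huc, ⟨k, hk⟩, hpc⟩ := exists_p_decomp g (orderOf_pos g) p
      have hpu : IsPGroup p (zpowers u) := IsPGroup.of_card (n := k) (by rw [Nat.card_zpowers, hk])
      obtain ⟨Q, hQ⟩ := hpu.exists_le_sylow
      obtain ⟨w, hw⟩ := MulAction.exists_smul_eq K Q P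
      have hx : w * u * w⁻¹ ∈ (P : Subgroup K) := by
        rw [← hw, Sylow.coe_subgroup_smul, mem_pointwise_smul_iff_inv_smul_mem, MulAut.smul_def,
          MulAut.conj_inv_apply]
        have : w⁻¹ * (w * u * w⁻¹) * w = u := by group
        rw [this]
        exact hQ (mem_zpowers u)
      have hcomm : Commute u c := by
        obtain ⟨i, rfl⟩ := mem_zpowers_iff.1 hu
        obtain ⟨j, rfl⟩ := mem_zpowers_iff.1 hc
        exact (Commute.refl g).zpow_zpow i j
      have hc' : w * c * w⁻¹ ∈ centralizer ({w * u * w⁻¹} : Set K) := by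
        rw [mem_centralizer_iff]
        rintro y rfl
        have : w * u * w⁻¹ * (w * c * w⁻¹) = w * (u * c) * w⁻¹ := by group
        rw [this, hcomm.eq]; group
      have hcT : IsPiElt (T' : Set ℕ) (⟨w * c * w⁻¹, hc'⟩ : ↥(centralizer ({w * u * w⁻¹} : Set K))) := by
        intro q hq hqc
        rw [Subgroup.orderOf_mk, orderOf_conj'] at hqc
        have h1 : q ∣ orderOf g := hqc.trans (orderOf_dvd_of_mem_zpowers hc)
        have h2 := hC q hq h1
        simp only [Finset.coe_insert, Set.mem_insert_iff] at h2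
        rcases h2 with h2 | h2
        · exact absurd (h2 ▸ hqc) hpc
        · exact h2
      refine ⟨⟨⟨w * u * w⁻¹, hx⟩, ⟨ConjClasses.mk ⟨w * c * w⁻¹, hc'⟩,
        (isPiClass_mk _ _).2 hcT⟩⟩, ?_⟩
      apply Subtype.ext
      show ConjClasses.mk (w * u * w⁻¹ * (w * c * w⁻¹)) = ConjClasses.mk g
      rw [ConjClasses.mk_eq_mk_iff_isConj, isConj_iff]
      refine ⟨w⁻¹, ?_⟩
      rw [← huc]; group
    have hcard := Nat.card_le_card_of_surjective Ψ hΨ
    have : Fintype (P : Subgroup K) := Fintype.ofFinite _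
    rw [Nat.card_sigma] at hcard
    refine hcard.trans ?_
    have hbound : ∀ x : (P : Subgroup K),
        Nat.card {D : ConjClasses ↥(centralizer ({(x : K)} : Set K)) // IsPiClass (T' : Set ℕ) D} ≤
          piPart T' (Nat.card K) := by
      intro x
      refine (ih hT' ↥(centralizer ({(x : K)} : Set K))).trans ?_
      exact piPart_le_of_dvd T' hT' Nat.card_pos.ne' Nat.card_pos.ne' (card_subgroup_dvd_card _)
    refine (Finset.sum_le_sum (fun x _ => hbound x)).trans ?_
    rw [Finset.sum_const, Finset.card_univ, smul_eq_mul, ← Nat.card_eq_fintype_card,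
      P.card_eq_multiplicity]
    unfold piPart
    rw [Finset.prod_insert hp]

end Cfsg.Agent.Helper68
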