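import Mathlib
import Cfsg.Agent.Helper68.Basic
import Cfsg.Agent.Helper68.PiElt
import Cfsg.Agent.Helper68.Frob

set_option autoImplicit false

namespace Cfsg.Agent.Helper68

open Subgroup

/-- `g` has `p`-power order -/
def IsPEl (p : ℕ) {G : Type*} [Group G] (g : G) : Prop := ∃ k : ℕ, orderOf g = p ^ k

theorem isPEl_conj (p : ℕ) {G : Type*} [Group G] (z g : G) (h : IsPEl p g) :
    IsPEl p (z * g * z⁻¹) := by
  obtain ⟨k, hk⟩ := h
  exact ⟨k, by rw [orderOf_conj', hk]⟩

/-- the number of conjugates of `g` is the index of its centralizer -/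
theorem card_conj_eq_index {G : Type*} [Group G] (g : G) :
    Nat.card {y : G // ConjClasses.mk y = ConjClasses.mk g} =
      (centralizer ({g} : Set G)).index := by
  have h1 := card_conjOrbit_eq_index (⊤ : Subgroup G) g
  have h2 : ((centralizer ({g} : Set G)).subgroupOf ⊤).index = (centralizer ({g} : Set G)).index :=
    relIndex_top_right _
  rw [← h2, ← h1]
  refine Nat.card_congr (Equiv.subtypeEquivRight ?_)
  intro y
  rw [ConjClasses.mk_eq_mk_iff_isConj, isConj_comm, isConj_iff]
  constructor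
  · rintro ⟨z, hz⟩
    exact ⟨z, mem_top z, hz⟩
  · rintro ⟨z, -, hz⟩
    exact ⟨z, hz⟩

/-- divisibility of the sum of a class function -/
theorem dvd_sum_of_class_fn {G : Type*} [Group G] [Fintype G] (F : G → ℕ)
    (hF : ∀ z g : G, F (z * g * z⁻¹) = F g) (d : ℕ)
    (hd : ∀ g : G, d ∣ (centralizer ({g} : Set G)).index * F g) : d ∣ ∑ g, F g := by
  classical
  rw [← Finset.sum_fiberwise Finset.univ (ConjClasses.mk) F]
  apply Finset.dvd_sum
  intro C _
  obtain ⟨g₀, rfl⟩ := ConjClasses.mk_surjective C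
  have h1 : ∀ g ∈ Finset.univ.filter (fun g => ConjClasses.mk g = ConjClasses.mk g₀),
      F g = F g₀ := by
    intro g hg
    rw [Finset.mem_filter] at hg
    have h2 := hg.2
    rw [ConjClasses.mk_eq_mk_iff_isConj, isConj_comm, isConj_iff] at h2
    obtain ⟨z, rfl⟩ := h2
    exact hF z g₀
  rw [Finset.sum_congr rfl h1, Finset.sum_const, smul_eq_mul]
  have h2 : (Finset.univ.filter (fun g => ConjClasses.mk g = ConjClasses.mk g₀)).card =
      (centralizer ({g₀} : Set G)).index := by
    rw [← card_conj_eq_index, Nat.card_eq_fintype_card, Fintype.card_subtype]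
  rw [h2]
  exact hd g₀

/-- in a decomposition `g = x * c` into commuting `p`- and `p'`-parts, `x` is a power of `g` -/
theorem mem_zpowers_of_decomp (p : ℕ) [Fact p.Prime] {G : Type*} [Group G] {x c : G}
    (hcomm : Commute x c) (hx : IsPEl p x) (hc : ¬ p ∣ orderOf c) :
    x ∈ zpowers (x * c) := by
  have hp : p.Prime := Fact.out
  obtain ⟨i, hi⟩ := hx
  have h1 : (x * c) ^ orderOf c = x ^ orderOf c := by
    rw [hcomm.mul_pow, pow_orderOf_eq_one, mul_one]
  have h2 : x ∈ zpowers (x ^ orderOf c) := by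
    rw [mem_zpowers_pow_iff, hi]
    exact Nat.Coprime.pow_right i ((Nat.Prime.coprime_iff_not_dvd hp).2 hc).symm
  rw [← h1] at h2
  exact (zpowers_le.2 (pow_mem (mem_zpowers _) _)) h2

theorem decomp_unique (p : ℕ) [Fact p.Prime] {G : Type*} [Group G] {x c x' c' : G}
    (hcomm : Commute x c) (hx : IsPEl p x) (hc : ¬ p ∣ orderOf c)
    (hcomm' : Commute x' c') (hx' : IsPEl p x') (hc' : ¬ p ∣ orderOf c')
    (h : x * c = x' * c') : x = x' ∧ c = c' := by
  have hp : p.Prime := Fact.out
  have h1 : x ∈ zpowers (x * c) := mem_zpowers_of_decomp p hcomm hx hc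
  have h2 : x' ∈ zpowers (x * c) := by rw [h]; exact mem_zpowers_of_decomp p hcomm' hx' hc'
  have hxx' : Commute x x' := by
    obtain ⟨i, hi⟩ := mem_zpowers_iff.1 h1
    obtain ⟨j, hj⟩ := mem_zpowers_iff.1 h2
    have h0 : Commute ((x * c) ^ i) ((x * c) ^ j) := (Commute.refl (x * c)).zpow_zpow i j
    rwa [hi, hj] at h0
  have hcc' : Commute c c' := by
    have e1 : x⁻¹ * (x * c) = c := by group
    have e2 : x'⁻¹ * (x * c) = c' := by rw [h]; group
    have m1 : c ∈ zpowers (x * c) := by
      have h0 := mul_mem (inv_mem h1) (mem_zpowers (x * c))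
      rwa [e1] at h0
    have m2 : c' ∈ zpowers (x * c) := by
      have h0 := mul_mem (inv_mem h2) (mem_zpowers (x * c))
      rwa [e2] at h0
    obtain ⟨i, hi⟩ := mem_zpowers_iff.1 m1
    obtain ⟨j, hj⟩ := mem_zpowers_iff.1 m2
    have h0 : Commute ((x * c) ^ i) ((x * c) ^ j) := (Commute.refl (x * c)).zpow_zpow i j
    rwa [hi, hj] at h0
  -- the element `x'⁻¹ * x = c' * c⁻¹`
  have h3 : x'⁻¹ * x = c' * c⁻¹ := by
    have : x'⁻¹ * x = x'⁻¹ * (x * c) * c⁻¹ := by group
    rw [this, h]; group
  obtain ⟨i, hi⟩ := hx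
  obtain ⟨j, hj⟩ := hx'
  have h4 : (x'⁻¹ * x) ^ (p ^ i * p ^ j) = 1 := by
    have a1 : x ^ (p ^ i * p ^ j) = 1 :=
      orderOf_dvd_iff_pow_eq_one.1 (hi ▸ dvd_mul_right _ _)
    have a2 : x' ^ (p ^ i * p ^ j) = 1 :=
      orderOf_dvd_iff_pow_eq_one.1 (hj ▸ dvd_mul_left _ _)
    rw [(hxx'.symm.inv_left).mul_pow, inv_pow, a1, a2, inv_one, one_mul]
  have h5 : (c' * c⁻¹) ^ (orderOf c * orderOf c') = 1 := by
    have a1 : c ^ (orderOf c * orderOf c') = 1 :=
      orderOf_dvd_iff_pow_eq_one.1 (dvd_mul_right _ _)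
    have a2 : c' ^ (orderOf c * orderOf c') = 1 :=
      orderOf_dvd_iff_pow_eq_one.1 (dvd_mul_left _ _)
    rw [(hcc'.symm.inv_right).mul_pow, inv_pow, a1, a2, inv_one, one_mul]
  rw [← h3] at h5
  have h6 : orderOf (x'⁻¹ * x) ∣ Nat.gcd (p ^ i * p ^ j) (orderOf c * orderOf c') :=
    Nat.dvd_gcd (orderOf_dvd_of_pow_eq_one h4) (orderOf_dvd_of_pow_eq_one h5)
  have h7 : Nat.gcd (p ^ i * p ^ j) (orderOf c * orderOf c') = 1 := by
    rw [← pow_add]
    apply Nat.Coprime.pow_left
    rw [Nat.Prime.coprime_iff_not_dvd hp, hp.dvd_mul]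
    rintro (h | h)
    · exact hc h
    · exact hc' h
  rw [h7, Nat.dvd_one, orderOf_eq_one_iff] at h6
  have hx_eq : x = x' := by
    have : x = x' * (x'⁻¹ * x) := by group
    rw [this, h6, mul_one]
  refine ⟨hx_eq, ?_⟩
  rw [hx_eq] at h
  exact mul_left_cancel h

/-- number of `p`-elements of `C_G(c)` when `c` is a `p'`-element, else `0` -/
noncomputable def pFun (p : ℕ) {G : Type*} [Group G] (c : G) : ℕ :=
  Nat.card {x : centralizer ({c} : Set G) // ¬ p ∣ orderOf c ∧ IsPEl p (x : G)}

theorem sum_pFun (p : ℕ) [Fact p.Prime] {G : Type*} [Group G] [Fintype G] :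
    ∑ c : G, pFun p c = Nat.card G := by
  unfold pFun
  rw [← Nat.card_sigma]
  refine Nat.card_congr (Equiv.ofBijective
    (fun z : (Σ c : G, {x : centralizer ({c} : Set G) // ¬ p ∣ orderOf c ∧ IsPEl p (x : G)}) =>
      ((z.2.1 : G) * z.1)) ⟨?_, ?_⟩)
  · rintro ⟨c, x, hc, hx⟩ ⟨c', x', hc', hx'⟩ h
    have h0 : (x : G) * c = (x' : G) * c' := h
    have hcomm : Commute (x : G) c := ((mem_centralizer_iff.1 x.2) c rfl).symm
    have hcomm' : Commute (x' : G) c' := ((mem_centralizer_iff.1 x'.2) c' rfl).symm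
    obtain ⟨h1, h2⟩ := decomp_unique p hcomm hx hc hcomm' hx' hc' h0
    subst h2
    have h3 : x = x' := Subtype.ext h1
    subst h3
    rfl
  · intro g
    obtain ⟨u, c, hu, hc, huc, hup, hpc⟩ := exists_p_decomp g (orderOf_pos g) p
    have hcomm : Commute u c := by
      obtain ⟨i, hi⟩ := mem_zpowers_iff.1 hu
      obtain ⟨j, hj⟩ := mem_zpowers_iff.1 hc
      have h0 : Commute (g ^ i) (g ^ j) := (Commute.refl g).zpow_zpow i j
      rwa [hi, hj] at h0
    have humem : u ∈ centralizer ({c} : Set G) := by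
      rw [mem_centralizer_iff]
      rintro y rfl
      exact hcomm.eq.symm
    exact ⟨⟨c, ⟨⟨u, humem⟩, hpc, hup⟩⟩, huc⟩

theorem pFun_conj_le (p : ℕ) {G : Type*} [Group G] [Finite G] (z c : G) :
    pFun p c ≤ pFun p (z * c * z⁻¹) := by
  unfold pFun
  refine Nat.card_le_card_of_injective
    (fun x : {x : centralizer ({c} : Set G) // ¬ p ∣ orderOf c ∧ IsPEl p (x : G)} =>
      (⟨⟨z * (x.1 : G) * z⁻¹, by
        rw [mem_centralizer_iff]
        rintro y rfl
        have h1 : c * (x.1 : G) = (x.1 : G) * c := (mem_centralizer_iff.1 x.1.2) c rfl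
        calc z * c * z⁻¹ * (z * (x.1 : G) * z⁻¹) = z * (c * (x.1 : G)) * z⁻¹ := by group
          _ = z * ((x.1 : G) * c) * z⁻¹ := by rw [h1]
          _ = z * (x.1 : G) * z⁻¹ * (z * c * z⁻¹) := by group⟩,
        ⟨by rw [orderOf_conj']; exact x.2.1, isPEl_conj p z _ x.2.2⟩⟩ :
        {x : centralizer ({z * c * z⁻¹} : Set G) // ¬ p ∣ orderOf (z * c * z⁻¹) ∧ IsPEl p (x : G)}))
    ?_
  intro a b hab
  have h1 : z * (a.1 : G) * z⁻¹ = z * (b.1 : G) * z⁻¹ := congrArg (fun t => (t.1 : G)) hab
  have h2 : (a.1 : G) = b.1 := mul_left_cancel (mul_right_cancel h1)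
  exact Subtype.ext (Subtype.ext h2)

theorem pFun_conj (p : ℕ) {G : Type*} [Group G] [Finite G] (z c : G) :
    pFun p (z * c * z⁻¹) = pFun p c := by
  apply le_antisymm _ (pFun_conj_le p z c)
  have h1 := pFun_conj_le p z⁻¹ (z * c * z⁻¹)
  have e : z⁻¹ * (z * c * z⁻¹) * z⁻¹⁻¹ = c := by group
  rwa [e] at h1

theorem pFun_central (p : ℕ) {G : Type*} [Group G] (c : G)
    (hc : centralizer ({c} : Set G) = ⊤) (hpc : ¬ p ∣ orderOf c) :
    pFun p c = Nat.card {g : G // IsPEl p g} := by
  unfold pFun
  refine Nat.card_congr (Equiv.ofBijective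
    (fun x : {x : centralizer ({c} : Set G) // ¬ p ∣ orderOf c ∧ IsPEl p (x : G)} =>
      (⟨(x.1 : G), x.2.2⟩ : {g : G // IsPEl p g})) ⟨?_, ?_⟩)
  · intro a b hab
    have h1 : (a.1 : G) = b.1 := by
      have := congrArg (fun t : {g : G // IsPEl p g} => (t : G)) hab
      exact this
    exact Subtype.ext (Subtype.ext h1)
  · rintro ⟨g, hg⟩
    exact ⟨⟨⟨g, by rw [hc]; exact mem_top g⟩, hpc, hg⟩, rfl⟩

theorem pFun_eq_zero (p : ℕ) {G : Type*} [Group G] (c : G) (hpc : p ∣ orderOf c) :
    pFun p c = 0 := by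
  unfold pFun
  have : IsEmpty {x : centralizer ({c} : Set G) // ¬ p ∣ orderOf c ∧ IsPEl p (x : G)} :=
    ⟨fun x => x.2.1 hpc⟩
  exact Nat.card_of_isEmpty

theorem pFun_eq (p : ℕ) {G : Type*} [Group G] (c : G) (hpc : ¬ p ∣ orderOf c) :
    pFun p c = Nat.card {x : centralizer ({c} : Set G) // IsPEl p x} := by
  unfold pFun
  refine Nat.card_congr (Equiv.subtypeEquivRight ?_)
  intro x
  unfold IsPEl
  rw [Subgroup.orderOf_coe]
  exact ⟨fun h => h.2, fun h => ⟨hpc, h⟩⟩

/-- the central `p'`-elements -/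
def centralPPrime (p : ℕ) [Fact p.Prime] (G : Type*) [Group G] : Subgroup G where
  carrier := {c | c ∈ center G ∧ ¬ p ∣ orderOf c}
  one_mem' := ⟨one_mem _, by
    rw [orderOf_one]
    exact (Fact.out : p.Prime).one_lt.ne' ∘ Nat.dvd_one.1⟩
  mul_mem' := by
    rintro a b ⟨ha, ha'⟩ ⟨hb, hb'⟩
    refine ⟨mul_mem ha hb, fun h => ?_⟩
    have hcomm : Commute a b := (mem_center_iff.1 hb a)
    have h1 := h.trans hcomm.orderOf_mul_dvd_mul_orderOf
    rcases ((Fact.out : p.Prime).dvd_mul).1 h1 with h2 | h2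
    · exact ha' h2
    · exact hb' h2
  inv_mem' := by
    rintro a ⟨ha, ha'⟩
    exact ⟨inv_mem ha, by rwa [orderOf_inv]⟩

theorem card_centralPPrime (p : ℕ) [Fact p.Prime] (G : Type*) [Group G] [Finite G] :
    ¬ p ∣ Nat.card (centralPPrime p G) := by
  intro h
  obtain ⟨x, hx⟩ := exists_prime_orderOf_dvd_card' (G := centralPPrime p G) p h
  have h1 : ¬ p ∣ orderOf (x : G) := x.2.2
  rw [Subgroup.orderOf_coe, hx] at h1
  exact h1 dvd_rfl

universe u

/-- Frobenius' theorem for the `p`-part: the number of `p`-elements of a finite group is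
divisible by the order of a Sylow `p`-subgroup. -/
theorem card_pEl_dvd_aux (p : ℕ) [Fact p.Prime] :
    ∀ (n : ℕ) (G : Type u) [Group G] [Finite G], Nat.card G = n →
      p ^ (Nat.card G).factorization p ∣ Nat.card {g : G // IsPEl p g} := by
  intro n
  induction n using Nat.strong_induction_on with
  | _ n ih =>
    intro G _ _ hn
    classical
    have hp : p.Prime := Fact.out
    have : Fintype G := Fintype.ofFinite G
    set a := (Nat.card G).factorization p with ha
    -- the noncentral part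
    have hF' : p ^ a ∣ ∑ c : G, (if centralizer ({c} : Set G) = ⊤ then 0 else pFun p c) := by
      apply dvd_sum_of_class_fn
      · intro z c
        have h1 : centralizer ({z * c * z⁻¹} : Set G) = ⊤ ↔ centralizer ({c} : Set G) = ⊤ := by
          rw [centralizer_eq_top_iff_subset, centralizer_eq_top_iff_subset,
            Set.singleton_subset_iff, Set.singleton_subset_iff]
          constructor
          · intro h
            have := (inferInstance : (center G).Normal).conj_mem _ h z⁻¹
            have e : z⁻¹ * (z * c * z⁻¹) * z⁻¹⁻¹ = c := by group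
            rwa [e] at this
          · intro h
            exact (inferInstance : (center G).Normal).conj_mem _ h z
        by_cases hc : centralizer ({c} : Set G) = ⊤
        · rw [if_pos hc, if_pos (h1.2 hc)]
        · rw [if_neg hc, if_neg (fun h => hc (h1.1 h)), pFun_conj]
      · intro c
        by_cases hc : centralizer ({c} : Set G) = ⊤
        · rw [if_pos hc, mul_zero]; exact dvd_zero _
        · rw [if_neg hc]
          by_cases hpc : p ∣ orderOf c
          · rw [pFun_eq_zero p c hpc, mul_zero]; exact dvd_zero _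
          · rw [pFun_eq p c hpc]
            have hlt : Nat.card (centralizer ({c} : Set G)) < n := by
              rw [← hn]
              by_contra hge
              rw [not_lt] at hge
              exact hc (eq_top_of_le_card _ hge)
            have h1 := ih _ hlt (centralizer ({c} : Set G)) rfl
            have h2 := (centralizer ({c} : Set G)).index_mul_card
            have h3 : a = (centralizer ({c} : Set G)).index.factorization p +
                (Nat.card (centralizer ({c} : Set G))).factorization p := by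
              rw [ha, ← h2, Nat.factorization_mul index_ne_zero_of_finite Nat.card_pos.ne']
              rfl
            rw [h3, pow_add]
            exact mul_dvd_mul (Nat.ordProj_dvd _ p) h1
    -- the central part
    have hsplit : ∀ c : G, pFun p c =
        (if centralizer ({c} : Set G) = ⊤ then 0 else pFun p c) +
        (if c ∈ centralPPrime p G then Nat.card {g : G // IsPEl p g} else 0) := by
      intro c
      by_cases hc : centralizer ({c} : Set G) = ⊤
      · have hcc : c ∈ center G := by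
          rw [centralizer_eq_top_iff_subset, Set.singleton_subset_iff] at hc
          exact hc
        by_cases hpc : p ∣ orderOf c
        · rw [if_pos hc, if_neg (fun h : c ∈ centralPPrime p G => h.2 hpc), pFun_eq_zero p c hpc]
        · rw [if_pos hc, if_pos (show c ∈ centralPPrime p G from ⟨hcc, hpc⟩), zero_add,
            pFun_central p c hc hpc]
      · have hcc : c ∉ centralPPrime p G := by
          intro h
          apply hc
          rw [centralizer_eq_top_iff_subset, Set.singleton_subset_iff]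
          exact h.1
        rw [if_neg hc, if_neg hcc, add_zero]
    have hsum : Nat.card G = ∑ c : G, (if centralizer ({c} : Set G) = ⊤ then 0 else pFun p c) +
        Nat.card (centralPPrime p G) * Nat.card {g : G // IsPEl p g} := by
      rw [← sum_pFun p, Finset.sum_congr rfl (fun c _ => hsplit c), Finset.sum_add_distrib]
      congr 1
      rw [← Finset.sum_filter, Finset.sum_const, smul_eq_mul]
      congr 1
      rw [Nat.card_eq_fintype_card, Fintype.card_subtype]
    have h1 : p ^ a ∣ Nat.card G := Nat.ordProj_dvd _ p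
    rw [hsum] at h1
    have h2 := (Nat.dvd_add_right hF').1 h1
    have hcop : Nat.Coprime (p ^ a) (Nat.card (centralPPrime p G)) :=
      Nat.Coprime.pow_left a ((Nat.Prime.coprime_iff_not_dvd hp).2 (card_centralPPrime p G))
    exact hcop.dvd_of_dvd_mul_left h2

theorem card_pEl_dvd (p : ℕ) [Fact p.Prime] (G : Type u) [Group G] [Finite G] (P : Sylow p G) :
    Nat.card (P : Subgroup G) ∣ Nat.card {g : G // IsPEl p g} := by
  rw [P.card_eq_multiplicity]
  exact card_pEl_dvd_aux p _ G rfl

theorem dvd_card_of_fibers {α β : Type*} [Finite α] [Finite β] (f : α → β) (d : ℕ)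
    (h : ∀ b, d ∣ Nat.card {a // f a = b}) : d ∣ Nat.card α := by
  classical
  have : Fintype β := Fintype.ofFinite β
  rw [← Nat.card_congr (Equiv.sigmaFiberEquiv f), Nat.card_sigma]
  exact Finset.dvd_sum (fun b _ => h b)

/-- the number of non-identity `p`-elements is divisible by `p - 1` -/
theorem sub_one_dvd_card_pEl_ne_one (p : ℕ) [Fact p.Prime] (G : Type*) [Group G] [Finite G] :
    (p - 1) ∣ Nat.card {g : {g : G // IsPEl p g} // g ≠ ⟨1, 0, by simp⟩} := by
  classical
  have hp : p.Prime := Fact.out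
  apply dvd_card_of_fibers (fun g : {g : {g : G // IsPEl p g} // g ≠ ⟨1, 0, by simp⟩} =>
    zpowers (g.1.1 : G))
  intro C
  by_cases hemp : IsEmpty {a : {g : {g : G // IsPEl p g} // g ≠ ⟨1, 0, by simp⟩} //
      zpowers (a.1.1 : G) = C}
  · rw [Nat.card_of_isEmpty]; exact dvd_zero _
  · rw [not_isEmpty_iff] at hemp
    obtain ⟨⟨⟨⟨g₀, j, hj⟩, hne⟩, hC⟩⟩ := hemp
    have hC' : zpowers g₀ = C := hC
    have hj0 : j ≠ 0 := by
      rintro rfl
      apply hne
      apply Subtype.ext
      rw [pow_zero, orderOf_eq_one_iff] at hj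
      exact hj
    have hcardC : Nat.card C = p ^ j := by rw [← hC', Nat.card_zpowers, hj]
    have hcyc : IsCyclic C := by rw [← hC']; infer_instance
    have key : Nat.card {a : {g : {g : G // IsPEl p g} // g ≠ ⟨1, 0, by simp⟩} //
        zpowers (a.1.1 : G) = C} = Nat.card {x : C // orderOf x = p ^ j} := by
      refine Nat.card_congr (Equiv.ofBijective
        (fun a => (⟨⟨(a.1.1.1 : G), by
          have h := mem_zpowers (a.1.1.1 : G)
          rwa [a.2] at h⟩, by
          rw [Subgroup.orderOf_mk, ← Nat.card_zpowers, a.2, hcardC]⟩ :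
          {x : C // orderOf x = p ^ j})) ⟨?_, ?_⟩)
      · intro a b hab
        have h1 : (a.1.1.1 : G) = b.1.1.1 := by
          have := congrArg (fun t : {x : C // orderOf x = p ^ j} => ((t : C) : G)) hab
          exact this
        exact Subtype.ext (Subtype.ext (Subtype.ext h1))
      · rintro ⟨⟨x, hxC⟩, hx⟩
        rw [Subgroup.orderOf_mk] at hx
        have hx1 : x ≠ 1 := by
          rintro rfl
          rw [orderOf_one] at hx
          exact hj0 (by
            by_contra h0
            exact (Nat.one_lt_pow h0 hp.one_lt).ne hx)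
        have hz : zpowers x = C := by
          apply Subgroup.eq_of_le_of_card_ge (zpowers_le.2 hxC)
          rw [Nat.card_zpowers, hx, hcardC]
        exact ⟨⟨⟨⟨x, j, hx⟩, fun h => hx1 (congrArg Subtype.val h)⟩, hz⟩, rfl⟩
    rw [key]
    have : Fintype C := Fintype.ofFinite C
    have h2 := IsCyclic.card_orderOf_eq_totient (α := C) (d := p ^ j)
      (by rw [← Nat.card_eq_fintype_card, hcardC])
    rw [Nat.card_eq_fintype_card, Fintype.card_subtype, h2,
      Nat.totient_prime_pow hp (Nat.pos_of_ne_zero hj0)]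
    exact dvd_mul_left _ _

theorem card_pEl_modEq (p : ℕ) [Fact p.Prime] (G : Type*) [Group G] [Finite G] :
    Nat.card {g : G // IsPEl p g} ≡ 1 [MOD (p - 1)] := by
  have h1 := card_subtype_ne_add_one (⟨1, 0, by simp⟩ : {g : G // IsPEl p g})
  have h2 := sub_one_dvd_card_pEl_ne_one p G
  rw [← h1]
  have h3 : Nat.card {g : {g : G // IsPEl p g} // g ≠ ⟨1, 0, by simp⟩} ≡ 0 [MOD (p - 1)] :=
    (Nat.modEq_zero_iff_dvd).2 h2
  simpa using h3.add_right 1

/-- if a Sylow `p`-subgroup `P` is not normal, there are at least `p * |P|` elements of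
`p`-power order -/
theorem mul_card_sylow_le_card_pEl (p : ℕ) [Fact p.Prime] (G : Type u) [Group G] [Finite G]
    (P : Sylow p G) (hP : ¬ (P : Subgroup G).Normal) :
    p * Nat.card (P : Subgroup G) ≤ Nat.card {g : G // IsPEl p g} := by
  have hp : p.Prime := Fact.out
  obtain ⟨k, hk⟩ := card_pEl_dvd p G P
  have hmod := card_pEl_modEq p G
  -- `P` embeds into the `p`-elements
  have hPel : ∀ x : (P : Subgroup G), IsPEl p (x : G) := by
    intro x
    obtain ⟨i, hi⟩ := P.2 x
    obtain ⟨j, -, hj⟩ := (Nat.dvd_prime_pow hp).1 (orderOf_dvd_of_pow_eq_one hi)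
    exact ⟨j, by rw [← hj, Subgroup.orderOf_coe]⟩
  let f : ↥(P : Subgroup G) → {g : G // IsPEl p g} := fun x => ⟨x, hPel x⟩
  have hf : Function.Injective f := by
    intro a b hab
    have : (a : G) = b := congrArg (fun t : {g : G // IsPEl p g} => (t : G)) hab
    exact Subtype.ext this
  have hlt : Nat.card (P : Subgroup G) < Nat.card {g : G // IsPEl p g} := by
    by_contra hge
    rw [not_lt] at hge
    have hbij : Function.Bijective f := by
      rw [Nat.bijective_iff_injective_and_card]
      exact ⟨hf, le_antisymm (Nat.card_le_card_of_injective f hf) hge⟩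
    apply hP
    constructor
    intro n hn g
    obtain ⟨x, hx⟩ := hbij.2 ⟨g * n * g⁻¹, isPEl_conj p g n (hPel ⟨n, hn⟩)⟩
    have : (x : G) = g * n * g⁻¹ := congrArg (fun t : {g : G // IsPEl p g} => (t : G)) hx
    rw [← this]
    exact x.2
  have hcardP : Nat.card (P : Subgroup G) ≡ 1 [MOD (p - 1)] := by
    rw [P.card_eq_multiplicity]
    have h0 : p ≡ 1 [MOD (p - 1)] := by
      have := Nat.modEq_sub (hp.one_lt.le)
      exact this
    simpa using h0.pow ((Nat.card G).factorization p)
  have hPpos : 0 < Nat.card (P : Subgroup G) := Nat.card_pos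
  rw [hk] at hlt hmod ⊢
  have hk2 : 2 ≤ k := by
    by_contra h
    rw [not_le] at h
    interval_cases k
    · simp at hlt
    · simp at hlt
  have hk1 : k ≡ 1 [MOD (p - 1)] := by
    have h1 : Nat.card (P : Subgroup G) * k ≡ 1 * k [MOD (p - 1)] := hcardP.mul_right k
    rw [one_mul] at h1
    exact h1.symm.trans hmod
  have hkp : p ≤ k := by
    have h1 : (p - 1) ∣ k - 1 := (Nat.modEq_iff_dvd' (by omega)).1 hk1.symm
    have h2 := Nat.le_of_dvd (by omega) h1
    omega
  calc p * Nat.card (P : Subgroup G) ≤ k * Nat.card (P : Subgroup G) :=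
        Nat.mul_le_mul_right _ hkp
    _ = Nat.card (P : Subgroup G) * k := mul_comm _ _

end Cfsg.Agent.Helper68
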