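import Mathlib
import Cfsg.Agent.Helper68.Basic
import Cfsg.Agent.Helper68.PiElt
import Cfsg.Agent.Helper68.Frob
import Cfsg.Agent.Helper68.Frobenius

set_option autoImplicit false

namespace Cfsg.Agent.Helper68

open Subgroup
open scoped Pointwise

/-- a finite group is not the union of the conjugates of a proper subgroup -/
theorem eq_top_of_forall_conj_mem {K : Type*} [Group K] [Finite K] (H : Subgroup K)
    (h : ∀ g : K, ∃ t : K, t⁻¹ * g * t ∈ H) : H = ⊤ := by
  classical
  let f : Option ((K ⧸ H) × {k : H // k ≠ 1}) → K := fun o =>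
    match o with
    | none => 1
    | some z => z.1.out * (z.2.1 : K) * z.1.out⁻¹
  have hf : Function.Surjective f := by
    intro g
    by_cases hg : g = 1
    · exact ⟨none, hg.symm⟩
    · obtain ⟨t, ht⟩ := h g
      set q : K ⧸ H := (t : K ⧸ H) with hq
      have hc : q.out⁻¹ * t ∈ H := by
        have : ((q.out : K) : K ⧸ H) = (t : K ⧸ H) := QuotientGroup.out_eq' q
        exact QuotientGroup.eq.1 this
      have hk : q.out⁻¹ * g * q.out ∈ H := by
        have e : q.out⁻¹ * g * q.out = (q.out⁻¹ * t) * (t⁻¹ * g * t) * (q.out⁻¹ * t)⁻¹ := by group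
        rw [e]
        exact mul_mem (mul_mem hc ht) (inv_mem hc)
      have hk1 : (⟨q.out⁻¹ * g * q.out, hk⟩ : H) ≠ 1 := by
        intro h1
        apply hg
        have h2 : q.out⁻¹ * g * q.out = 1 := congrArg Subtype.val h1
        have e : g = q.out * (q.out⁻¹ * g * q.out) * q.out⁻¹ := by group
        rw [e, h2]; group
      refine ⟨some (q, ⟨⟨q.out⁻¹ * g * q.out, hk⟩, hk1⟩), ?_⟩
      show q.out * (q.out⁻¹ * g * q.out) * q.out⁻¹ = g
      group
  have h1 := Nat.card_le_card_of_surjective f hf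
  rw [Finite.card_option, Nat.card_prod] at h1
  have h2 := card_subtype_ne_add_one (1 : H)
  have h3 := H.index_mul_card
  have h4 : Nat.card (K ⧸ H) = H.index := rfl
  rw [h4] at h1
  have hpos : 0 < Nat.card H := Nat.card_pos
  have h5 : H.index * Nat.card {k : H // k ≠ 1} + H.index = Nat.card K := by
    rw [← h3, ← h2]; ring
  have h6 : H.index ≤ 1 := by omega
  have h7 : H.index ≠ 0 := index_ne_zero_of_finite
  exact index_eq_one.1 (by omega)

/-- Thompson-type lemma: a `p'`-group `L` normalizing the `p`-group `N` and centralizing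
`C_N(x)` for some `x ∈ N` centralizes `N`. -/
theorem centralizes_of_centralizes_fixed {G : Type*} [Group G] [Finite G] (p : ℕ) [Fact p.Prime]
    (N L : Subgroup G) (hN : IsPGroup p N) (hLN : ∀ l ∈ L, ∀ y ∈ N, l * y * l⁻¹ ∈ N)
    (hL : ∀ l ∈ L, ¬ p ∣ orderOf l) (x : G) (hxN : x ∈ N)
    (hfix : ∀ y ∈ N, y * x = x * y → ∀ l ∈ L, l * y = y * l) :
    ∀ y ∈ N, ∀ l ∈ L, l * y = y * l := by
  have hp : p.Prime := Fact.out
  -- `M = C_N(L)`
  let M : Subgroup G := N ⊓ centralizer (L : Set G)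
  have hM : ∀ m : G, m ∈ M ↔ m ∈ N ∧ ∀ l ∈ L, l * m = m * l := by
    intro m
    rw [Subgroup.mem_inf, mem_centralizer_iff]
    rfl
  have hxM : x ∈ M := (hM x).2 ⟨hxN, hfix x hxN rfl⟩
  have hnil : Group.IsNilpotent N := hN.isNilpotent
  by_contra hcon
  have hlt : M.subgroupOf N < ⊤ := by
    rw [lt_top_iff_ne_top]
    intro htop
    apply hcon
    intro y hy l hl
    have : (⟨y, hy⟩ : N) ∈ M.subgroupOf N := by rw [htop]; exact mem_top _
    rw [mem_subgroupOf] at this
    exact ((hM y).1 this).2 l hl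
  have hnc := Group.normalizerCondition_of_isNilpotent (G := N) (M.subgroupOf N) hlt
  obtain ⟨⟨y, hyN⟩, hynorm, hynot⟩ := SetLike.exists_of_lt hnc
  apply hynot
  rw [mem_subgroupOf]
  show y ∈ M
  -- `y` normalizes `M`
  have hyM : ∀ m ∈ M, y * m * y⁻¹ ∈ M := by
    intro m hm
    have hmN : m ∈ N := ((hM m).1 hm).1
    have := (mem_normalizer_iff.1 hynorm ⟨m, hmN⟩).1 (by rw [mem_subgroupOf]; exact hm)
    rw [mem_subgroupOf] at this
    exact this
  -- the map `φ`
  have hφM : ∀ l ∈ L, y⁻¹ * l * y * l⁻¹ ∈ M := by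
    intro l hl
    have hφN : y⁻¹ * l * y * l⁻¹ ∈ N := by
      have e : y⁻¹ * l * y * l⁻¹ = y⁻¹ * (l * y * l⁻¹) := by group
      rw [e]
      exact mul_mem (inv_mem hyN) (hLN l hl y hyN)
    have hcomm : ∀ m ∈ M, (y⁻¹ * l * y * l⁻¹) * m = m * (y⁻¹ * l * y * l⁻¹) := by
      intro m hm
      have h1 : l * m = m * l := ((hM m).1 hm).2 l hl
      have h2 : l * (y * m * y⁻¹) = (y * m * y⁻¹) * l := ((hM _).1 (hyM m hm)).2 l hl
      have h1' : l⁻¹ * m = m * l⁻¹ := by
        have : l⁻¹ * m = l⁻¹ * (m * l) * l⁻¹ := by group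
        rw [this, ← h1]; group
      calc (y⁻¹ * l * y * l⁻¹) * m = y⁻¹ * l * y * (l⁻¹ * m) := by group
        _ = y⁻¹ * l * y * (m * l⁻¹) := by rw [h1']
        _ = y⁻¹ * (l * (y * m * y⁻¹)) * y * l⁻¹ := by group
        _ = y⁻¹ * ((y * m * y⁻¹) * l) * y * l⁻¹ := by rw [h2]
        _ = m * (y⁻¹ * l * y * l⁻¹) := by group
    rw [hM]
    exact ⟨hφN, hfix _ hφN (hcomm x hxM)⟩
  have hmul : ∀ l₁ l₂ : L, y⁻¹ * ((l₁ * l₂ : L) : G) * y * ((l₁ * l₂ : L) : G)⁻¹ =
      (y⁻¹ * (l₁ : G) * y * (l₁ : G)⁻¹) * (y⁻¹ * (l₂ : G) * y * (l₂ : G)⁻¹) := by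
    intro l₁ l₂
    have h1 : (l₁ : G) * (y⁻¹ * (l₂ : G) * y * (l₂ : G)⁻¹) =
        (y⁻¹ * (l₂ : G) * y * (l₂ : G)⁻¹) * (l₁ : G) :=
      ((hM _).1 (hφM l₂ l₂.2)).2 l₁ l₁.2
    have h1' : (y⁻¹ * (l₂ : G) * y * (l₂ : G)⁻¹) * (l₁ : G)⁻¹ =
        (l₁ : G)⁻¹ * (y⁻¹ * (l₂ : G) * y * (l₂ : G)⁻¹) :=
      (Commute.inv_left (show Commute (l₁ : G) (y⁻¹ * (l₂ : G) * y * (l₂ : G)⁻¹) from h1)).eq.symm
    calc y⁻¹ * ((l₁ * l₂ : L) : G) * y * ((l₁ * l₂ : L) : G)⁻¹
        = y⁻¹ * (l₁ : G) * y * ((y⁻¹ * (l₂ : G) * y * (l₂ : G)⁻¹) * (l₁ : G)⁻¹) := by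
          rw [Subgroup.coe_mul]; group
      _ = y⁻¹ * (l₁ : G) * y * ((l₁ : G)⁻¹ * (y⁻¹ * (l₂ : G) * y * (l₂ : G)⁻¹)) := by rw [h1']
      _ = _ := by group
  let φ : L →* G := MonoidHom.mk' (fun l : L => y⁻¹ * (l : G) * y * (l : G)⁻¹) hmul
  rw [hM]
  refine ⟨hyN, fun l hl => ?_⟩
  have h1 : orderOf (φ ⟨l, hl⟩) ∣ orderOf (⟨l, hl⟩ : L) := orderOf_map_dvd φ _
  rw [Subgroup.orderOf_mk] at h1
  have hφl : φ ⟨l, hl⟩ = y⁻¹ * l * y * l⁻¹ := rfl
  have h2 : y⁻¹ * l * y * l⁻¹ ∈ N := ((hM _).1 (hφM l hl)).1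
  obtain ⟨j, hj⟩ := hN ⟨_, h2⟩
  have hj' : (y⁻¹ * l * y * l⁻¹) ^ p ^ j = 1 := congrArg Subtype.val hj
  have h3 : orderOf (y⁻¹ * l * y * l⁻¹) ∣ p ^ j := orderOf_dvd_of_pow_eq_one hj'
  rw [hφl] at h1
  have hcop : Nat.Coprime (orderOf l) (p ^ j) :=
    Nat.Coprime.pow_right j ((Nat.Prime.coprime_iff_not_dvd hp).2 (hL l hl)).symm
  have h4 : orderOf (y⁻¹ * l * y * l⁻¹) = 1 :=
    Nat.eq_one_of_dvd_coprimes hcop h1 h3
  rw [orderOf_eq_one_iff] at h4
  have e : l * y = y * (y⁻¹ * l * y * l⁻¹) * l := by group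
  rw [e, h4, mul_one]

/-- if every `p'`-element of `C` has a centralizer of index prime to `p`, then `C` is the direct
product of a Sylow `p`-subgroup and a `p'`-group -/
theorem exists_central_pcomplement (p : ℕ) [Fact p.Prime] {C : Type*} [Group C] [Finite C]
    (h : ∀ y : C, ¬ p ∣ orderOf y → ¬ p ∣ (centralizer ({y} : Set C)).index) :
    ∃ L : Subgroup C, (∀ g : C, ¬ p ∣ orderOf g → g ∈ L) ∧ (∀ g ∈ L, ¬ p ∣ orderOf g) ∧
      (∀ y : C, IsPEl p y → ∀ l ∈ L, l * y = y * l) ∧
      (Nat.card L).Coprime p ∧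
      ∀ P : Sylow p C, Nat.card L * Nat.card (P : Subgroup C) = Nat.card C := by
  have hp : p.Prime := Fact.out
  obtain ⟨P⟩ : Nonempty (Sylow p C) := inferInstance
  -- every element is conjugate into `P * C(P)`
  have hK : (P : Subgroup C) ⊔ centralizer ((P : Subgroup C) : Set C) = ⊤ := by
    apply eq_top_of_forall_conj_mem
    intro g
    obtain ⟨u, c, hu, hc, huc, hup, hpc⟩ := exists_p_decomp g (orderOf_pos g) p
    have hcomm : Commute u c := by
      obtain ⟨i, hi⟩ := mem_zpowers_iff.1 hu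
      obtain ⟨j, hj⟩ := mem_zpowers_iff.1 hc
      have h0 : Commute (g ^ i) (g ^ j) := (Commute.refl g).zpow_zpow i j
      rwa [hi, hj] at h0
    set Z := centralizer ({c} : Set C) with hZ
    have huZ : u ∈ Z := by
      rw [mem_centralizer_iff]
      rintro y rfl
      exact hcomm.eq.symm
    have hidx : ¬ p ∣ Z.index := h c hpc
    -- a Sylow subgroup of `Z` containing `u`
    have hpu : IsPGroup p (zpowers (⟨u, huZ⟩ : Z)) := by
      obtain ⟨k, hk⟩ := hup
      apply IsPGroup.of_card (n := k)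
      rw [Nat.card_zpowers, Subgroup.orderOf_mk, hk]
    obtain ⟨Q', hQ'⟩ := hpu.exists_le_sylow
    have hcardQ : Nat.card ((Q' : Subgroup Z).map Z.subtype) =
        p ^ (Nat.card C).factorization p := by
      rw [card_map_of_injective Z.subtype_injective, Q'.card_eq_multiplicity]
      congr 1
      rw [← Z.card_mul_index, Nat.factorization_mul Nat.card_pos.ne' index_ne_zero_of_finite]
      simp [Nat.factorization_eq_zero_of_not_dvd hidx]
    obtain ⟨t, ht⟩ := MulAction.exists_smul_eq C P (Sylow.ofCard _ hcardQ)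
    have ht' : MulAut.conj t • (P : Subgroup C) = (Q' : Subgroup Z).map Z.subtype := by
      rw [← Sylow.coe_subgroup_smul, ht, Sylow.coe_ofCard]
    refine ⟨t, ?_⟩
    have e : t⁻¹ * g * t = (t⁻¹ * u * t) * (t⁻¹ * c * t) := by rw [← huc]; group
    rw [e]
    apply mul_mem
    · apply (le_sup_left : (P : Subgroup C) ≤ _)
      have hu' : u ∈ MulAut.conj t • (P : Subgroup C) := by
        rw [ht']
        exact ⟨⟨u, huZ⟩, hQ' (mem_zpowers _), rfl⟩
      obtain ⟨w, hw, hwu⟩ := hu'
      have hwu' : t * w * t⁻¹ = u := hwu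
      rw [← hwu']
      have e2 : t⁻¹ * (t * w * t⁻¹) * t = w := by group
      rw [e2]
      exact hw
    · apply (le_sup_right : centralizer ((P : Subgroup C) : Set C) ≤ _)
      rw [mem_centralizer_iff]
      intro y hy
      have hy' : t * y * t⁻¹ ∈ MulAut.conj t • (P : Subgroup C) := ⟨y, hy, rfl⟩
      rw [ht'] at hy'
      obtain ⟨z, hz, hzy⟩ := hy'
      have hzy' : (z : C) = t * y * t⁻¹ := hzy
      have hyZ : t * y * t⁻¹ ∈ Z := by rw [← hzy']; exact z.2
      have h3 : c * (t * y * t⁻¹) = t * y * t⁻¹ * c := (mem_centralizer_iff.1 hyZ) c rfl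
      calc y * (t⁻¹ * c * t) = t⁻¹ * ((t * y * t⁻¹) * c) * t := by group
        _ = t⁻¹ * (c * (t * y * t⁻¹)) * t := by rw [h3]
        _ = (t⁻¹ * c * t) * y := by group
  have hPnormal : (P : Subgroup C).Normal := by
    rw [← normalizer_eq_top_iff, eq_top_iff, ← hK]
    exact sup_le le_normalizer (centralizer_le_normalizer _)
  have := hPnormal
  obtain ⟨L, hL⟩ := exists_right_complement'_of_coprime P.card_coprime_index
  have hcardL : Nat.card (P : Subgroup C) * Nat.card L = Nat.card C := hL.card_mul_card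
  have hLcop : (Nat.card L).Coprime p := by
    have h1 : Nat.card L = (P : Subgroup C).index := by
      have h2 := (P : Subgroup C).card_mul_index
      have hpos : 0 < Nat.card (P : Subgroup C) := Nat.card_pos
      exact Nat.eq_of_mul_eq_mul_left hpos (hcardL.trans h2.symm)
    rw [h1]
    exact ((Nat.Prime.coprime_iff_not_dvd hp).2 P.not_dvd_index).symm
  have hLord : ∀ g ∈ L, ¬ p ∣ orderOf g := by
    intro g hg hpg
    have h1 : orderOf g ∣ Nat.card L := Subgroup.orderOf_dvd_natCard L hg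
    exact (Nat.Prime.coprime_iff_not_dvd hp).1 hLcop.symm (hpg.trans h1)
  -- `L` centralizes `P`
  have hLP : ∀ l ∈ L, ∀ y ∈ (P : Subgroup C), l * y = y * l := by
    intro l hl y hy
    have hl' : l ∈ (P : Subgroup C) ⊔ centralizer ((P : Subgroup C) : Set C) := by
      rw [hK]; exact mem_top l
    have hl2 : (l : C) ∈ ((P : Subgroup C) : Set C) *
        (centralizer ((P : Subgroup C) : Set C) : Set C) := by
      rw [← normal_mul]; exact hl'
    obtain ⟨u, hu, z, hz, rfl⟩ := Set.mem_mul.1 hl2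
    have huz : Commute u z := (mem_centralizer_iff.1 hz) u hu
    set m := Nat.card (P : Subgroup C) with hm
    have hum : u ^ m = 1 := by
      have h1 : (⟨u, hu⟩ : (P : Subgroup C)) ^ m = 1 := by
        rw [hm]; exact pow_card_eq_one'
      exact congrArg Subtype.val h1
    have hpow : (u * z) ^ m = z ^ m := by rw [huz.mul_pow, hum, one_mul]
    have hzm : (u * z) ^ m ∈ centralizer ((P : Subgroup C) : Set C) := by
      rw [hpow]; exact pow_mem hz m
    have hcop : Nat.Coprime m (orderOf (u * z)) := by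
      rw [hm, P.card_eq_multiplicity]
      exact Nat.Coprime.pow_left _ ((Nat.Prime.coprime_iff_not_dvd hp).2 (hLord _ hl))
    obtain ⟨k, hk⟩ := exists_pow_eq_self_of_coprime hcop
    have h5 : u * z ∈ centralizer ((P : Subgroup C) : Set C) := by
      rw [← hk]; exact pow_mem hzm k
    exact ((mem_centralizer_iff.1 h5) y hy).symm
  have hPall : ∀ y : C, IsPEl p y → y ∈ (P : Subgroup C) := by
    intro y hy
    obtain ⟨k, hk⟩ := hy
    have hpy : IsPGroup p (zpowers y) := IsPGroup.of_card (n := k) (by rw [Nat.card_zpowers, hk])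
    obtain ⟨Q, hQ⟩ := hpy.exists_le_sylow
    obtain ⟨t, ht⟩ := MulAction.exists_smul_eq C P Q
    rw [Sylow.smul_eq_of_normal] at ht
    rw [ht]; exact hQ (mem_zpowers y)
  have hLall : ∀ g : C, ¬ p ∣ orderOf g → g ∈ L := by
    intro g hg
    have hg' : g ∈ ((P : Subgroup C) : Set C) * (L : Set C) := by
      rw [← normal_mul, hL.sup_eq_top]; exact mem_top g
    obtain ⟨u, hu, l, hl, hul⟩ := Set.mem_mul.1 hg'
    have hcomm : Commute u l := (hLP l hl u hu).symm
    have hu' : IsPEl p u := by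
      obtain ⟨i, hi⟩ := P.2 ⟨u, hu⟩
      have hi' : u ^ p ^ i = 1 := congrArg Subtype.val hi
      obtain ⟨j, -, hj⟩ := (Nat.dvd_prime_pow hp).1 (orderOf_dvd_of_pow_eq_one hi')
      exact ⟨j, hj⟩
    have h1 : IsPEl p (1 : C) := ⟨0, by simp⟩
    have h2 := decomp_unique p hcomm hu' (hLord l hl) (Commute.one_left g) h1 hg
      (by rw [hul, one_mul])
    rw [← h2.2]; exact hl
  refine ⟨L, hLall, hLord, fun y hy l hl => hLP l hl y (hPall y hy), hLcop, fun P₂ => ?_⟩
  rw [P₂.card_eq_multiplicity, ← P.card_eq_multiplicity, mul_comm]; exact hcardL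

theorem centralizer_subtype_eq {G : Type*} [Group G] (C : Subgroup G) (y : C) :
    centralizer ({y} : Set C) = (centralizer ({(y : G)} : Set G)).subgroupOf C := by
  ext z
  rw [mem_subgroupOf, mem_centralizer_iff, mem_centralizer_iff]
  constructor
  · intro h w hw
    rw [Set.mem_singleton_iff] at hw
    rw [hw]
    have := h y rfl
    exact congrArg Subtype.val this
  · intro h w hw
    rw [Set.mem_singleton_iff] at hw
    rw [hw]
    exact Subtype.ext (h (y : G) rfl)

universe u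

/-- If `p ^ a` is the largest power of `p` dividing a class size, and some `p`-element has class
size `p ^ a`, then `G` has a normal `p`-complement. -/
theorem normal_pcomplement_of_class (p : ℕ) [Fact p.Prime] {G : Type u} [Group G] [Finite G]
    (a : ℕ) (hmax : ∀ y : G, ¬ p ^ (a + 1) ∣ (centralizer ({y} : Set G)).index)
    (x : G) (hx : IsPEl p x) (hxa : (centralizer ({x} : Set G)).index = p ^ a) :
    ∃ (P : Sylow p G) (N : Subgroup G), N.Normal ∧ N.IsComplement' (P : Subgroup G) := by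
  have hp : p.Prime := Fact.out
  set C := centralizer ({x} : Set G) with hC
  have hxC : x ∈ C := by rw [mem_centralizer_iff]; rintro y rfl; rfl
  -- Step A
  have hA : ∀ y : C, ¬ p ∣ orderOf y → ¬ p ∣ (centralizer ({y} : Set C)).index := by
    intro y hy
    rw [centralizer_subtype_eq]
    have hy' : ¬ p ∣ orderOf (y : G) := by rwa [Subgroup.orderOf_coe]
    have hcomm : Commute x (y : G) := (mem_centralizer_iff.1 y.2) x rfl
    set W := centralizer ({x * (y : G)} : Set G) with hW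
    have hx1 : x ∈ zpowers (x * (y : G)) := mem_zpowers_of_decomp p hcomm hx hy'
    have hy1 : (y : G) ∈ zpowers (x * (y : G)) := by
      have e : x⁻¹ * (x * (y : G)) = (y : G) := by group
      have h0 := mul_mem (inv_mem hx1) (mem_zpowers (x * (y : G)))
      rwa [e] at h0
    have hWle : ∀ g : G, g ∈ zpowers (x * (y : G)) → W ≤ centralizer ({g} : Set G) := by
      intro g hg w hw
      rw [mem_centralizer_iff] at hw ⊢
      intro g' hg'
      rw [Set.mem_singleton_iff] at hg'
      obtain ⟨i, hi⟩ := mem_zpowers_iff.1 hg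
      have h0 : Commute (x * (y : G)) w := hw _ rfl
      rw [hg', ← hi]
      exact (h0.zpow_left i).eq
    have hWC : W ≤ C := hWle x hx1
    have hWy : W ≤ centralizer ({(y : G)} : Set G) := hWle _ hy1
    have h1 : W.relIndex C * C.index = W.index := relIndex_mul_index hWC
    have h2 : ¬ p ∣ W.relIndex C := by
      intro hdvd
      apply hmax (x * (y : G))
      rw [← hW, ← h1, hxa, pow_succ']
      exact mul_dvd_mul_right hdvd _
    intro hdvd
    apply h2
    exact hdvd.trans (relIndex_dvd_of_le_left C hWy)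
  obtain ⟨L', hL1, hL2, hL3, hL4, hL5⟩ := exists_central_pcomplement p hA
  set L := L'.map C.subtype with hL
  -- a Sylow subgroup containing x
  have hpx : IsPGroup p (zpowers x) := by
    obtain ⟨k, hk⟩ := hx
    exact IsPGroup.of_card (n := k) (by rw [Nat.card_zpowers, hk])
  obtain ⟨P, hP⟩ := hpx.exists_le_sylow
  have hxP : x ∈ (P : Subgroup G) := hP (mem_zpowers x)
  -- cardinalities
  have hcardG : Nat.card C * p ^ a = Nat.card G := by rw [← hxa]; exact C.card_mul_index
  have hfac : (Nat.card G).factorization p = (Nat.card C).factorization p + a := by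
    rw [← hcardG, Nat.factorization_mul Nat.card_pos.ne' (pow_ne_zero _ hp.ne_zero)]
    simp [hp.factorization_self]
  -- all conjugates of x lie in P
  have hconj : ∀ g : G, g * x * g⁻¹ ∈ (P : Subgroup G) := by
    have hsub : conjOrbit (P : Subgroup G) x ⊆ conjOrbit ⊤ x := by
      rintro y ⟨u, hu, rfl⟩
      exact ⟨u, mem_top u, rfl⟩
    have hc1 : Nat.card (conjOrbit (⊤ : Subgroup G) x) = p ^ a := by
      rw [card_conjOrbit_eq_index, ← hxa]
      exact relIndex_top_right _
    have hc2 : Nat.card (conjOrbit (P : Subgroup G) x) * Nat.card ↥((P : Subgroup G) ⊓ C) =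
        Nat.card (P : Subgroup G) := card_conjOrbit_mul (P : Subgroup G) x
    have hc3 : Nat.card ↥((P : Subgroup G) ⊓ C) ∣ p ^ (Nat.card C).factorization p := by
      have hpg : IsPGroup p ↥((P : Subgroup G) ⊓ C) := P.2.to_le inf_le_left
      obtain ⟨k, hk⟩ := IsPGroup.iff_card.1 hpg
      rw [hk]
      have hdvd : p ^ k ∣ Nat.card C := by
        rw [← hk]; exact Subgroup.card_dvd_of_le inf_le_right
      exact pow_dvd_pow p ((hp.pow_dvd_iff_le_factorization Nat.card_pos.ne').1 hdvd)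
    have hc4 : p ^ a ≤ Nat.card (conjOrbit (P : Subgroup G) x) := by
      rw [P.card_eq_multiplicity, hfac, pow_add] at hc2
      have hle := Nat.le_of_dvd (pow_pos hp.pos _) hc3
      by_contra hlt
      rw [not_le] at hlt
      have : Nat.card (conjOrbit (P : Subgroup G) x) * Nat.card ↥((P : Subgroup G) ⊓ C) <
          p ^ (Nat.card C).factorization p * p ^ a := by
        calc _ ≤ Nat.card (conjOrbit (P : Subgroup G) x) * p ^ (Nat.card C).factorization p :=
              Nat.mul_le_mul_left _ hle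
          _ < p ^ a * p ^ (Nat.card C).factorization p :=
              Nat.mul_lt_mul_of_pos_right hlt (pow_pos hp.pos _)
          _ = _ := mul_comm _ _
      rw [hc2] at this
      exact lt_irrefl _ this
    have heq : conjOrbit (P : Subgroup G) x = conjOrbit ⊤ x := by
      apply Set.eq_of_subset_of_ncard_le hsub _ (Set.toFinite _)
      rw [← Nat.card_coe_set_eq, ← Nat.card_coe_set_eq, hc1]
      exact hc4
    intro g
    have hg : g * x * g⁻¹ ∈ conjOrbit (⊤ : Subgroup G) x := ⟨g, mem_top g, rfl⟩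
    rw [← heq] at hg
    obtain ⟨u, hu, hux⟩ := hg
    rw [← hux]
    exact mul_mem (mul_mem hu hxP) (inv_mem hu)
  -- the normal closure of x
  set N := normalClosure ({x} : Set G) with hN
  have hNP : N ≤ (P : Subgroup G) := by
    rw [hN, normalClosure, closure_le]
    intro y hy
    rw [SetLike.mem_coe] at *
    rw [Group.mem_conjugatesOfSet_iff] at hy
    obtain ⟨b, hb, hby⟩ := hy
    rw [Set.mem_singleton_iff] at hb; subst hb
    obtain ⟨c, hc⟩ := isConj_iff.1 hby
    rw [← hc]; exact hconj c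
  have hNnormal : N.Normal := normalClosure_normal
  have hxN : x ∈ N := subset_normalClosure (Set.mem_singleton x)
  have hNp : IsPGroup p N := P.2.to_le hNP
  -- L centralizes N
  have hLmem : ∀ l : G, l ∈ L ↔ ∃ h : l ∈ C, (⟨l, h⟩ : C) ∈ L' := by
    intro l
    constructor
    · rintro ⟨l', hl', rfl⟩
      exact ⟨l'.2, hl'⟩
    · rintro ⟨h, hl⟩
      exact ⟨⟨l, h⟩, hl, rfl⟩
  have hLN : ∀ y ∈ N, ∀ l ∈ L, l * y = y * l := by
    apply centralizes_of_centralizes_fixed p N L hNp
    · intro l _ y hy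
      exact hNnormal.conj_mem y hy l
    · intro l hl
      obtain ⟨h, hl'⟩ := (hLmem l).1 hl
      have := hL2 _ hl'
      rwa [Subgroup.orderOf_mk] at this
    · exact hxN
    · intro y hyN hyx l hl
      obtain ⟨h, hl'⟩ := (hLmem l).1 hl
      have hyC : y ∈ C := by
        rw [mem_centralizer_iff]
        intro g' hg'
        rw [Set.mem_singleton_iff] at hg'
        rw [hg']
        exact hyx.symm
      have hyp : IsPEl p (⟨y, hyC⟩ : C) := by
        obtain ⟨i, hi⟩ := hNp ⟨y, hyN⟩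
        have hi' : y ^ p ^ i = 1 := congrArg Subtype.val hi
        obtain ⟨j, -, hj⟩ := (Nat.dvd_prime_pow hp).1 (orderOf_dvd_of_pow_eq_one hi')
        exact ⟨j, by rw [Subgroup.orderOf_mk, hj]⟩
      have := hL3 _ hyp _ hl'
      exact congrArg Subtype.val this
  -- L is normal
  have hLnormal : L.Normal := by
    constructor
    intro l hl g
    obtain ⟨h, hl'⟩ := (hLmem l).1 hl
    have hcent : ∀ y ∈ N, (g * l * g⁻¹) * y = y * (g * l * g⁻¹) := by
      intro y hy
      have h1 : g⁻¹ * y * g⁻¹⁻¹ ∈ N := hNnormal.conj_mem y hy g⁻¹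
      have h2 := hLN _ h1 l hl
      calc (g * l * g⁻¹) * y = g * (l * (g⁻¹ * y * g⁻¹⁻¹)) * g⁻¹ := by group
        _ = g * ((g⁻¹ * y * g⁻¹⁻¹) * l) * g⁻¹ := by rw [h2]
        _ = y * (g * l * g⁻¹) := by group
    have hgC : g * l * g⁻¹ ∈ C := by
      rw [mem_centralizer_iff]
      intro g' hg'
      rw [Set.mem_singleton_iff] at hg'
      rw [hg']
      exact (hcent x hxN).symm
    rw [hLmem]
    refine ⟨hgC, hL1 _ ?_⟩
    rw [Subgroup.orderOf_mk, orderOf_conj']
    have := hL2 _ hl'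
    rwa [Subgroup.orderOf_mk] at this
  refine ⟨P, L, hLnormal, ?_⟩
  have hcardL : Nat.card L = Nat.card L' := card_map_of_injective C.subtype_injective
  obtain ⟨P₀⟩ : Nonempty (Sylow p C) := inferInstance
  have h5 := hL5 P₀
  rw [P₀.card_eq_multiplicity] at h5
  apply isComplement'_of_coprime
  · rw [hcardL, P.card_eq_multiplicity, hfac, pow_add, ← mul_assoc, h5, hcardG]
  · rw [hcardL, P.card_eq_multiplicity]
    exact Nat.Coprime.pow_right _ hL4

end Cfsg.Agent.Helper68
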