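/-
helper68: Bender–Glauberman Theorem 12.5(e): for `p ∈ τ₂(M)`, `A ≤ M` elementary abelian of order
`p ^ 2` and a maximal subgroup `M* ≠ M` containing `A`, `M_σ ∩ M* = 1`.  Also the fact that
`(M, A₀, A)` satisfies Hypothesis 11.1 for some `A₀ ≤ A` (from Proposition 12.4).
B&G 11.7 (`h117`) and the parts of S1414 used are hypotheses.
-/
import Cfsg.Agent.Helper68.BG124
import Cfsg.Agent.Helper24.BG11b

set_option autoImplicit false
set_option linter.style.haveILetI false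
set_option linter.unusedSectionVars false

namespace Cfsg.Agent.Helper68

open Cfsg Subgroup Cfsg.Agent.Helper22 Cfsg.Agent.Helper23 Cfsg.Agent.Helper35 Cfsg.Agent.Helper24
open scoped Pointwise

universe u

variable {G : Type u} [Group G] [Finite G]

/-- From Proposition 12.4: if `p ∉ σ(M)` and `A ≤ M` is elementary abelian of order `p ^ 2`,
then `(M, A₀, A)` satisfies Hypothesis 11.1 for some `A₀ ≤ A`, and `M` is the only maximal
subgroup containing `N_G(A₀)`. -/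
theorem bg125_exists_hyp (hG : IsMinSimpleOddOrder G) (hU : BGUniq G) (hpl : BGPLen G)
    (hβ : BGSigmaCompl G) (hnilβ : BGSigmaNil G) {p : ℕ} [Fact p.Prime] {M A : Subgroup G}
    (hM : IsCoatom M) (hpσ : p ∉ sigma M) (hAM : A ≤ M) (hA : IsElementaryAbelian p A)
    (hAc : Nat.card A = p ^ 2)
    (h117 : ∀ Ms A₀ : Subgroup G, BG11Hyp Ms A₀ A p →
      Ms ≤ normalizer ((sigmaCore Ms ⊔ A : Subgroup G) : Set G)) :
    ∃ A₀ : Subgroup G, BG11Hyp M A₀ A p ∧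
      ∀ L : Subgroup G, IsCoatom L → normalizer (A₀ : Set G) ≤ L → L = M := by
  have h := (bg124 hG hU hpl hβ hnilβ hM hAM hA hAc (bg11b_sigmaCore_ne_bot hG hU hM) h117).2
  by_contra hno
  apply hpσ
  refine (h ?_).1
  intro A₀ hA₀ hc hu
  exact hno ⟨A₀, ⟨hM, hpσ, hc, hu.1, hA₀, hA, hAc⟩, hu.2⟩

/-- **B&G Theorem 12.5(e)**: `M_σ ∩ M* = 1` for every maximal subgroup `M* ≠ M` containing `A`
(`p ∉ σ(M)`). -/
theorem bg125_sigma_inf (hG : IsMinSimpleOddOrder G) (hU : BGUniq G) (hpl : BGPLen G)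
    (hβ : BGSigmaCompl G) (hnilβ : BGSigmaNil G) {p : ℕ} [Fact p.Prime] {M Ms A : Subgroup G}
    (hM : IsCoatom M) (hpσ : p ∉ sigma M) (hAM : A ≤ M) (hA : IsElementaryAbelian p A)
    (hAc : Nat.card A = p ^ 2)
    (h117 : ∀ Ms A₀ : Subgroup G, BG11Hyp Ms A₀ A p →
      Ms ≤ normalizer ((sigmaCore Ms ⊔ A : Subgroup G) : Set G))
    (hMs : IsCoatom Ms) (hne : Ms ≠ M) (hAMs : A ≤ Ms) :
    sigmaCore M ⊓ Ms = ⊥ := by
  have hp : p.Prime := Fact.out
  obtain ⟨A₀, h11, -⟩ := bg125_exists_hyp hG hU hpl hβ hnilβ hM hpσ hAM hA hAc h117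
  have hcentA := bg11b_cent_A hG hU hpl h11
  have hTI : sigmaCore Ms ⊓ sigmaCore M = ⊥ := by
    by_contra hne'
    exact hne (bg11_sigma_uniq hG hU hpl h11 hMs hAMs hne')
  have hpM : ¬ p ∣ Nat.card (sigmaCore M) :=
    fun h => hpσ (mem_of_dvd_card_piCoreOf (sigma M) M hp h)
  rw [eq_bot_iff]
  intro x hx
  rw [← hcentA]
  refine ⟨hx.1, Subgroup.mem_centralizer_iff.mpr ?_⟩
  intro a ha
  apply bg123_comm_of_eq_one
  obtain ⟨c, hc⟩ : ∃ c : G, c = a * x * a⁻¹ * x⁻¹ := ⟨_, rfl⟩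
  rw [← hc]
  have hcM : c ∈ sigmaCore M := by
    rw [hc]
    exact mul_mem ((mem_normalizer_iff.mp (le_normalizer_piCoreOf (sigma M) M (hAM ha)) x).mp hx.1)
      (inv_mem hx.1)
  by_cases hpH : p ∈ sigma Ms
  · have haσ : a ∈ sigmaCore Ms := bg123_mem_sigmaCore hG hU hMs hpH (hAMs ha) (hA.2 a ha)
    have hcH : c ∈ sigmaCore Ms := by
      have h1 : x * a⁻¹ * x⁻¹ ∈ sigmaCore Ms :=
        (mem_normalizer_iff.mp (le_normalizer_piCoreOf (sigma Ms) Ms hx.2) a⁻¹).mp (inv_mem haσ)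
      have e : c = a * (x * a⁻¹ * x⁻¹) := by rw [hc]; group
      rw [e]
      exact mul_mem haσ h1
    have : c ∈ sigmaCore Ms ⊓ sigmaCore M := ⟨hcH, hcM⟩
    rw [hTI] at this
    exact Subgroup.mem_bot.mp this
  · obtain ⟨A₀', h11s, -⟩ := bg125_exists_hyp hG hU hpl hβ hnilβ hMs hpH hAMs hA hAc h117
    refine bg123_exc_core hG hU hpl hM hne hAM h11s (h117 Ms A₀' h11s) ha hx.2 hc hcM
      (n := Nat.card (sigmaCore M)) ?_ ?_
    · exact orderOf_dvd_iff_pow_eq_one.mp (Subgroup.orderOf_dvd_natCard _ hcM)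
    · exact ((Nat.Prime.coprime_iff_not_dvd hp).mpr hpM).symm

end Cfsg.Agent.Helper68
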