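/-
helper68: pieces KLp and non-conjugacy of the S1428 call (B&G Theorem 13.4).
-/
import Cfsg.Agent.Helper68.BG134Cop

set_option autoImplicit false
set_option linter.style.haveILetI false
set_option linter.unusedSectionVars false

namespace Cfsg.Agent.Helper68

open Cfsg Subgroup Cfsg.Agent.Helper23 Cfsg.Agent.Helper35 Cfsg.Agent.Helper22
open scoped Pointwise commutatorElement

universe u

variable {G : Type u} [Group G] [Finite G]

/-- PIECE KLp: the prime `p` does not divide the order of the normal factor `N₁` of B&G 12.15. -/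
theorem bg134_KLp (hG : IsMinSimpleOddOrder G) {M K N₁ : Subgroup G} (hK : IsCoatom K) {q : ℕ}
    (h : (q ∈ sigma K ∧ N₁ = piCoreOf (beta K) K) ∨
       (q ∉ sigma K ∧ N₁ = sigmaCore K ∧ sigmaCore K ⊓ M = ⊥))
    {p : ℕ} [Fact p.Prime] (hp : PRankLE p 2 G ∨ ¬ IsIdealPrime p G) {P₀ : Subgroup G}
    (hP₀ : Nat.card P₀ = p) (hP₀M : P₀ ≤ M) (hP₀K : P₀ ≤ K) : ¬ p ∣ Nat.card N₁ := by
  have hpp : p.Prime := Fact.out
  intro hd
  rcases h with ⟨-, rfl⟩ | ⟨-, rfl, hbot⟩
  · have hβ : p ∈ beta K := mem_of_dvd_card_piCoreOf (beta K) K hpp hd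
    rcases hp with h2 | h2
    · exact hβ.1.2 (Cfsg.Agent.Helper21.pRankLE_of_injective K.subtype K.subtype_injective h2)
    · exact h2 hβ.2
  · have hσ : p ∈ sigma K := mem_of_dvd_card_piCoreOf (sigma K) K hpp hd
    have hP₀p : IsPGroup p P₀ := IsPGroup.of_card (n := 1) (by rw [hP₀, pow_one])
    have h1 : P₀ ≤ sigmaCore K := bg12_le_sigmaCore hG (bg134_uniq hG) hK hpp hσ hP₀K hP₀p
    have h2 : P₀ ≤ sigmaCore K ⊓ M := le_inf h1 hP₀M
    rw [hbot, le_bot_iff] at h2
    rw [h2, Subgroup.card_bot] at hP₀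
    exact hpp.one_lt.ne hP₀

/-- `M` and `H` are not conjugate in a bad configuration. -/
theorem bg134_nonconj (hG : IsMinSimpleOddOrder G) {M H P R Q : Subgroup G} {p r q : ℕ}
    (hBC : BadConf M H P R Q p r q) : ∀ g : G, MulAut.conj g • M ≠ H := by
  intro g hg
  have hpp := hBC.hp.1
  haveI : Fact p.Prime := ⟨hpp⟩
  have hU := bg134_uniq hG
  by_cases hpH : p ∈ sigma H
  · have h1 := Cfsg.Agent.Helper41.bg13_sigma_conj hpH g⁻¹
    rw [← hg, map_inv, inv_smul_smul] at h1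
    exact hBC.hp.2.1 h1
  · obtain ⟨⟨-, h1⟩, -⟩ := bg10_nonsigma_normalizer hG hU hBC.hH hpH hBC.hP hBC.hNP
    apply h1
    rw [← hg]
    have e : M ≃* (MulAut.conj g • M : Subgroup G) := Subgroup.equivSMul (MulAut.conj g) M
    exact Cfsg.Agent.Helper21.pRankLE_of_injective e.symm.toMonoidHom e.symm.injective
      hBC.hp.2.2.2.2

end Cfsg.Agent.Helper68
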