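import Cfsg.Agent.Helper23.BG139D1
import Cfsg.Agent.Helper63.WardAux

set_option autoImplicit false

/-! helper68: CALL S1351A piece FS (`bg13i_fs`, pure): a Frobenius group `P R` (`R` of prime
order acting fixed-point-freely on `P` of prime order) acting on a `t`-group `T` with
`C_T(R) ≤ C_T(P)` has `P` centralizing `T`.  Route: the relative Frobenius lemma `bg13ifs_rel` in
the quotient `N(T₀)/T₀` (via `Helper23.bg139_frob_cent`), fixed points in cosets
(`Helper63.Ward.exists_fixed_in_coset_single`) and the normalizer condition. -/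

namespace Cfsg.Agent.Helper68

open Cfsg Subgroup

universe u

variable {G : Type u} [Group G] [Finite G]

/-- Relative Frobenius lemma: `x` of prime order `r` normalizes `P` (of prime order `p`) and the
`t`-group `T₁`, all normalizing `T₀`; `x` is fixed-point-free on `P` and on `T₁` modulo `T₀`.
Then `P` centralizes `T₁` modulo `T₀`. -/
theorem bg13ifs_rel (hodd : Odd (Nat.card G)) {p r t : ℕ} (hp : p.Prime) (hr : r.Prime)
    (ht : t.Prime) (hpt : p ≠ t) (hrt : r ≠ t) (hpr : p ≠ r) {T₀ T₁ P : Subgroup G} {x : G}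
    (hT₁ : IsPGroup t T₁) (hPc : Nat.card P = p) (hxr : x ^ r = 1)
    (hT₁N : T₁ ≤ normalizer (T₀ : Set G)) (hPN : P ≤ normalizer (T₀ : Set G))
    (hxN : x ∈ normalizer (T₀ : Set G))
    (hPT₁ : P ≤ normalizer (T₁ : Set G)) (hxT₁ : x ∈ normalizer (T₁ : Set G))
    (hxP : x ∈ normalizer (P : Set G)) (hPT₀ : P ⊓ T₀ = ⊥)
    (hfixP : ∀ y ∈ P, x * y = y * x → y = 1)
    (hfixT : ∀ a ∈ T₁, a⁻¹ * (x * a * x⁻¹) ∈ T₀ → a ∈ T₀) :
    ∀ c ∈ P, ∀ a ∈ T₁, a * c * a⁻¹ * c⁻¹ ∈ T₀ := by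
  classical
  set Γ : Subgroup G := normalizer (T₀ : Set G) with hΓ
  haveI hn : (T₀.subgroupOf Γ).Normal := Subgroup.normal_in_normalizer
  let π : ↥Γ →* ↥Γ ⧸ T₀.subgroupOf Γ := QuotientGroup.mk' _
  have hker : ∀ g : Γ, π g = 1 ↔ (g : G) ∈ T₀ := by
    intro g
    rw [QuotientGroup.mk'_apply, QuotientGroup.eq_one_iff, Subgroup.mem_subgroupOf]
  have hoddQ : Odd (Nat.card (↥Γ ⧸ T₀.subgroupOf Γ)) := by
    have h1 : Nat.card (↥Γ ⧸ T₀.subgroupOf Γ) ∣ Nat.card Γ :=
      Subgroup.card_quotient_dvd_card _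
    exact Odd.of_dvd_nat hodd (h1.trans (Subgroup.card_subgroup_dvd_card _))
  have hTbp : IsPGroup t ((T₁.subgroupOf Γ).map π) := (hT₁.comap_subtype).map π
  have hTbc : ∃ k : ℕ, Nat.card ((T₁.subgroupOf Γ).map π) = t ^ k := by
    haveI := Fact.mk ht
    exact (IsPGroup.iff_card.mp hTbp)
  obtain ⟨k, hk⟩ := hTbc
  have hSbc : Nat.card ((P.subgroupOf Γ).map π) ∣ p := by
    have h1 := Subgroup.card_map_dvd (H := P.subgroupOf Γ) π
    have h2 : Nat.card (P.subgroupOf Γ) = p := by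
      rw [← hPc]
      exact Nat.card_congr (Subgroup.subgroupOfEquivOfLe hPN).toEquiv
    rwa [h2] at h1
  have hrT : ¬ r ∣ Nat.card ((T₁.subgroupOf Γ).map π) := by
    rw [hk]
    intro h
    exact hrt ((Nat.prime_dvd_prime_iff_eq hr ht).mp (hr.dvd_of_dvd_pow h))
  have hrS : ¬ r ∣ Nat.card ((P.subgroupOf Γ).map π) := by
    intro h
    exact hpr ((Nat.prime_dvd_prime_iff_eq hr hp).mp (h.trans hSbc)).symm
  have hcop : (Nat.card ((T₁.subgroupOf Γ).map π)).Coprime (Nat.card ((P.subgroupOf Γ).map π)) := by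
    rw [hk]
    apply Nat.Coprime.pow_left
    apply Nat.Coprime.coprime_dvd_right hSbc
    exact (Nat.coprime_primes ht hp).mpr (Ne.symm hpt)
  -- normalizer statements
  have hnorm_map : ∀ (A : Subgroup G) (g : Γ), (g : G) ∈ normalizer (A : Set G) →
      π g ∈ normalizer (((A.subgroupOf Γ).map π : Subgroup (↥Γ ⧸ T₀.subgroupOf Γ)) : Set _) := by
    intro A g hg
    apply Subgroup.le_normalizer_map π
    refine Subgroup.mem_map_of_mem π ?_
    exact Subgroup.le_normalizer_comap (H := A) Γ.subtype hg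
  have hST : (P.subgroupOf Γ).map π ≤
      normalizer (((T₁.subgroupOf Γ).map π : Subgroup (↥Γ ⧸ T₀.subgroupOf Γ)) : Set _) := by
    rintro _ ⟨c, hc, rfl⟩
    exact hnorm_map T₁ c (hPT₁ (Subgroup.mem_subgroupOf.mp hc))
  have hxT := hnorm_map T₁ ⟨x, hxN⟩ hxT₁
  have hxS := hnorm_map P ⟨x, hxN⟩ hxP
  have hxp : (π ⟨x, hxN⟩) ^ r = 1 := by
    rw [← map_pow]
    have : (⟨x, hxN⟩ : Γ) ^ r = 1 := Subtype.ext (by simpa using hxr)
    rw [this, map_one]
  have hfT : ∀ a ∈ (T₁.subgroupOf Γ).map π, π ⟨x, hxN⟩ * a = a * π ⟨x, hxN⟩ → a = 1 := by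
    rintro _ ⟨a, ha, rfl⟩ hcomm
    rw [hker]
    apply hfixT _ (Subgroup.mem_subgroupOf.mp ha)
    have h1 : π (a⁻¹ * (⟨x, hxN⟩ * a * (⟨x, hxN⟩ : Γ)⁻¹)) = 1 := by
      rw [map_mul, map_mul, map_mul, map_inv, map_inv, hcomm]
      group
    exact (hker _).mp h1
  have hfS : ∀ a ∈ (P.subgroupOf Γ).map π, π ⟨x, hxN⟩ * a = a * π ⟨x, hxN⟩ → a = 1 := by
    rintro _ ⟨c, hc, rfl⟩ hcomm
    have hcP : (c : G) ∈ P := Subgroup.mem_subgroupOf.mp hc
    have h1 : π (c⁻¹ * (⟨x, hxN⟩ * c * (⟨x, hxN⟩ : Γ)⁻¹)) = 1 := by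
      rw [map_mul, map_mul, map_mul, map_inv, map_inv, hcomm]
      group
    have h2 : (c : G)⁻¹ * (x * c * x⁻¹) ∈ T₀ := (hker _).mp h1
    have h3 : (c : G)⁻¹ * (x * c * x⁻¹) ∈ P :=
      P.mul_mem (P.inv_mem hcP) ((mem_normalizer_iff.mp hxP _).mp hcP)
    have h4 : (c : G)⁻¹ * (x * c * x⁻¹) = 1 := by
      have : (c : G)⁻¹ * (x * c * x⁻¹) ∈ P ⊓ T₀ := ⟨h3, h2⟩
      rwa [hPT₀, Subgroup.mem_bot] at this
    have h5 : x * (c : G) = c * x := by
      have : x * (c : G) * x⁻¹ = c := by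
        have := congrArg (fun z => (c : G) * z) h4
        simpa [mul_assoc] using this
      calc x * (c : G) = x * c * x⁻¹ * x := by group
        _ = c * x := by rw [this]
    have h6 : (c : G) = 1 := hfixP _ hcP h5
    have : c = 1 := Subtype.ext h6
    rw [this, map_one]
  have hTnil : Group.IsNilpotent ↥((T₁.subgroupOf Γ).map π) := by
    haveI := Fact.mk ht
    exact hTbp.isNilpotent
  have hcent := Cfsg.Agent.Helper23.bg139_frob_cent hoddQ hr hTnil hST hxT hxS hxp hrT hrS hcop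
    hfT hfS
  intro c hc a ha
  have hcΓ : c ∈ Γ := hPN hc
  have haΓ : a ∈ Γ := hT₁N ha
  have h1 : π ⟨a, haΓ⟩ ∈ (T₁.subgroupOf Γ).map π :=
    Subgroup.mem_map_of_mem π (Subgroup.mem_subgroupOf.mpr ha)
  have h2 : π ⟨c, hcΓ⟩ ∈ (P.subgroupOf Γ).map π :=
    Subgroup.mem_map_of_mem π (Subgroup.mem_subgroupOf.mpr hc)
  have h3 : π ⟨c, hcΓ⟩ * π ⟨a, haΓ⟩ = π ⟨a, haΓ⟩ * π ⟨c, hcΓ⟩ :=
    (mem_centralizer_iff.mp (hcent h1)) _ h2
  have h4 : π (⟨a, haΓ⟩ * ⟨c, hcΓ⟩ * (⟨a, haΓ⟩ : Γ)⁻¹ * (⟨c, hcΓ⟩ : Γ)⁻¹) = 1 := by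
    rw [map_mul, map_mul, map_mul, map_inv, map_inv, ← h3]
    group
  exact (hker _).mp h4

omit [Finite G] in
theorem bg13ifs_mem_normalizer {X : Subgroup G} {g : G} (h1 : ∀ n ∈ X, g * n * g⁻¹ ∈ X)
    (h2 : ∀ n ∈ X, g⁻¹ * n * g ∈ X) : g ∈ normalizer (X : Set G) := by
  rw [mem_normalizer_iff]
  intro n
  refine ⟨h1 n, fun h => ?_⟩
  have := h2 _ h
  have e : g⁻¹ * (g * n * g⁻¹) * g = n := by group
  rwa [e] at this

omit [Finite G] in
theorem bg13ifs_norm_inf {A B : Subgroup G} {g : G} (hA : g ∈ normalizer (A : Set G))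
    (hB : g ∈ normalizer (B : Set G)) : g ∈ normalizer ((A ⊓ B : Subgroup G) : Set G) := by
  have key : ∀ f : G, f ∈ normalizer (A : Set G) → f ∈ normalizer (B : Set G) →
      ∀ n ∈ A ⊓ B, f * n * f⁻¹ ∈ A ⊓ B := fun f hfA hfB n hn =>
    ⟨(mem_normalizer_iff.mp hfA n).mp hn.1, (mem_normalizer_iff.mp hfB n).mp hn.2⟩
  refine bg13ifs_mem_normalizer (key g hA hB) (fun n hn => ?_)
  have := key g⁻¹ (inv_mem hA) (inv_mem hB) n hn
  simpa using this

omit [Finite G] in
theorem bg13ifs_norm_cent {A : Subgroup G} {g : G} (hA : g ∈ normalizer (A : Set G)) :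
    g ∈ normalizer ((centralizer (A : Set G) : Subgroup G) : Set G) := by
  have key : ∀ f : G, f ∈ normalizer (A : Set G) → ∀ n ∈ centralizer (A : Set G),
      f * n * f⁻¹ ∈ centralizer (A : Set G) := by
    intro f hf n hn
    rw [mem_centralizer_iff] at hn ⊢
    intro y hy
    have hy' : f⁻¹ * y * f ∈ A := by
      have := (mem_normalizer_iff.mp (inv_mem hf) y).mp hy
      simpa using this
    have h := hn _ hy'
    calc y * (f * n * f⁻¹) = f * ((f⁻¹ * y * f) * n) * f⁻¹ := by group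
      _ = f * (n * (f⁻¹ * y * f)) * f⁻¹ := by rw [h]
      _ = f * n * f⁻¹ * y := by group
  refine bg13ifs_mem_normalizer (key g hA) (fun n hn => ?_)
  have := key g⁻¹ (inv_mem hA) n hn
  simpa using this

omit [Finite G] in
theorem bg13ifs_norm_norm {A : Subgroup G} {g : G} (hA : g ∈ normalizer (A : Set G)) :
    g ∈ normalizer ((normalizer (A : Set G) : Subgroup G) : Set G) :=
  bg13ifs_mem_normalizer (fun _ hn => mul_mem (mul_mem hA hn) (inv_mem hA))
    (fun _ hn => mul_mem (mul_mem (inv_mem hA) hn) hA)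

/-- PIECE FS of CALL S1351A. `T` a `t`-group, `P` of prime order `p`, `R` of prime order `r`,
`p, r, t` distinct, `P R` acts on `T`, `R` normalizes `P` and is fixed-point-free on `P`; if every
fixed point of `R` on `T` is centralized by `P` then `P` centralizes `T`. -/
theorem bg13i_fs (hodd : Odd (Nat.card G)) {p r t : ℕ} (hp : p.Prime) (hr : r.Prime)
    (ht : t.Prime) (hpt : p ≠ t) (hrt : r ≠ t) (hpr : p ≠ r) {T P R : Subgroup G}
    (hT : IsPGroup t T) (hPc : Nat.card P = p) (hRc : Nat.card R = r)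
    (hPT : P ≤ normalizer (T : Set G)) (hRT : R ≤ normalizer (T : Set G))
    (hRP : R ≤ normalizer (P : Set G)) (hfixP : P ⊓ centralizer (R : Set G) = ⊥)
    (hfixT : T ⊓ centralizer (R : Set G) ≤ centralizer (P : Set G)) :
    T ≤ centralizer (P : Set G) := by
  classical
  haveI := Fact.mk hr
  haveI := Fact.mk ht
  -- a generator `x` of `R`
  have hRcyc : IsCyclic ↥R := isCyclic_of_prime_card (p := r) hRc
  obtain ⟨g, hg⟩ := hRcyc.exists_generator
  have hxR : (g : G) ∈ R := g.2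
  have hxr : (g : G) ^ r = 1 := by
    have h1 : g ^ Nat.card ↥R = 1 := pow_card_eq_one'
    rw [hRc] at h1
    have := congrArg Subtype.val h1
    simpa using this
  have hcentR : ∀ z : G, (g : G) * z = z * (g : G) → z ∈ centralizer (R : Set G) := by
    intro z hz
    rw [mem_centralizer_iff]
    intro y hy
    obtain ⟨k, hk⟩ := Subgroup.mem_zpowers_iff.mp (hg ⟨y, hy⟩)
    have hyk : y = (g : G) ^ k := by
      have := congrArg Subtype.val hk
      simpa using this.symm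
    rw [hyk]
    have hcomm : Commute ((g : G) ^ k) z := Commute.zpow_left hz k
    exact hcomm.eq
  by_contra hne
  have hlt : T ⊓ centralizer (P : Set G) < T :=
    lt_of_le_of_ne inf_le_left (fun h => hne (h ▸ inf_le_right))
  -- normalizer condition in the nilpotent group `T`
  haveI hTnil : Group.IsNilpotent ↥T := hT.isNilpotent
  have hNC := Group.normalizerCondition_of_isNilpotent (G := ↥T)
  have h1 : (T ⊓ centralizer (P : Set G)).subgroupOf T < ⊤ := by
    rw [lt_top_iff_ne_top]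
    intro h
    rw [Subgroup.subgroupOf_eq_top] at h
    exact hlt.not_ge h
  have h2 := hNC _ h1
  obtain ⟨a, haN, haT₀⟩ := SetLike.exists_of_lt h2
  have haT : (a : G) ∈ T := a.2
  have haT₀' : (a : G) ∉ T ⊓ centralizer (P : Set G) := fun h =>
    haT₀ (Subgroup.mem_subgroupOf.mpr h)
  have haN' : (a : G) ∈ normalizer ((T ⊓ centralizer (P : Set G) : Subgroup G) : Set G) := by
    rw [mem_normalizer_iff] at haN ⊢
    intro n
    constructor
    · intro hn
      have := (haN ⟨n, hn.1⟩).mp (Subgroup.mem_subgroupOf.mpr hn)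
      exact Subgroup.mem_subgroupOf.mp this
    · intro hn
      have hnT : n ∈ T := by
        have e : n = (a : G)⁻¹ * ((a : G) * n * (a : G)⁻¹) * (a : G) := by group
        rw [e]
        exact T.mul_mem (T.mul_mem (T.inv_mem haT) hn.1) haT
      have := (haN ⟨n, hnT⟩).mpr (Subgroup.mem_subgroupOf.mpr hn)
      exact Subgroup.mem_subgroupOf.mp this
  -- the normalizing facts
  have hPP : ∀ c ∈ P, c ∈ normalizer (P : Set G) := fun c hc => Subgroup.le_normalizer hc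
  have hPT₀N : P ≤ normalizer ((T ⊓ centralizer (P : Set G) : Subgroup G) : Set G) :=
    fun c hc => bg13ifs_norm_inf (hPT hc) (bg13ifs_norm_cent (hPP c hc))
  have hxT₀N : (g : G) ∈ normalizer ((T ⊓ centralizer (P : Set G) : Subgroup G) : Set G) :=
    bg13ifs_norm_inf (hRT hxR) (bg13ifs_norm_cent (hRP hxR))
  have hPT₁N : P ≤ normalizer ((T ⊓ normalizer ((T ⊓ centralizer (P : Set G) : Subgroup G) :
      Set G) : Subgroup G) : Set G) :=
    fun c hc => bg13ifs_norm_inf (hPT hc) (bg13ifs_norm_norm (hPT₀N hc))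
  have hxT₁N : (g : G) ∈ normalizer ((T ⊓ normalizer ((T ⊓ centralizer (P : Set G) :
      Subgroup G) : Set G) : Subgroup G) : Set G) :=
    bg13ifs_norm_inf (hRT hxR) (bg13ifs_norm_norm hxT₀N)
  -- `P ⊓ T = ⊥`
  have hPT0 : ∀ z : G, z ∈ P → z ∈ T → z = 1 := by
    intro z hzP hzT
    obtain ⟨j, hj⟩ := hT ⟨z, hzT⟩
    have hj' : z ^ t ^ j = 1 := by
      have := congrArg Subtype.val hj
      simpa using this
    have hzp : z ^ p = 1 := by
      have h1 : (⟨z, hzP⟩ : P) ^ Nat.card ↥P = 1 := pow_card_eq_one'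
      rw [hPc] at h1
      have := congrArg Subtype.val h1
      simpa using this
    have hgcd := pow_gcd_eq_one.mpr ⟨hzp, hj'⟩
    have hcop : Nat.gcd p (t ^ j) = 1 :=
      Nat.Coprime.pow_right j ((Nat.coprime_primes hp ht).mpr hpt)
    rwa [hcop, pow_one] at hgcd
  have hPT₀ : P ⊓ (T ⊓ centralizer (P : Set G)) = ⊥ := by
    rw [eq_bot_iff]
    intro z hz
    rw [Subgroup.mem_bot]
    exact hPT0 z hz.1 hz.2.1
  have hfP : ∀ y ∈ P, (g : G) * y = y * (g : G) → y = 1 := by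
    intro y hy hcomm
    have : y ∈ P ⊓ centralizer (R : Set G) := ⟨hy, hcentR y hcomm⟩
    rwa [hfixP, Subgroup.mem_bot] at this
  have hT₁p : IsPGroup t ↥(T ⊓ normalizer ((T ⊓ centralizer (P : Set G) : Subgroup G) : Set G)) :=
    hT.to_le inf_le_left
  -- fixed points modulo `T₀`
  have hfT : ∀ b ∈ T ⊓ normalizer ((T ⊓ centralizer (P : Set G) : Subgroup G) : Set G),
      b⁻¹ * ((g : G) * b * (g : G)⁻¹) ∈ T ⊓ centralizer (P : Set G) →
      b ∈ T ⊓ centralizer (P : Set G) := by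
    intro b hb hb2
    have hψ : (MulAut.conj (g : G)) ^ r = 1 := by
      rw [← map_pow, hxr, map_one]
    have hrN : ¬ r ∣ Nat.card ↥(T ⊓ centralizer (P : Set G)) := by
      obtain ⟨j, hj⟩ := IsPGroup.iff_card.mp (hT.to_le (inf_le_left (b := centralizer (P : Set G))))
      rw [hj]
      intro h
      exact hrt ((Nat.prime_dvd_prime_iff_eq hr ht).mp (hr.dvd_of_dvd_pow h))
    have hNψ : ∀ n ∈ T ⊓ centralizer (P : Set G),
        (MulAut.conj (g : G)) n ∈ T ⊓ centralizer (P : Set G) := by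
      intro n hn
      rw [MulAut.conj_apply]
      exact (mem_normalizer_iff.mp hxT₀N n).mp hn
    obtain ⟨w, hw1, hw2⟩ := Cfsg.Agent.Helper63.Ward.exists_fixed_in_coset_single
      (MulAut.conj (g : G)) hψ (T ⊓ centralizer (P : Set G)) hrN hNψ b
      (by rw [MulAut.conj_apply]; exact hb2)
    rw [MulAut.conj_apply] at hw2
    have hwx : (g : G) * w = w * (g : G) := by
      calc (g : G) * w = (g : G) * w * (g : G)⁻¹ * (g : G) := by group
        _ = w * (g : G) := by rw [hw2]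
    have hwT : w ∈ T := by
      have e : w = b * (b⁻¹ * w) := by group
      rw [e]
      exact T.mul_mem hb.1 hw1.1
    have hwP : w ∈ centralizer (P : Set G) := hfixT ⟨hwT, hcentR w hwx⟩
    have e : b = w * (b⁻¹ * w)⁻¹ := by group
    rw [e]
    exact mul_mem ⟨hwT, hwP⟩ (inv_mem hw1)
  have hrel := bg13ifs_rel hodd hp hr ht hpt hrt hpr hT₁p hPc hxr inf_le_right hPT₀N hxT₀N
    hPT₁N hxT₁N (hRP hxR) hPT₀ hfP hfT
  -- `a` centralizes `P`
  apply haT₀'
  refine ⟨haT, ?_⟩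
  show (a : G) ∈ centralizer (P : Set G)
  rw [mem_centralizer_iff]
  intro c hc
  have hz := hrel c hc (a : G) ⟨haT, haN'⟩
  have hzc : Commute ((a : G) * c * (a : G)⁻¹ * c⁻¹) c :=
    ((mem_centralizer_iff.mp hz.2) c hc).symm
  have hcp : c ^ p = 1 := by
    have h1 : (⟨c, hc⟩ : P) ^ Nat.card ↥P = 1 := pow_card_eq_one'
    rw [hPc] at h1
    have := congrArg Subtype.val h1
    simpa using this
  have hzp : ((a : G) * c * (a : G)⁻¹ * c⁻¹) ^ p = 1 := by
    have e1 : (a : G) * c * (a : G)⁻¹ = ((a : G) * c * (a : G)⁻¹ * c⁻¹) * c := by group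
    have e2 : ((a : G) * c * (a : G)⁻¹) ^ p = 1 := by
      rw [conj_pow, hcp]
      group
    rw [e1, hzc.mul_pow, hcp, mul_one] at e2
    exact e2
  obtain ⟨j, hj⟩ := hT ⟨_, hz.1⟩
  have hj' : ((a : G) * c * (a : G)⁻¹ * c⁻¹) ^ t ^ j = 1 := by
    have := congrArg Subtype.val hj
    simpa using this
  have hgcd := pow_gcd_eq_one.mpr ⟨hzp, hj'⟩
  have hcop : Nat.gcd p (t ^ j) = 1 :=
    Nat.Coprime.pow_right j ((Nat.coprime_primes hp ht).mpr hpt)
  rw [hcop, pow_one] at hgcd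
  calc c * (a : G) = ((a : G) * c * (a : G)⁻¹ * c⁻¹)⁻¹ * ((a : G) * c) := by group
    _ = (a : G) * c := by rw [hgcd]; group

end Cfsg.Agent.Helper68
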