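import Mathlib
import Cfsg.Agent.Helper35.Burnside

/-!
# Burnside's lemma in subgroup form (for B&G 3.6 / S1444, step R2)

A `p'`-subgroup `A` normalizing the `p`-group `P` with `⁅P, A⁆ ≤ Φ(P)` centralizes `P`.
-/

set_option autoImplicit false

namespace Cfsg.Agent.Helper68

open Subgroup
open scoped commutatorElement

/-- **Burnside**, subgroup form: if the `p'`-group `A` normalizes the `p`-group `P` and
`⁅P, A⁆ ≤ Φ(P)`, then `A` centralizes `P`. -/
theorem bg36_burnside {X : Type*} [Group X] [Finite X] (p : ℕ) [Fact p.Prime]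
    {P A : Subgroup X} (hP : IsPGroup p ↥P) (hAP : A ≤ normalizer (P : Set X))
    (hcop : (Nat.card ↥A).Coprime p)
    (hF : ⁅P, A⁆ ≤ (frattini ↥P).map P.subtype) :
    A ≤ centralizer (P : Set X) := by
  intro a ha
  refine Subgroup.mem_centralizer_iff.mpr ?_
  intro y hy
  have hord : (orderOf a).Coprime p := by
    have h1 : orderOf a ∣ Nat.card ↥A := by
      have := orderOf_dvd_natCard (⟨a, ha⟩ : ↥A)
      rwa [Subgroup.orderOf_mk] at this
    exact Nat.Coprime.coprime_dvd_left h1 hcop
  have key := Cfsg.Agent.Helper35.centralizes_of_coprime_of_frattini hP (hAP ha) hord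
    (fun z hz => by
      have h1 : ⁅z, a⁆ ∈ (frattini ↥P).map P.subtype := hF (Subgroup.commutator_mem_commutator hz ha)
      have h2 := Subgroup.inv_mem _ h1
      have e : (⁅z, a⁆)⁻¹ = a * z * a⁻¹ * z⁻¹ := by rw [commutatorElement_def]; group
      rwa [e] at h2) y hy
  exact key.symm

/-- Variant with the conclusion `⁅P, A⁆ = ⊥`. -/
theorem bg36_burnside_commutator {X : Type*} [Group X] [Finite X] (p : ℕ) [Fact p.Prime]
    {P A : Subgroup X} (hP : IsPGroup p ↥P) (hAP : A ≤ normalizer (P : Set X))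
    (hcop : (Nat.card ↥A).Coprime p)
    (hF : ⁅P, A⁆ ≤ (frattini ↥P).map P.subtype) :
    ⁅P, A⁆ = ⊥ := by
  have h := bg36_burnside p hP hAP hcop hF
  rw [Subgroup.commutator_eq_bot_iff_le_centralizer]
  intro y hy
  refine Subgroup.mem_centralizer_iff.mpr ?_
  intro a ha
  exact (Subgroup.mem_centralizer_iff.mp (h ha) y hy).symm

end Cfsg.Agent.Helper68
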