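/-
helper68: CALL BG36 (helper2, row S1436), piece P3.
`bg36_p_kappa`: S1432 in `N` for `(g z g⁻¹, g a₁ g⁻¹)`.
-/
import Mathlib
import Cfsg.Agent.S1432

set_option autoImplicit false

namespace Cfsg.Agent.Helper68

open Cfsg Subgroup

universe u

variable {G : Type u} [Group G] [Finite G]

/-- PIECE P3: S1432 in `N` for `(g z g⁻¹, g a₁ g⁻¹)`: the alternative `C_G(g a₁ g⁻¹) ≤ N` would
give `g A g⁻¹ ≤ N`; so `p ∈ κ(N)`.  Also `z` does not centralize `A`. -/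
theorem bg36_p_kappa (hG : IsMinSimpleOddOrder G) {N : Subgroup G} (hN : IsCoatom N) {p : ℕ}
    (hp : p.Prime) (hpσN : p ∉ sigma N) {A : Subgroup G} (hAel : IsElementaryAbelian p A)
    {z g a₁ : G} (hz1 : z ≠ 1) (hgσ : g * z * g⁻¹ ∈ sigmaCore N)
    (hgC : centralizer ({g * z * g⁻¹} : Set G) ≤ N)
    (hnle : ¬ A.map (MulAut.conj g).toMonoidHom ≤ N)
    (ha₁ : a₁ ∈ A) (ha₁1 : a₁ ≠ 1) (hza₁ : z * a₁ = a₁ * z) :
    p ∈ kappa N ∧ ¬ ∀ a ∈ A, z * a = a * z := by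
  classical
  -- conjugates of commuting elements commute
  have hconj : ∀ u v : G, u * v = v * u → (g * u * g⁻¹) * (g * v * g⁻¹) = (g * v * g⁻¹) * (g * u * g⁻¹) := by
    intro u v h
    have e1 : (g * u * g⁻¹) * (g * v * g⁻¹) = g * (u * v) * g⁻¹ := by group
    have e2 : (g * v * g⁻¹) * (g * u * g⁻¹) = g * (v * u) * g⁻¹ := by group
    rw [e1, e2, h]
  have hmemC : ∀ u v : G, u * v = v * u → g * v * g⁻¹ ∈ centralizer ({g * u * g⁻¹} : Set G) := by
    intro u v h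
    rw [mem_centralizer_iff]
    intro t ht
    rw [Set.mem_singleton_iff] at ht
    rw [ht]
    exact hconj u v h
  have hsecond : ¬ ∀ a ∈ A, z * a = a * z := by
    intro h
    apply hnle
    rintro _ ⟨a, ha, rfl⟩
    apply hgC
    have := hmemC z a (h a ha)
    simpa [MulAut.conj_apply] using this
  refine ⟨?_, hsecond⟩
  have hx1 : g * z * g⁻¹ ≠ 1 := by
    intro h
    apply hz1
    have h3 : g⁻¹ * (g * z * g⁻¹) * g = z := by group
    rw [← h3, h]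
    group
  have hx'1 : g * a₁ * g⁻¹ ≠ 1 := by
    intro h
    apply ha₁1
    have h3 : g⁻¹ * (g * a₁ * g⁻¹) * g = a₁ := by group
    rw [← h3, h]
    group
  have hx'C : g * a₁ * g⁻¹ ∈ centralizer ({g * z * g⁻¹} : Set G) := hmemC z a₁ hza₁
  have hx'p : (g * a₁ * g⁻¹) ^ p = 1 := by
    have e : (g * a₁ * g⁻¹) ^ p = g * a₁ ^ p * g⁻¹ := by
      rw [conj_pow]
    rw [e, hAel.2 a₁ ha₁]
    group
  have hord : orderOf (g * a₁ * g⁻¹) = p :=
    ((Nat.dvd_prime hp).mp (orderOf_dvd_of_pow_eq_one hx'p)).resolve_left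
      (fun h => hx'1 (orderOf_eq_one_iff.mp h))
  have hσ : ∀ r : ℕ, r.Prime → r ∣ orderOf (g * a₁ * g⁻¹) → r ∉ sigma N := by
    intro r hr hrd
    rw [hord] at hrd
    rw [(Nat.prime_dvd_prime_iff_eq hr hp).mp hrd]
    exact hpσN
  rcases Cfsg.Agent.S1432.result hG N hN (g * z * g⁻¹) hgσ hx1 (g * a₁ * g⁻¹)
    ⟨hgC hx'C, hx'C⟩ hx'1 hσ with h | h
  · exact h.1 p hp (by rw [hord])
  · exfalso
    apply hnle
    rintro _ ⟨a, ha, rfl⟩
    apply h.2.2.1
    have hc : a₁ * a = a * a₁ := by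
      have h := hAel.1.is_comm.comm (⟨a₁, ha₁⟩ : A) ⟨a, ha⟩
      exact congrArg Subtype.val h
    have := hmemC a₁ a hc
    simpa [MulAut.conj_apply] using this

end Cfsg.Agent.Helper68
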