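/-
helper68: CALL BG36 (helper2, row S1436), piece T6.
`bg36_exists_A`: `p ∈ τ₂(M)` gives an elementary abelian subgroup of order `p ^ 2` inside some
complement `E` of `M_σ` in `M`.
-/
import Mathlib
import Cfsg.Agent.S1403
import Cfsg.Agent.Helper20.BG13P4
import Cfsg.Agent.Helper23.Trans

set_option autoImplicit false

namespace Cfsg.Agent.Helper68

open Cfsg Subgroup

universe u

variable {G : Type u} [Group G] [Finite G]

/-- PIECE T6: `p ∈ τ₂(M)` gives an `E_{p²}` inside some complement `E` of `M_σ`. -/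
theorem bg36_exists_A (hG : IsMinSimpleOddOrder G) {M : Subgroup G} (hM : IsCoatom M) {p : ℕ}
    (hp : p ∈ tau2 M) :
    ∃ E A : Subgroup G, IsComplIn E (sigmaCore M) M ∧ A ≤ E ∧ IsElementaryAbelian p A ∧
      Nat.card A = p ^ 2 := by
  classical
  have hU : Cfsg.Agent.Helper22.BGUniq G :=
    fun K hK h1 h2 => Cfsg.Agent.S1403.result hG K hK h1 h2
  obtain ⟨hpp, hpσ, h2, h1⟩ := hp
  have : Fact p.Prime := ⟨hpp⟩
  unfold PRankLE at h1
  push Not at h1
  obtain ⟨A₀, hA₀c, hA₀e, hA₀lt⟩ := h1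
  have hle := h2 A₀ hA₀c hA₀e
  have hpg : IsPGroup p ↥A₀ := by
    intro a
    refine ⟨1, ?_⟩
    rw [pow_one]
    apply Subtype.ext
    rw [Subgroup.coe_pow]
    exact hA₀e a a.2
  obtain ⟨n, hn⟩ := hpg.exists_card_eq
  have hn2 : n = 2 := by
    rw [hn] at hle hA₀lt
    have h1 : 1 < n := (Nat.pow_lt_pow_iff_right hpp.one_lt).mp hA₀lt
    have h2 : n ≤ 2 := (Nat.pow_le_pow_iff_right hpp.one_lt).mp hle
    omega
  obtain ⟨A, hA⟩ : ∃ A : Subgroup G, A = A₀.map M.subtype := ⟨_, rfl⟩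
  have hAM : A ≤ M := by rw [hA]; exact Subgroup.map_subtype_le A₀
  have hAc : Nat.card A = p ^ 2 := by
    rw [hA, Subgroup.card_map_of_injective M.subtype_injective, hn, hn2]
  have hcop : (Nat.card A).Coprime (Nat.card (sigmaCore M)) := by
    rw [hAc]
    apply Nat.Coprime.pow_left
    rw [Nat.Prime.coprime_iff_not_dvd hpp]
    intro hd
    exact hpσ (Cfsg.Agent.Helper23.mem_of_dvd_card_piCoreOf _ _ hpp hd)
  obtain ⟨E, hE, hAE⟩ := Cfsg.Agent.Helper20.bg13_exists_compl_ge hG hU hM hAM hcop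
  refine ⟨E, A, hE, hAE, ⟨?_, ?_⟩, hAc⟩
  · rw [hA]
    have := hA₀c
    exact Subgroup.map_isMulCommutative A₀ M.subtype
  · intro a ha
    rw [hA] at ha
    obtain ⟨a₀, ha₀, rfl⟩ := ha
    have := hA₀e a₀ ha₀
    have h3 := congrArg (M.subtype) this
    simpa using h3

end Cfsg.Agent.Helper68
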