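/-
Helper library of seat helper68: finite groups in which the centralizer of every
non-central element is a maximal subgroup.  Centerless case.
-/
import Mathlib
import Cfsg.Agent.Helper29.FrobConj
import Cfsg.Agent.Helper21.Coprime
import Cfsg.Agent.Helper35.SZ

set_option autoImplicit false

namespace Cfsg.Agent.Helper68

open Subgroup
open scoped Pointwise

/-- Every nonidentity element has a maximal subgroup as its centralizer. -/
def MaxCent (H : Type*) [Group H] : Prop :=
  ∀ x : H, x ≠ 1 → IsCoatom (centralizer ({x} : Set H))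

section MaxCent

variable {H : Type*} [Group H]

theorem MaxCent.eq_of_le (h : MaxCent H) {x y : H} (hx : x ≠ 1) (hy : y ≠ 1)
    (hle : centralizer ({x} : Set H) ≤ centralizer ({y} : Set H)) :
    centralizer ({y} : Set H) = centralizer ({x} : Set H) := by
  rcases (h x hx).le_iff.mp hle with h1 | h1
  · exact absurd h1 (h y hy).1
  · exact h1

theorem MaxCent.eq_of_le' (h : MaxCent H) {x : H} (hx : x ≠ 1) {K : Subgroup H} (hK : K ≠ ⊤)
    (hle : centralizer ({x} : Set H) ≤ K) : K = centralizer ({x} : Set H) := by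
  rcases (h x hx).le_iff.mp hle with h1 | h1
  · exact absurd h1 hK
  · exact h1

/-- Structure of a centerless group with maximal centralizers, given one nonidentity element
whose centralizer is abelian and normal. -/
theorem MaxCent.structure [Finite H] (h : MaxCent H) (hZ : center H = ⊥)
    (x₀ : H) (hx₀ : x₀ ≠ 1) (hn : (centralizer ({x₀} : Set H)).Normal)
    (hab : ∀ a ∈ centralizer ({x₀} : Set H), ∀ b ∈ centralizer ({x₀} : Set H), a * b = b * a) :
    (∃ a b : H, a * b ≠ b * a) ∧
    (∀ S : Subgroup H, S ≠ ⊤ → ∀ a ∈ S, ∀ b ∈ S, a * b = b * a) ∧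
    (∃ t : H, centralizer ({x₀} : Set H) ⊔ zpowers t = ⊤) ∧
    ∃ p q a : ℕ, p.Prime ∧ q.Prime ∧ p ≠ q ∧ Nat.card H = p ^ a * q ∧
      ∀ P : Subgroup H, Nat.card P = p ^ a → P.Normal := by
  classical
  have hx₀M : x₀ ∈ centralizer ({x₀} : Set H) := Subgroup.mem_centralizer_singleton_iff.mpr rfl
  have hMco : IsCoatom (centralizer ({x₀} : Set H)) := h x₀ hx₀
  have h1 : ∀ y ∈ centralizer ({x₀} : Set H), y ≠ 1 →
      centralizer ({y} : Set H) = centralizer ({x₀} : Set H) := by
    intro y hy hy1
    apply h.eq_of_le hx₀ hy1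
    intro m hm
    rw [Subgroup.mem_centralizer_singleton_iff]
    exact hab m hm y hy
  generalize hM : centralizer ({x₀} : Set H) = M at hn hab hx₀M hMco h1
  obtain ⟨t, ht⟩ : ∃ t : H, t ∉ M := by
    by_contra hcon
    exact hMco.1 (eq_top_iff.mpr fun g _ => by
      by_contra hg
      exact hcon ⟨g, hg⟩)
  have ht1 : t ≠ 1 := fun h1' => ht (h1' ▸ M.one_mem)
  have htT : t ∈ centralizer ({t} : Set H) := Subgroup.mem_centralizer_singleton_iff.mpr rfl
  have hMT : M ⊓ centralizer ({t} : Set H) = ⊥ := by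
    rw [eq_bot_iff]
    intro y hy
    rw [Subgroup.mem_bot]
    by_contra hy1
    have hc := h1 y hy.1 hy1
    have hyt : y * t = t * y := Subgroup.mem_centralizer_singleton_iff.mp hy.2
    have : t ∈ centralizer ({y} : Set H) := Subgroup.mem_centralizer_singleton_iff.mpr hyt.symm
    rw [hc] at this
    exact ht this
  have hMsupT : M ⊔ centralizer ({t} : Set H) = ⊤ := by
    rcases hMco.le_iff.mp (le_sup_left : M ≤ M ⊔ centralizer ({t} : Set H)) with h2 | h2
    · exact h2
    · exact absurd (h2 ▸ (le_sup_right : centralizer ({t} : Set H) ≤ M ⊔ centralizer ({t} : Set H)) htT) ht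
  have hTco : IsCoatom (centralizer ({t} : Set H)) := h t ht1
  generalize hT : centralizer ({t} : Set H) = T at htT hMT hMsupT hTco
  have hcard : Nat.card M * Nat.card T = Nat.card H :=
    (Cfsg.Agent.Helper35.isComplement'_of_normal hMT hMsupT).card_mul_card
  have hMpos : 0 < Nat.card M := Nat.card_pos
  have hTne1 : Nat.card T ≠ 1 := by
    intro hc
    have := Subgroup.card_eq_one.mp hc
    rw [this, Subgroup.mem_bot] at htT
    exact ht1 htT
  -- a general bound: a normal subgroup D ≤ M that is not trivial is all of M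
  have key : ∀ D : Subgroup H, D.Normal → D ≤ M → D ≠ ⊥ → D = M := by
    intro D hDn hDM hD
    have hDT : D ⊓ T = ⊥ := by
      rw [eq_bot_iff, ← hMT]
      exact inf_le_inf_right T hDM
    have hsup : D ⊔ T = ⊤ := by
      rcases hTco.le_iff.mp (le_sup_right : T ≤ D ⊔ T) with h2 | h2
      · exact h2
      · exfalso
        have hle : D ≤ T := h2 ▸ (le_sup_left : D ≤ D ⊔ T)
        exact hD (by rw [eq_bot_iff, ← hDT]; exact le_inf le_rfl hle)
    have hc2 : Nat.card D * Nat.card T = Nat.card H :=
      (Cfsg.Agent.Helper35.isComplement'_of_normal hDT hsup).card_mul_card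
    have hTpos : 0 < Nat.card T := Nat.card_pos
    have : Nat.card D = Nat.card M := by
      have := hc2.trans hcard.symm
      exact Nat.eq_of_mul_eq_mul_right hTpos this
    exact Subgroup.eq_of_le_of_card_ge hDM this.ge
  -- the order of T is a prime
  have hTprime : (Nat.card T).Prime := by
    have hr : (Nat.card T).minFac.Prime := Nat.minFac_prime hTne1
    have := Fact.mk hr
    obtain ⟨⟨t', ht'T⟩, ht'o⟩ := exists_prime_orderOf_dvd_card' (G := T) (Nat.card T).minFac
      (Nat.minFac_dvd _)
    rw [Subgroup.orderOf_mk] at ht'o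
    have ht'1 : t' ≠ 1 := by
      intro h'
      rw [h', orderOf_one] at ht'o
      exact hr.one_lt.ne ht'o
    have ht'M : t' ∉ M := by
      intro h'
      have : t' ∈ M ⊓ T := ⟨h', ht'T⟩
      rw [hMT, Subgroup.mem_bot] at this
      exact ht'1 this
    have hsup : M ⊔ zpowers t' = ⊤ := by
      rcases hMco.le_iff.mp (le_sup_left : M ≤ M ⊔ zpowers t') with h2 | h2
      · exact h2
      · exact absurd (h2 ▸ (le_sup_right : zpowers t' ≤ M ⊔ zpowers t') (Subgroup.mem_zpowers t')) ht'M
    have hdvd : Nat.card ↥(M ⊔ zpowers t') ∣ Nat.card M * Nat.card (zpowers t') :=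
      Cfsg.Agent.Helper21.card_sup_dvd (by rw [Subgroup.normalizer_eq_top]; exact le_top)
    rw [hsup, Nat.card_zpowers, ht'o] at hdvd
    have hc3 : Nat.card (⊤ : Subgroup H) = Nat.card H := Subgroup.card_top
    rw [hc3, ← hcard] at hdvd
    have h3 : Nat.card T ∣ (Nat.card T).minFac := Nat.dvd_of_mul_dvd_mul_left hMpos hdvd
    rcases hr.eq_one_or_self_of_dvd _ h3 with h4 | h4
    · exact absurd h4 hTne1
    · rw [h4]; exact hr
  -- M is a p-group of exponent p
  have hMne1 : Nat.card M ≠ 1 := by
    intro hc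
    have := Subgroup.card_eq_one.mp hc
    rw [this, Subgroup.mem_bot] at hx₀M
    exact hx₀ hx₀M
  obtain ⟨p, hpeq⟩ : ∃ p, p = (Nat.card M).minFac := ⟨_, rfl⟩
  have hp : p.Prime := hpeq ▸ Nat.minFac_prime hMne1
  have hpdvd : p ∣ Nat.card M := hpeq ▸ Nat.minFac_dvd _
  clear hpeq
  have := Fact.mk hp
  have hMexp : ∀ m ∈ M, m ^ p = 1 := by
    let M₁ : Subgroup H :=
      { carrier := {m | m ∈ M ∧ m ^ p = 1}
        mul_mem' := by
          rintro a b ⟨ha, ha'⟩ ⟨hb, hb'⟩
          refine ⟨M.mul_mem ha hb, ?_⟩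
          rw [(show Commute a b from hab a ha b hb).mul_pow, ha', hb', one_mul]
        one_mem' := ⟨M.one_mem, one_pow _⟩
        inv_mem' := by
          rintro a ⟨ha, ha'⟩
          exact ⟨M.inv_mem ha, by rw [inv_pow, ha', inv_one]⟩ }
    have hM₁n : M₁.Normal := by
      constructor
      rintro m ⟨hm, hm'⟩ g
      exact ⟨hn.conj_mem m hm g, by rw [conj_pow, hm']; group⟩
    have hM₁M : M₁ ≤ M := fun m hm => hm.1
    have hM₁ne : M₁ ≠ ⊥ := by
      obtain ⟨⟨y, hyM⟩, hyo⟩ := exists_prime_orderOf_dvd_card' (G := M) p hpdvd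
      rw [Subgroup.orderOf_mk] at hyo
      intro hbot
      have hy : y ∈ M₁ := ⟨hyM, by rw [← hyo]; exact pow_orderOf_eq_one y⟩
      rw [hbot, Subgroup.mem_bot] at hy
      rw [hy, orderOf_one] at hyo
      exact hp.one_lt.ne hyo
    have := key M₁ hM₁n hM₁M hM₁ne
    intro m hm
    rw [← this] at hm
    exact hm.2
  have hMp : IsPGroup p M := by
    intro m
    refine ⟨1, ?_⟩
    rw [pow_one]
    exact Subtype.ext (hMexp m m.2)
  obtain ⟨a, ha⟩ := (IsPGroup.iff_card.mp hMp)
  have hpq : p ≠ Nat.card T := by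
    intro hEq
    have hHp : IsPGroup p H := by
      apply IsPGroup.of_card (n := a + 1)
      rw [← hcard, ha, ← hEq, pow_succ]
    have : Nontrivial H := ⟨⟨t, 1, ht1⟩⟩
    have := hHp.center_nontrivial
    rw [hZ] at this
    exact not_nontrivial _ this
  refine ⟨⟨t, x₀, ?_⟩, ?_, ⟨t, ?_⟩, p, Nat.card T, a, hp, hTprime, hpq, ?_, ?_⟩
  · intro hcomm
    apply ht
    rw [← hM, Subgroup.mem_centralizer_singleton_iff]
    exact hcomm
  · -- proper subgroups are abelian
    intro S hS x hx y hy
    by_cases hSM : S ≤ M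
    · exact hab x (hSM hx) y (hSM hy)
    have hSsup : S ⊔ M = ⊤ := by
      rcases hMco.le_iff.mp (le_sup_right : M ≤ S ⊔ M) with h2 | h2
      · exact h2
      · exact absurd (h2 ▸ (le_sup_left : S ≤ S ⊔ M)) hSM
    have hDn : (S ⊓ M).Normal := by
      constructor
      intro d hd g
      have hg : g ∈ (↑(S ⊔ M) : Set H) := by rw [hSsup]; exact Set.mem_univ g
      rw [Subgroup.mul_normal] at hg
      obtain ⟨s, hs, m, hm, rfl⟩ := Set.mem_mul.mp hg
      have e : (s * m) * d * (s * m)⁻¹ = s * (m * d * m⁻¹) * s⁻¹ := by group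
      have e2 : m * d * m⁻¹ = d := by rw [hab m hm d hd.2, mul_inv_cancel_right]
      rw [e, e2]
      exact ⟨S.mul_mem (S.mul_mem hs hd.1) (S.inv_mem hs), hn.conj_mem d hd.2 s⟩
    have hD : S ⊓ M = ⊥ := by
      by_contra hD
      have := key (S ⊓ M) hDn inf_le_right hD
      have hMS : M ≤ S := this ▸ inf_le_left
      rcases hMco.le_iff.mp hMS with h2 | h2
      · exact hS h2
      · exact hSM h2.le
    -- H / M is cyclic of prime order, so commutators lie in M
    have hidx : M.index = Nat.card T := by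
      have := Subgroup.card_mul_index M
      rw [← hcard] at this
      exact Nat.eq_of_mul_eq_mul_left hMpos this
    have := Fact.mk hTprime
    have : IsCyclic (H ⧸ M) := isCyclic_of_prime_card (p := Nat.card T) (by
      rw [← Subgroup.index_eq_card, hidx])
    have hq : (QuotientGroup.mk x * QuotientGroup.mk y : H ⧸ M) =
        QuotientGroup.mk y * QuotientGroup.mk x := by
      let _ := IsCyclic.commGroup (α := H ⧸ M)
      exact mul_comm _ _
    rw [← QuotientGroup.mk_mul, ← QuotientGroup.mk_mul, QuotientGroup.eq] at hq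
    have hmem : (x * y)⁻¹ * (y * x) ∈ S ⊓ M :=
      ⟨S.mul_mem (S.inv_mem (S.mul_mem hx hy)) (S.mul_mem hy hx), hq⟩
    rw [hD, Subgroup.mem_bot] at hmem
    have := inv_mul_eq_one.mp hmem
    exact this
  · rcases hMco.le_iff.mp (le_sup_left : M ≤ M ⊔ zpowers t) with h2 | h2
    · exact h2
    · exact absurd (h2 ▸ (le_sup_right : zpowers t ≤ M ⊔ zpowers t) (Subgroup.mem_zpowers t)) ht
  · rw [← hcard, ha]
  · intro P hP
    have hdvd : Nat.card ↥(M ⊔ P) ∣ Nat.card M * Nat.card P :=
      Cfsg.Agent.Helper21.card_sup_dvd (by rw [Subgroup.normalizer_eq_top]; exact le_top)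
    rw [hP, ha] at hdvd
    have hdvd2 : Nat.card ↥(M ⊔ P) ∣ Nat.card H := Subgroup.card_subgroup_dvd_card _
    rw [← hcard, ha] at hdvd2
    have hcop : (Nat.card ↥(M ⊔ P)).Coprime (Nat.card T) := by
      apply Nat.Coprime.coprime_dvd_left hdvd
      rw [← pow_add]
      apply Nat.Coprime.pow_left
      exact (Nat.coprime_primes hp hTprime).mpr hpq
    have h3 : Nat.card ↥(M ⊔ P) ∣ p ^ a := hcop.dvd_of_dvd_mul_right hdvd2
    have h4 : Nat.card ↥(M ⊔ P) ≤ Nat.card M := by
      rw [ha]; exact Nat.le_of_dvd (pow_pos hp.pos _) h3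
    have h5 : M = M ⊔ P := Subgroup.eq_of_le_of_card_ge le_sup_left h4
    have h6 : P ≤ M := h5 ▸ le_sup_right
    have h7 : P = M := Subgroup.eq_of_le_of_card_ge h6 (by rw [hP, ha])
    rw [h7]; exact hn

/-- An abelian centralizer can be replaced by an abelian *normal* centralizer
(via Frobenius' theorem). -/
theorem MaxCent.normal_of_abelian [Finite H] (h : MaxCent H) (x₁ : H) (hx₁ : x₁ ≠ 1)
    (hab : ∀ a ∈ centralizer ({x₁} : Set H), ∀ b ∈ centralizer ({x₁} : Set H), a * b = b * a) :
    ∃ x₀ : H, x₀ ≠ 1 ∧ (centralizer ({x₀} : Set H)).Normal ∧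
      ∀ a ∈ centralizer ({x₀} : Set H), ∀ b ∈ centralizer ({x₀} : Set H), a * b = b * a := by
  by_cases hn : (centralizer ({x₁} : Set H)).Normal
  · exact ⟨x₁, hx₁, hn, hab⟩
  have hx₁M : x₁ ∈ centralizer ({x₁} : Set H) := Subgroup.mem_centralizer_singleton_iff.mpr rfl
  have hMco : IsCoatom (centralizer ({x₁} : Set H)) := h x₁ hx₁
  have h1 : ∀ y ∈ centralizer ({x₁} : Set H), y ≠ 1 →
      centralizer ({y} : Set H) = centralizer ({x₁} : Set H) := by
    intro y hy hy1
    apply h.eq_of_le hx₁ hy1
    intro m hm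
    rw [Subgroup.mem_centralizer_singleton_iff]
    exact hab m hm y hy
  generalize hM : centralizer ({x₁} : Set H) = M at hn hab hx₁M hMco h1
  have hNM : normalizer (M : Set H) = M := by
    rcases hMco.le_iff.mp (Subgroup.le_normalizer : M ≤ normalizer (M : Set H)) with h2 | h2
    · exact absurd (Subgroup.normalizer_eq_top_iff.mp h2) hn
    · exact h2
  have hFrob : Cfsg.IsFrobeniusComplement M := by
    refine ⟨?_, hMco.1, ?_⟩
    · intro hbot
      rw [hbot, Subgroup.mem_bot] at hx₁M
      exact hx₁ hx₁M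
    · intro g hg
      rw [eq_bot_iff]
      intro y hy
      rw [Subgroup.mem_bot]
      by_contra hy1
      have hyM : y ∈ M := hy.1
      have hyg : g⁻¹ * y * g ∈ M := (Cfsg.Agent.Helper35.mem_conj_smul).mp hy.2
      have hyg1 : g⁻¹ * y * g ≠ 1 := by
        intro h'
        apply hy1
        have e : y = g * (g⁻¹ * y * g) * g⁻¹ := by group
        rw [e, h']; group
      have hc1 := h1 y hyM hy1
      have hc2 := h1 _ hyg hyg1
      have hgN : g ∈ normalizer (M : Set H) := by
        rw [Subgroup.mem_normalizer_iff]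
        intro m
        constructor
        · intro hm
          rw [← hc2, Subgroup.mem_centralizer_singleton_iff] at hm
          rw [← hc1, Subgroup.mem_centralizer_singleton_iff]
          have e1 : g * m * g⁻¹ * y = g * (m * (g⁻¹ * y * g)) * g⁻¹ := by group
          have e2 : y * (g * m * g⁻¹) = g * ((g⁻¹ * y * g) * m) * g⁻¹ := by group
          rw [e1, e2, hm]
        · intro hm
          rw [← hc1, Subgroup.mem_centralizer_singleton_iff] at hm
          rw [← hc2, Subgroup.mem_centralizer_singleton_iff]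
          have e1 : m * (g⁻¹ * y * g) = g⁻¹ * ((g * m * g⁻¹) * y) * g := by group
          have e2 : (g⁻¹ * y * g) * m = g⁻¹ * (y * (g * m * g⁻¹)) * g := by group
          rw [e1, e2, hm]
      rw [hNM] at hgN
      exact hg hgN
  obtain ⟨K, -, hF⟩ := Cfsg.Agent.Helper29.exists_frobPair M hFrob
  have hKn := hF.normal
  have hKne := hF.kernel_ne_bot
  have hKtop : K ≠ ⊤ := by
    intro hK
    exact hx₁ (hF.disjoint (hK ▸ Subgroup.mem_top x₁) hx₁M)
  have hCK : ∀ k ∈ K, k ≠ 1 → centralizer ({k} : Set H) = K := by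
    intro k hk hk1
    refine (h.eq_of_le' hk1 hKtop ?_).symm
    intro g hg
    by_contra hgK
    exact hk1 (hF.eq_one_of_commute hgK hk (Subgroup.mem_centralizer_singleton_iff.mp hg))
  obtain ⟨⟨k₀, hk₀⟩, hk₀1⟩ := (Subgroup.ne_bot_iff_exists_ne_one).mp hKne
  have hk₀1' : k₀ ≠ 1 := fun h' => hk₀1 (Subtype.ext h')
  refine ⟨k₀, hk₀1', (hCK k₀ hk₀ hk₀1').symm ▸ hKn, ?_⟩
  rw [hCK k₀ hk₀ hk₀1']
  intro a ha b hb
  by_cases hb1 : b = 1
  · rw [hb1, mul_one, one_mul]
  · have : a ∈ centralizer ({b} : Set H) := by rw [hCK b hb hb1]; exact ha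
    exact Subgroup.mem_centralizer_singleton_iff.mp this

/-- If no centralizer of a nonidentity element is abelian, every nonidentity element has
prime order. -/
theorem MaxCent.orderOf_prime_of_nonabelian [Finite H] (h : MaxCent H)
    (hna : ∀ x : H, x ≠ 1 → ∃ a ∈ centralizer ({x} : Set H),
      ∃ b ∈ centralizer ({x} : Set H), a * b ≠ b * a)
    (x : H) (hx : x ≠ 1) : (orderOf x).Prime := by
  obtain ⟨y, hyM, m, hmM, hym⟩ := hna x hx
  have hy1 : y ≠ 1 := by
    rintro rfl
    exact hym (by rw [one_mul, mul_one])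
  have hNtop : centralizer ({y} : Set H) ≠ ⊤ := (h y hy1).1
  have hmN : m ∉ centralizer ({y} : Set H) := by
    intro hm
    exact hym (Subgroup.mem_centralizer_singleton_iff.mp hm).symm
  have hxM : x ∈ centralizer ({x} : Set H) := Subgroup.mem_centralizer_singleton_iff.mpr rfl
  have hyN : y ∈ centralizer ({y} : Set H) := Subgroup.mem_centralizer_singleton_iff.mpr rfl
  have hxN : x ∈ centralizer ({y} : Set H) :=
    Subgroup.mem_centralizer_singleton_iff.mpr (Subgroup.mem_centralizer_singleton_iff.mp hyM).symm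
  have hxc : ∀ m' ∈ centralizer ({x} : Set H), x * m' = m' * x :=
    fun m' hm' => (Subgroup.mem_centralizer_singleton_iff.mp hm').symm
  have hyc : ∀ n' ∈ centralizer ({y} : Set H), y * n' = n' * y :=
    fun n' hn' => (Subgroup.mem_centralizer_singleton_iff.mp hn').symm
  have F1 : ∀ a ∈ centralizer ({x} : Set H), (∀ m' ∈ centralizer ({x} : Set H), a * m' = m' * a) →
      a ≠ 1 → centralizer ({a} : Set H) = centralizer ({x} : Set H) := by
    intro a _ hac ha1
    apply h.eq_of_le hx ha1
    intro m' hm'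
    exact Subgroup.mem_centralizer_singleton_iff.mpr (hac m' hm').symm
  have F2 : ∀ b ∈ centralizer ({y} : Set H), (∀ n' ∈ centralizer ({y} : Set H), b * n' = n' * b) →
      b ≠ 1 → centralizer ({b} : Set H) = centralizer ({y} : Set H) := by
    intro b _ hbc hb1
    apply h.eq_of_le hy1 hb1
    intro n' hn'
    exact Subgroup.mem_centralizer_singleton_iff.mpr (hbc n' hn').symm
  generalize hM : centralizer ({x} : Set H) = M at hyM hmM hxM hxc F1
  generalize hN : centralizer ({y} : Set H) = N at hNtop hmN hyN hxN hyc F2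
  have F4 : ∀ c, c ≠ 1 → c ∈ M → (∀ m' ∈ M, c * m' = m' * c) → c ∈ N →
      (∀ n' ∈ N, c * n' = n' * c) → False := by
    intro c hc1 hcM hcMc hcN hcNc
    have e1 := F1 c hcM hcMc hc1
    have e2 := F2 c hcN hcNc hc1
    have : M = N := e1.symm.trans e2
    exact hmN (this ▸ hmM)
  have hMN : ∀ a ∈ M, (∀ m' ∈ M, a * m' = m' * a) → a ∈ N := by
    intro a _ hac
    rw [← hN]
    exact Subgroup.mem_centralizer_singleton_iff.mpr (hac y hyM)
  have hNM : ∀ b ∈ N, (∀ n' ∈ N, b * n' = n' * b) → b ∈ M := by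
    intro b _ hbc
    rw [← hM]
    exact Subgroup.mem_centralizer_singleton_iff.mpr (hbc x hxN)
  have F5 : ∀ a ∈ M, (∀ m' ∈ M, a * m' = m' * a) → a ≠ 1 → ∀ b ∈ N,
      (∀ n' ∈ N, b * n' = n' * b) → b ≠ 1 → ∀ n : ℕ, a ^ n = 1 ↔ b ^ n = 1 := by
    intro a ha hac ha1 b hb hbc hb1 n
    have haN := hMN a ha hac
    have hbM := hNM b hb hbc
    have hab : Commute a b := (hbc a haN).symm
    constructor
    · intro han
      by_contra hbn
      have hcn : (a * b) ^ n = b ^ n := by rw [hab.mul_pow, han, one_mul]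
      have hc1 : a * b ≠ 1 := by
        intro h'
        rw [h', one_pow] at hcn
        exact hbn hcn.symm
      have hbnN : b ^ n ∈ N := N.pow_mem hb n
      have hbnc : ∀ n' ∈ N, b ^ n * n' = n' * b ^ n :=
        fun n' hn' => ((show Commute b n' from hbc n' hn').pow_left n).eq
      have e1 := F2 (b ^ n) hbnN hbnc hbn
      have hle : centralizer ({a * b} : Set H) ≤ N := by
        rw [← e1]
        intro g hg
        rw [Subgroup.mem_centralizer_singleton_iff] at hg ⊢
        rw [← hcn]
        exact ((show Commute g (a * b) from hg).pow_right n).eq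
      have e2 : N = centralizer ({a * b} : Set H) := h.eq_of_le' hc1 hNtop hle
      have hcc : ∀ n' ∈ N, (a * b) * n' = n' * (a * b) := by
        intro n' hn'
        rw [e2] at hn'
        exact (Subgroup.mem_centralizer_singleton_iff.mp hn').symm
      have hacN : ∀ n' ∈ N, a * n' = n' * a := by
        intro n' hn'
        have h1 := hcc n' hn'
        have h2 := hbc n' hn'
        have e : a * n' = (a * b) * n' * b⁻¹ := by
          rw [mul_assoc a b n', h2]; group
        rw [e, h1]; group
      exact F4 a ha1 ha hac haN hacN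
    · intro hbn
      by_contra han
      have hcn : (a * b) ^ n = a ^ n := by rw [hab.mul_pow, hbn, mul_one]
      have hc1 : a * b ≠ 1 := by
        intro h'
        rw [h', one_pow] at hcn
        exact han hcn.symm
      have hanM : a ^ n ∈ M := M.pow_mem ha n
      have hanc : ∀ m' ∈ M, a ^ n * m' = m' * a ^ n :=
        fun m' hm' => ((show Commute a m' from hac m' hm').pow_left n).eq
      have e1 := F1 (a ^ n) hanM hanc han
      have hMtop : M ≠ ⊤ := hM ▸ (h x hx).1
      have hle : centralizer ({a * b} : Set H) ≤ M := by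
        rw [← e1]
        intro g hg
        rw [Subgroup.mem_centralizer_singleton_iff] at hg ⊢
        rw [← hcn]
        exact ((show Commute g (a * b) from hg).pow_right n).eq
      have e2 : M = centralizer ({a * b} : Set H) := h.eq_of_le' hc1 hMtop hle
      have hcc : ∀ m' ∈ M, (a * b) * m' = m' * (a * b) := by
        intro m' hm'
        rw [e2] at hm'
        exact (Subgroup.mem_centralizer_singleton_iff.mp hm').symm
      have hbcM : ∀ m' ∈ M, b * m' = m' * b := by
        intro m' hm'
        have h1 := hcc m' hm'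
        have h2 := hac m' hm'
        have e : b * m' = a⁻¹ * ((a * b) * m') := by group
        have e' : m' * b = a⁻¹ * (a * m') * b := by group
        rw [e, h1, e', h2]; group
      exact F4 b hb1 hbM hbcM hb hbc
  have hord : orderOf x = orderOf y := orderOf_eq_orderOf_iff.mpr (F5 x hxM hxc hx y hyN hyc hy1)
  have hk1 : orderOf x ≠ 1 := by rwa [Ne, orderOf_eq_one_iff]
  have hk0 : orderOf x ≠ 0 := (orderOf_pos x).ne'
  have hp : (orderOf x).minFac.Prime := Nat.minFac_prime hk1
  have hpd : (orderOf x).minFac ∣ orderOf x := Nat.minFac_dvd _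
  have ho : orderOf (x ^ (orderOf x / (orderOf x).minFac)) = (orderOf x).minFac :=
    orderOf_pow_orderOf_div hk0 hpd
  have hx'1 : x ^ (orderOf x / (orderOf x).minFac) ≠ 1 := by
    intro h'
    rw [h', orderOf_one] at ho
    exact hp.one_lt.ne ho
  have hx'M : x ^ (orderOf x / (orderOf x).minFac) ∈ M := M.pow_mem hxM _
  have hx'c : ∀ m' ∈ M, x ^ (orderOf x / (orderOf x).minFac) * m' =
      m' * x ^ (orderOf x / (orderOf x).minFac) :=
    fun m' hm' => ((show Commute x m' from hxc m' hm').pow_left _).eq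
  have hord' : orderOf (x ^ (orderOf x / (orderOf x).minFac)) = orderOf y :=
    orderOf_eq_orderOf_iff.mpr (F5 _ hx'M hx'c hx'1 y hyN hyc hy1)
  have : orderOf x = (orderOf x).minFac := hord.trans (hord'.symm.trans ho)
  rw [this]; exact hp

/-- If all nonidentity elements have prime order, centralizers have prime exponent. -/
theorem pow_eq_one_of_mem_cent_of_prime_orders
    (hprime : ∀ x : H, x ≠ 1 → (orderOf x).Prime) (x : H) (hx : x ≠ 1) (w : H)
    (hw : w ∈ centralizer ({x} : Set H)) : w ^ orderOf x = 1 := by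
  by_cases hw1 : w = 1
  · rw [hw1, one_pow]
  have hp := hprime x hx
  have hq := hprime w hw1
  by_cases hpq : orderOf w = orderOf x
  · rw [← hpq]; exact pow_orderOf_eq_one w
  exfalso
  have hcomm : Commute x w := (Subgroup.mem_centralizer_singleton_iff.mp hw).symm
  have hxw1 : x * w ≠ 1 := by
    intro h'
    have : w = x⁻¹ := (eq_inv_of_mul_eq_one_right h')
    rw [this, orderOf_inv] at hpq
    exact hpq rfl
  have hr := hprime (x * w) hxw1
  have hdvd : orderOf (x * w) ∣ orderOf x * orderOf w := by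
    apply orderOf_dvd_of_pow_eq_one
    rw [hcomm.mul_pow, pow_mul, pow_orderOf_eq_one, one_pow, mul_comm (orderOf x), pow_mul,
      pow_orderOf_eq_one, one_pow, one_mul]
  rcases (Nat.Prime.dvd_mul hr).mp hdvd with h1 | h1
  · have e := (Nat.prime_dvd_prime_iff_eq hr hp).mp h1
    have h2 : (x * w) ^ orderOf x = 1 := by rw [← e]; exact pow_orderOf_eq_one _
    rw [hcomm.mul_pow, pow_orderOf_eq_one, one_mul] at h2
    have h3 := orderOf_dvd_of_pow_eq_one h2
    exact hpq ((Nat.prime_dvd_prime_iff_eq hq hp).mp h3)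
  · have e := (Nat.prime_dvd_prime_iff_eq hr hq).mp h1
    have h2 : (x * w) ^ orderOf w = 1 := by rw [← e]; exact pow_orderOf_eq_one _
    rw [hcomm.mul_pow, pow_orderOf_eq_one, mul_one] at h2
    have h3 := orderOf_dvd_of_pow_eq_one h2
    exact hpq ((Nat.prime_dvd_prime_iff_eq hp hq).mp h3).symm

theorem MaxCent.exists_sylow_eq_cent [Finite H] (h : MaxCent H) (hZ : center H = ⊥)
    (hprime : ∀ x : H, x ≠ 1 → (orderOf x).Prime) (p : ℕ) [Fact p.Prime] (x : H)
    (hx : orderOf x = p) :
    ∃ P : Sylow p H, (P : Subgroup H) = centralizer ({x} : Set H) := by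
  have hx1 : x ≠ 1 := by
    rintro rfl
    rw [orderOf_one] at hx
    exact (Fact.out : p.Prime).one_lt.ne hx
  have hPG : IsPGroup p (centralizer ({x} : Set H)) := by
    intro w
    refine ⟨1, ?_⟩
    rw [pow_one]
    apply Subtype.ext
    have := pow_eq_one_of_mem_cent_of_prime_orders hprime x hx1 w w.2
    rw [hx] at this
    simpa using this
  obtain ⟨Q, hQ⟩ := hPG.exists_le_sylow
  refine ⟨Q, h.eq_of_le' hx1 ?_ hQ⟩
  intro hQtop
  have hHp : IsPGroup p H := by
    intro g
    obtain ⟨k, hk⟩ := Q.isPGroup' ⟨g, hQtop ▸ Subgroup.mem_top g⟩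
    exact ⟨k, by simpa using congrArg (fun t : (Q : Subgroup H) => (t : H)) hk⟩
  have : Nontrivial H := ⟨⟨x, 1, hx1⟩⟩
  have := hHp.center_nontrivial
  rw [hZ] at this
  exact not_nontrivial _ this

theorem sum_inv_sq_le (N : ℕ) (hN : 2 ≤ N) :
    ∑ n ∈ Finset.Icc 3 N, (1 : ℚ) / (n : ℚ) ^ 2 ≤ 1 / 2 - 1 / N := by
  induction N, hN using Nat.le_induction with
  | base => norm_num
  | succ N hN ih =>
    rw [Finset.sum_Icc_succ_top (by omega)]
    have hN0 : (0 : ℚ) < N := by exact_mod_cast (by omega : 0 < N)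
    have h1 : (1 : ℚ) / (((N + 1 : ℕ) : ℚ)) ^ 2 ≤ 1 / N - 1 / (((N + 1 : ℕ) : ℚ)) := by
      push_cast
      rw [div_sub_div _ _ hN0.ne' (by positivity), div_le_div_iff₀ (by positivity) (by positivity)]
      nlinarith
    linarith

/-- Counting: in the all-nonabelian case there are few elements of each prime order. -/
theorem MaxCent.card_order_mul_sq_le [Finite H] (h : MaxCent H) (hZ : center H = ⊥)
    (hna : ∀ x : H, x ≠ 1 → ∃ a ∈ centralizer ({x} : Set H),
      ∃ b ∈ centralizer ({x} : Set H), a * b ≠ b * a) (p : ℕ) [Fact p.Prime] :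
    Nat.card {x : H // orderOf x = p} * p ^ 2 ≤ Nat.card H := by
  classical
  have := Fintype.ofFinite H
  have := Fintype.ofFinite (Sylow p H)
  have hpp : p.Prime := Fact.out
  have hprime := fun x hx => h.orderOf_prime_of_nonabelian hna x hx
  have hex : ∀ x : H, orderOf x = p →
      ∃ P : Sylow p H, (P : Subgroup H) = centralizer ({x} : Set H) :=
    fun x hx => h.exists_sylow_eq_cent hZ hprime p x hx
  let f : H → Sylow p H :=
    fun x => if hx : orderOf x = p then Classical.choose (hex x hx) else default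
  have hf : ∀ x, orderOf x = p → ((f x : Sylow p H) : Subgroup H) = centralizer ({x} : Set H) := by
    intro x hx
    simp only [f, dif_pos hx]
    exact Classical.choose_spec (hex x hx)
  have hcount : (Finset.univ.filter (fun x : H => orderOf x = p)).card =
      ∑ P : Sylow p H, ((Finset.univ.filter (fun x : H => orderOf x = p)).filter
        (fun x => f x = P)).card :=
    Finset.card_eq_sum_card_fiberwise (fun x _ => Finset.mem_univ _)
  have hfib : ∀ P : Sylow p H, ((Finset.univ.filter (fun x : H => orderOf x = p)).filter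
      (fun x => f x = P)).card * p ^ 2 ≤ p ^ (Nat.card H).factorization p := by
    intro P
    by_cases hem : ((Finset.univ.filter (fun x : H => orderOf x = p)).filter
      (fun x => f x = P)) = ∅
    · rw [hem]; simp
    obtain ⟨x₁, hx₁⟩ := Finset.nonempty_iff_ne_empty.mpr hem
    rw [Finset.mem_filter, Finset.mem_filter] at hx₁
    have hx₁o : orderOf x₁ = p := hx₁.1.2
    have hP : (P : Subgroup H) = centralizer ({x₁} : Set H) := hx₁.2 ▸ hf x₁ hx₁o
    have hx₁1 : x₁ ≠ 1 := by
      rintro rfl
      rw [orderOf_one] at hx₁o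
      exact hpp.one_lt.ne hx₁o
    obtain ⟨a, ha, b, hb, hab⟩ := hna x₁ hx₁1
    have hcardP : Nat.card (P : Subgroup H) = p ^ (Nat.card H).factorization p :=
      P.card_eq_multiplicity
    have hidx := Subgroup.card_mul_index (center (P : Subgroup H))
    obtain ⟨k, hk⟩ := (P.isPGroup').index (center (P : Subgroup H))
    have hk2 : 2 ≤ k := by
      by_contra hk2
      have hk01 : k = 0 ∨ k = 1 := by omega
      rcases hk01 with rfl | rfl
      · rw [pow_zero, Subgroup.index_eq_one] at hk
        apply hab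
        have h1 : (⟨a, hP ▸ ha⟩ : (P : Subgroup H)) ∈ center (P : Subgroup H) :=
          hk ▸ Subgroup.mem_top _
        have h2 := Subgroup.mem_center_iff.mp h1 ⟨b, hP ▸ hb⟩
        exact (congrArg (fun t : (P : Subgroup H) => (t : H)) h2).symm
      · rw [pow_one] at hk
        have : IsCyclic ((P : Subgroup H) ⧸ center (P : Subgroup H)) :=
          isCyclic_of_prime_card (p := p) (by rw [← Subgroup.index_eq_card, hk])
        have hc := (MonoidHom.isMulCommutative_of_isCyclic_of_ker_le_center
          (QuotientGroup.mk' (center (P : Subgroup H))) (by rw [QuotientGroup.ker_mk']))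
        apply hab
        exact congrArg (fun t : (P : Subgroup H) => (t : H))
          (hc.is_comm.comm ⟨a, hP ▸ ha⟩ ⟨b, hP ▸ hb⟩)
    have hle : ((Finset.univ.filter (fun x : H => orderOf x = p)).filter
        (fun x => f x = P)).card ≤ Nat.card (center (P : Subgroup H)) := by
      have := Fintype.ofFinite (center (P : Subgroup H))
      rw [Nat.card_eq_fintype_card, ← Finset.card_univ]
      calc _ ≤ (Finset.univ.image
            (fun z : center (P : Subgroup H) => ((z : (P : Subgroup H)) : H))).card :=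
            Finset.card_le_card (by
              intro x hx
              rw [Finset.mem_filter, Finset.mem_filter] at hx
              have hxP : (P : Subgroup H) = centralizer ({x} : Set H) := hx.2 ▸ hf x hx.1.2
              have hxmem : x ∈ (P : Subgroup H) :=
                hxP ▸ Subgroup.mem_centralizer_singleton_iff.mpr rfl
              rw [Finset.mem_image]
              refine ⟨⟨⟨x, hxmem⟩, ?_⟩, Finset.mem_univ _, rfl⟩
              rw [Subgroup.mem_center_iff]
              intro g
              have hg : (g : H) ∈ centralizer ({x} : Set H) := hxP ▸ g.2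
              exact Subtype.ext (Subgroup.mem_centralizer_singleton_iff.mp hg))
        _ ≤ Finset.univ.card := Finset.card_image_le
    calc _ ≤ Nat.card (center (P : Subgroup H)) * p ^ 2 := Nat.mul_le_mul_right _ hle
      _ ≤ Nat.card (center (P : Subgroup H)) * p ^ k :=
          Nat.mul_le_mul_left _ (Nat.pow_le_pow_right hpp.pos hk2)
      _ = p ^ (Nat.card H).factorization p := by rw [← hk, hidx, hcardP]
  have hsyl : Nat.card (Sylow p H) * p ^ (Nat.card H).factorization p ≤ Nat.card H := by
    have P : Sylow p H := default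
    have h1 := P.card_dvd_index
    have h2 := Subgroup.card_mul_index (P : Subgroup H)
    rw [P.card_eq_multiplicity] at h2
    have hpos : 0 < (P : Subgroup H).index := Nat.pos_of_ne_zero (Subgroup.index_ne_zero_of_finite)
    have h3 : Nat.card (Sylow p H) ≤ (P : Subgroup H).index := Nat.le_of_dvd hpos h1
    calc _ ≤ (P : Subgroup H).index * p ^ (Nat.card H).factorization p :=
          Nat.mul_le_mul_right _ h3
      _ = Nat.card H := by rw [mul_comm]; exact h2
  calc Nat.card {x : H // orderOf x = p} * p ^ 2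
      = (Finset.univ.filter (fun x : H => orderOf x = p)).card * p ^ 2 := by
        rw [Nat.card_eq_fintype_card, Fintype.card_subtype]
    _ = ∑ P : Sylow p H, ((Finset.univ.filter (fun x : H => orderOf x = p)).filter
        (fun x => f x = P)).card * p ^ 2 := by rw [hcount, Finset.sum_mul]
    _ ≤ ∑ _P : Sylow p H, p ^ (Nat.card H).factorization p :=
        Finset.sum_le_sum (fun P _ => hfib P)
    _ = Nat.card (Sylow p H) * p ^ (Nat.card H).factorization p := by
        rw [Finset.sum_const, Finset.card_univ, smul_eq_mul,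
          ← Nat.card_eq_fintype_card (α := Sylow p H)]
    _ ≤ Nat.card H := hsyl

/-- The case where no centralizer is abelian is impossible (counting elements of prime order). -/
theorem MaxCent.false_of_nonabelian [Finite H] [Nontrivial H] (h : MaxCent H)
    (hZ : center H = ⊥)
    (hna : ∀ x : H, x ≠ 1 → ∃ a ∈ centralizer ({x} : Set H),
      ∃ b ∈ centralizer ({x} : Set H), a * b ≠ b * a) : False := by
  classical
  have := Fintype.ofFinite H
  have hprime := fun x hx => h.orderOf_prime_of_nonabelian hna x hx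
  have hno2 : ¬ (2 ∣ Nat.card H) := by
    intro h2
    have : Fact (Nat.Prime 2) := ⟨Nat.prime_two⟩
    obtain ⟨x, hxo⟩ := exists_prime_orderOf_dvd_card' (G := H) 2 h2
    have hx1 : x ≠ 1 := by
      rintro rfl
      rw [orderOf_one] at hxo
      omega
    obtain ⟨a, ha, b, hb, hab⟩ := hna x hx1
    have hsq : ∀ w ∈ centralizer ({x} : Set H), w * w = 1 := by
      intro w hw
      have := pow_eq_one_of_mem_cent_of_prime_orders hprime x hx1 w hw
      rwa [hxo, sq] at this
    apply hab
    have h1 := hsq a ha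
    have h2' := hsq b hb
    have h3 := hsq (a * b) (Subgroup.mul_mem _ ha hb)
    have e : a * b = (a * b)⁻¹ := eq_inv_of_mul_eq_one_left h3
    have ea : a = a⁻¹ := eq_inv_of_mul_eq_one_left h1
    have eb : b = b⁻¹ := eq_inv_of_mul_eq_one_left h2'
    rw [e, mul_inv_rev, ← ea, ← eb]
  have hN2 : 2 ≤ Nat.card H := Finite.one_lt_card
  have hcount : (Finset.univ.erase (1 : H)).card = ∑ p ∈ (Nat.card H).primeFactors,
      ((Finset.univ.erase (1 : H)).filter (fun x => orderOf x = p)).card := by
    apply Finset.card_eq_sum_card_fiberwise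
    intro x hx
    have hx1 : x ≠ 1 := Finset.ne_of_mem_erase hx
    exact Nat.mem_primeFactors.mpr ⟨hprime x hx1, orderOf_dvd_natCard x, Nat.card_pos.ne'⟩
  have hcard1 : (Finset.univ.erase (1 : H)).card = Nat.card H - 1 := by
    rw [Finset.card_erase_of_mem (Finset.mem_univ _), Finset.card_univ, Nat.card_eq_fintype_card]
  have hterm : ∀ p ∈ (Nat.card H).primeFactors,
      (((Finset.univ.erase (1 : H)).filter (fun x => orderOf x = p)).card : ℚ) ≤
        (Nat.card H : ℚ) * (1 / (p : ℚ) ^ 2) := by
    intro p hp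
    have hpp : p.Prime := (Nat.mem_primeFactors.mp hp).1
    have := Fact.mk hpp
    have h1 := h.card_order_mul_sq_le hZ hna p
    rw [Nat.card_eq_fintype_card (α := {x : H // orderOf x = p}), Fintype.card_subtype] at h1
    have h2 : ((Finset.univ.erase (1 : H)).filter (fun x => orderOf x = p)).card ≤
        (Finset.univ.filter (fun x : H => orderOf x = p)).card :=
      Finset.card_le_card (Finset.filter_subset_filter _ (Finset.erase_subset _ _))
    have h3 : ((Finset.univ.erase (1 : H)).filter (fun x => orderOf x = p)).card * p ^ 2 ≤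
        Nat.card H := le_trans (Nat.mul_le_mul_right _ h2) h1
    have hp0 : (0 : ℚ) < (p : ℚ) ^ 2 := by
      have : (0 : ℚ) < (p : ℚ) := by exact_mod_cast hpp.pos
      positivity
    rw [mul_one_div, le_div_iff₀ hp0]
    exact_mod_cast h3
  have hsub : (Nat.card H).primeFactors ⊆ Finset.Icc 3 (Nat.card H) := by
    intro p hp
    obtain ⟨hpp, hpd, -⟩ := Nat.mem_primeFactors.mp hp
    rw [Finset.mem_Icc]
    refine ⟨?_, Nat.le_of_dvd Nat.card_pos hpd⟩
    have hp2 : p ≠ 2 := by
      rintro rfl
      exact hno2 hpd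
    have := hpp.two_le
    omega
  have hsum : ∑ p ∈ (Nat.card H).primeFactors, (1 : ℚ) / (p : ℚ) ^ 2 ≤
      1 / 2 - 1 / (Nat.card H : ℚ) :=
    le_trans (Finset.sum_le_sum_of_subset_of_nonneg hsub (fun _ _ _ => by positivity))
      (sum_inv_sq_le _ hN2)
  have hH0 : (0 : ℚ) < (Nat.card H : ℚ) := by exact_mod_cast Nat.card_pos
  have hfinal : ((Nat.card H - 1 : ℕ) : ℚ) ≤ (Nat.card H : ℚ) * (1 / 2 - 1 / (Nat.card H : ℚ)) := by
    rw [← hcard1, hcount]
    push_cast
    calc _ ≤ ∑ p ∈ (Nat.card H).primeFactors, (Nat.card H : ℚ) * (1 / (p : ℚ) ^ 2) :=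
          Finset.sum_le_sum hterm
      _ = (Nat.card H : ℚ) * ∑ p ∈ (Nat.card H).primeFactors, (1 / (p : ℚ) ^ 2) := by
          rw [Finset.mul_sum]
      _ ≤ _ := mul_le_mul_of_nonneg_left hsum hH0.le
  rw [Nat.cast_sub (by omega), mul_sub, mul_one_div, mul_one_div, div_self hH0.ne'] at hfinal
  push_cast at hfinal
  linarith

/-- **Centerless groups with maximal centralizers**: some nonidentity element has an abelian
normal centralizer. -/
theorem MaxCent.exists_normal_abelian [Finite H] [Nontrivial H] (h : MaxCent H)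
    (hZ : center H = ⊥) :
    ∃ x₀ : H, x₀ ≠ 1 ∧ (centralizer ({x₀} : Set H)).Normal ∧
      ∀ a ∈ centralizer ({x₀} : Set H), ∀ b ∈ centralizer ({x₀} : Set H), a * b = b * a := by
  by_cases hex : ∃ x₁ : H, x₁ ≠ 1 ∧ ∀ a ∈ centralizer ({x₁} : Set H),
      ∀ b ∈ centralizer ({x₁} : Set H), a * b = b * a
  · obtain ⟨x₁, hx₁, hab⟩ := hex
    exact h.normal_of_abelian x₁ hx₁ hab
  · exfalso
    apply h.false_of_nonabelian hZ
    intro x hx
    by_contra hcon
    apply hex
    refine ⟨x, hx, fun a ha b hb => ?_⟩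
    by_contra hab
    exact hcon ⟨a, ha, b, hb, hab⟩

end MaxCent

section General

variable {G : Type*} [Group G]

/-- If centralizers of non-central elements are maximal and `G/Z(G)` is not abelian, then
`G/Z(G)` has trivial centre. -/
theorem center_quotient_eq_bot_of_maxCent
    (hcm : ∀ g : G, g ∉ center G → IsCoatom (centralizer ({g} : Set G)))
    (hna : ∃ a b : G ⧸ center G, a * b ≠ b * a) : center (G ⧸ center G) = ⊥ := by
  obtain ⟨a₀, b₀, hab₀⟩ := hna
  obtain ⟨t₀, rfl⟩ := QuotientGroup.mk_surjective a₀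
  have ht₀ : (QuotientGroup.mk t₀ : G ⧸ center G) ∉ center (G ⧸ center G) := by
    intro hc
    exact hab₀ ((Subgroup.mem_center_iff.mp hc) b₀).symm
  rw [eq_bot_iff]
  intro uq huq
  obtain ⟨u, rfl⟩ := QuotientGroup.mk_surjective uq
  rw [Subgroup.mem_bot, QuotientGroup.eq_one_iff]
  have key : ∀ t : G, (QuotientGroup.mk t : G ⧸ center G) ∉ center (G ⧸ center G) →
      u * t = t * u := by
    intro t ht
    have htZ : t ∉ center G := by
      intro htz
      apply ht
      have : (QuotientGroup.mk t : G ⧸ center G) = 1 := (QuotientGroup.eq_one_iff t).mpr htz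
      rw [this]; exact Subgroup.one_mem _
    have hco := hcm t htZ
    have hle : centralizer ({t} : Set G) ≤
        (centralizer ({(QuotientGroup.mk t : G ⧸ center G)} : Set (G ⧸ center G))).comap
          (QuotientGroup.mk' (center G)) := by
      intro g hg
      rw [Subgroup.mem_comap, Subgroup.mem_centralizer_singleton_iff, QuotientGroup.mk'_apply,
        ← QuotientGroup.mk_mul, ← QuotientGroup.mk_mul,
        Subgroup.mem_centralizer_singleton_iff.mp hg]
    rcases hco.le_iff.mp hle with h2 | h2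
    · exfalso
      apply ht
      rw [Subgroup.mem_center_iff]
      intro gq
      obtain ⟨g, rfl⟩ := QuotientGroup.mk_surjective gq
      have hg : g ∈ (centralizer ({(QuotientGroup.mk t : G ⧸ center G)} :
          Set (G ⧸ center G))).comap (QuotientGroup.mk' (center G)) := h2 ▸ Subgroup.mem_top g
      exact Subgroup.mem_centralizer_singleton_iff.mp (Subgroup.mem_comap.mp hg)
    · have hu : u ∈ (centralizer ({(QuotientGroup.mk t : G ⧸ center G)} :
          Set (G ⧸ center G))).comap (QuotientGroup.mk' (center G)) := by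
        rw [Subgroup.mem_comap, Subgroup.mem_centralizer_singleton_iff]
        exact ((Subgroup.mem_center_iff.mp huq) _).symm
      rw [h2] at hu
      exact Subgroup.mem_centralizer_singleton_iff.mp hu
  rw [Subgroup.mem_center_iff]
  intro g
  by_cases hg : (QuotientGroup.mk g : G ⧸ center G) ∈ center (G ⧸ center G)
  · have hgt : (QuotientGroup.mk (g * t₀) : G ⧸ center G) ∉ center (G ⧸ center G) := by
      intro hc
      apply ht₀
      have : (QuotientGroup.mk t₀ : G ⧸ center G) =
          (QuotientGroup.mk g)⁻¹ * QuotientGroup.mk (g * t₀) := by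
        rw [QuotientGroup.mk_mul, inv_mul_cancel_left]
      rw [this]
      exact Subgroup.mul_mem _ (Subgroup.inv_mem _ hg) hc
    have h1 := key (g * t₀) hgt
    have h2 := key t₀ ht₀
    have e1 : g * u = (g * t₀) * u * t₀⁻¹ * (t₀ * u⁻¹ * t₀⁻¹ * u) := by group
    have e2 : t₀ * u⁻¹ * t₀⁻¹ * u = 1 := by
      have : t₀ * u⁻¹ = u⁻¹ * t₀ := by
        have := congrArg (fun z => u⁻¹ * z * u⁻¹) h2
        simpa [mul_assoc] using this
      rw [this]; group
    rw [e1, e2, mul_one, ← h1]; group
  · exact (key g hg).symm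

/-- If centralizers of non-central elements are maximal and `G/Z(G)` is not abelian, then
`G/Z(G)` is a centerless group with maximal centralizers. -/
theorem maxCent_quotient_of_maxCent
    (hcm : ∀ g : G, g ∉ center G → IsCoatom (centralizer ({g} : Set G)))
    (hna : ∃ a b : G ⧸ center G, a * b ≠ b * a) : MaxCent (G ⧸ center G) := by
  have hZ := center_quotient_eq_bot_of_maxCent hcm hna
  intro xq hxq
  obtain ⟨x, rfl⟩ := QuotientGroup.mk_surjective xq
  have hxZ : x ∉ center G := fun hx => hxq ((QuotientGroup.eq_one_iff x).mpr hx)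
  have hco := hcm x hxZ
  constructor
  · intro htop
    apply hxq
    have : (QuotientGroup.mk x : G ⧸ center G) ∈ center (G ⧸ center G) := by
      rw [Subgroup.mem_center_iff]
      intro gq
      have : gq ∈ centralizer ({(QuotientGroup.mk x : G ⧸ center G)} : Set (G ⧸ center G)) :=
        htop ▸ Subgroup.mem_top gq
      exact Subgroup.mem_centralizer_singleton_iff.mp this
    rw [hZ] at this
    exact Subgroup.mem_bot.mp this
  · intro S hS
    have hle : centralizer ({x} : Set G) ≤ S.comap (QuotientGroup.mk' (center G)) := by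
      intro g hg
      rw [Subgroup.mem_comap]
      apply hS.le
      rw [Subgroup.mem_centralizer_singleton_iff, QuotientGroup.mk'_apply,
        ← QuotientGroup.mk_mul, ← QuotientGroup.mk_mul,
        Subgroup.mem_centralizer_singleton_iff.mp hg]
    rcases hco.le_iff.mp hle with h2 | h2
    · rw [eq_top_iff]
      intro gq _
      obtain ⟨g, rfl⟩ := QuotientGroup.mk_surjective gq
      exact Subgroup.mem_comap.mp (h2 ▸ Subgroup.mem_top g)
    · exfalso
      apply hS.not_ge
      intro sq' hsq'
      obtain ⟨s, rfl⟩ := QuotientGroup.mk_surjective sq'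
      have hs : s ∈ S.comap (QuotientGroup.mk' (center G)) := Subgroup.mem_comap.mpr hsq'
      rw [h2] at hs
      rw [Subgroup.mem_centralizer_singleton_iff, ← QuotientGroup.mk_mul, ← QuotientGroup.mk_mul,
        Subgroup.mem_centralizer_singleton_iff.mp hs]

/-- Abelian central quotient: every non-central element has a prime power in the centre. -/
theorem exists_prime_pow_mem_center_of_maxCent [Finite G]
    (hcm : ∀ g : G, g ∉ center G → IsCoatom (centralizer ({g} : Set G)))
    (hab : ∀ a b : G ⧸ center G, a * b = b * a) (x : G) (hx : x ∉ center G) :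
    ∃ q : ℕ, q.Prime ∧ x ^ q ∈ center G := by
  have hco := hcm x hx
  obtain ⟨g, hg⟩ : ∃ g, g ∉ centralizer ({x} : Set G) := by
    by_contra hcon
    exact hco.1 (eq_top_iff.mpr fun g _ => by
      by_contra hg
      exact hcon ⟨g, hg⟩)
  have hcomm : ∀ a b : G, a * b * a⁻¹ * b⁻¹ ∈ center G := by
    intro a b
    have := hab (QuotientGroup.mk b⁻¹) (QuotientGroup.mk a⁻¹)
    rw [← QuotientGroup.mk_mul, ← QuotientGroup.mk_mul, QuotientGroup.eq] at this
    have e : a * b * a⁻¹ * b⁻¹ = (b⁻¹ * a⁻¹)⁻¹ * (a⁻¹ * b⁻¹) := by group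
    rw [e]; exact this
  -- conjugation identities for a central commutator
  have I1 : ∀ (g' : G) (n : ℕ), g' * x ^ n * g'⁻¹ = (g' * x * g'⁻¹ * x⁻¹) ^ n * x ^ n := by
    intro g' n
    have hz : Commute (g' * x * g'⁻¹ * x⁻¹) x :=
      ((Subgroup.mem_center_iff.mp (hcomm g' x)) x).symm
    rw [← hz.mul_pow, ← conj_pow]
    congr 1
    group
  have I2 : ∀ j : ℕ, g ^ j * x * (g ^ j)⁻¹ = (g * x * g⁻¹ * x⁻¹) ^ j * x := by
    intro j
    induction j with
    | zero => simp
    | succ j ih =>
      have hzj : ∀ w : G, (g * x * g⁻¹ * x⁻¹) ^ j * w = w * (g * x * g⁻¹ * x⁻¹) ^ j := by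
        intro w
        exact ((Subgroup.mem_center_iff.mp (Subgroup.pow_mem _ (hcomm g x) j)) w).symm
      have e : g ^ (j + 1) * x * (g ^ (j + 1))⁻¹ = g * (g ^ j * x * (g ^ j)⁻¹) * g⁻¹ := by
        rw [pow_succ']; group
      rw [e, ih, pow_succ]
      have e2 : g * ((g * x * g⁻¹ * x⁻¹) ^ j * x) * g⁻¹
          = g * (g * x * g⁻¹ * x⁻¹) ^ j * (x * g⁻¹) := by group
      rw [e2, ← hzj g]
      group
  have hz1 : g * x * g⁻¹ * x⁻¹ ≠ 1 := by
    intro h1
    apply hg
    rw [Subgroup.mem_centralizer_singleton_iff]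
    have : g * x = (g * x * g⁻¹ * x⁻¹) * x * g := by group
    rw [this, h1, one_mul]
  have hk1 : orderOf (g * x * g⁻¹ * x⁻¹) ≠ 1 := by rwa [Ne, orderOf_eq_one_iff]
  have hk0 : orderOf (g * x * g⁻¹ * x⁻¹) ≠ 0 := (orderOf_pos _).ne'
  have hq : (orderOf (g * x * g⁻¹ * x⁻¹)).minFac.Prime := Nat.minFac_prime hk1
  have hqd : (orderOf (g * x * g⁻¹ * x⁻¹)).minFac ∣ orderOf (g * x * g⁻¹ * x⁻¹) :=
    Nat.minFac_dvd _
  have ho := orderOf_pow_orderOf_div hk0 hqd
  generalize (orderOf (g * x * g⁻¹ * x⁻¹)).minFac = q at hq hqd ho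
  generalize hj : orderOf (g * x * g⁻¹ * x⁻¹) / q = j at ho
  refine ⟨q, hq, ?_⟩
  by_contra hxq
  have hco' := hcm (x ^ q) hxq
  have hle : centralizer ({x} : Set G) ≤ centralizer ({x ^ q} : Set G) := by
    intro w hw
    rw [Subgroup.mem_centralizer_singleton_iff] at hw ⊢
    exact ((show Commute w x from hw).pow_right q).eq
  have heq : centralizer ({x ^ q} : Set G) = centralizer ({x} : Set G) := by
    rcases hco.le_iff.mp hle with h2 | h2
    · exact absurd h2 hco'.1
    · exact h2
  have hzj : g ^ j * x * (g ^ j)⁻¹ * x⁻¹ = (g * x * g⁻¹ * x⁻¹) ^ j := by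
    rw [I2 j, mul_inv_cancel_right]
  have hgj : g ^ j ∈ centralizer ({x ^ q} : Set G) := by
    rw [Subgroup.mem_centralizer_singleton_iff]
    have h3 := I1 (g ^ j) q
    rw [hzj, ← ho, pow_orderOf_eq_one, one_mul] at h3
    have : g ^ j * x ^ q = (g ^ j * x ^ q * (g ^ j)⁻¹) * g ^ j := by group
    rw [this]
    rw [ho] at h3
    rw [h3]
  rw [heq, Subgroup.mem_centralizer_singleton_iff] at hgj
  have : (g * x * g⁻¹ * x⁻¹) ^ j = 1 := by
    rw [← hzj, hgj]; group
  rw [this, orderOf_one] at ho
  exact hq.one_lt.ne ho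

/-- Abelian central quotient: `G/Z(G)` has prime exponent. -/
theorem exists_prime_forall_pow_eq_one_of_maxCent [Finite G]
    (hcm : ∀ g : G, g ∉ center G → IsCoatom (centralizer ({g} : Set G)))
    (hab : ∀ a b : G ⧸ center G, a * b = b * a) (hnc : ∃ x : G, x ∉ center G) :
    ∃ p : ℕ, p.Prime ∧ ∀ a : G ⧸ center G, a ^ p = 1 := by
  obtain ⟨x₁, hx₁⟩ := hnc
  obtain ⟨p, hp, hx₁p⟩ := exists_prime_pow_mem_center_of_maxCent hcm hab x₁ hx₁
  refine ⟨p, hp, ?_⟩
  intro a
  obtain ⟨y, rfl⟩ := QuotientGroup.mk_surjective a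
  by_cases hy : y ∈ center G
  · rw [(QuotientGroup.eq_one_iff y).mpr hy, one_pow]
  obtain ⟨q, hq, hyq⟩ := exists_prime_pow_mem_center_of_maxCent hcm hab y hy
  by_cases hpq : q = p
  · rw [← hpq, ← QuotientGroup.mk_pow]
    exact (QuotientGroup.eq_one_iff _).mpr hyq
  exfalso
  have := Fact.mk hp
  have := Fact.mk hq
  have ho1 : orderOf (QuotientGroup.mk x₁ : G ⧸ center G) = p :=
    orderOf_eq_prime (by rw [← QuotientGroup.mk_pow]; exact (QuotientGroup.eq_one_iff _).mpr hx₁p)
      (fun h1 => hx₁ ((QuotientGroup.eq_one_iff _).mp h1))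
  have ho2 : orderOf (QuotientGroup.mk y : G ⧸ center G) = q :=
    orderOf_eq_prime (by rw [← QuotientGroup.mk_pow]; exact (QuotientGroup.eq_one_iff _).mpr hyq)
      (fun h1 => hy ((QuotientGroup.eq_one_iff _).mp h1))
  have hcop : (orderOf (QuotientGroup.mk x₁ : G ⧸ center G)).Coprime
      (orderOf (QuotientGroup.mk y : G ⧸ center G)) := by
    rw [ho1, ho2]
    exact (Nat.coprime_primes hp hq).mpr (Ne.symm hpq)
  have ho3 : orderOf ((QuotientGroup.mk x₁ : G ⧸ center G) * QuotientGroup.mk y) = p * q := by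
    rw [(show Commute (QuotientGroup.mk x₁ : G ⧸ center G) (QuotientGroup.mk y) from
      hab _ _).orderOf_mul_eq_mul_orderOf_of_coprime hcop, ho1, ho2]
  have hw : x₁ * y ∉ center G := by
    intro hw
    have h1 : ((QuotientGroup.mk x₁ : G ⧸ center G) * QuotientGroup.mk y) = 1 := by
      rw [← QuotientGroup.mk_mul]
      exact (QuotientGroup.eq_one_iff _).mpr hw
    rw [h1, orderOf_one] at ho3
    have := hp.two_le
    have := hq.two_le
    nlinarith
  obtain ⟨r, hr, hwr⟩ := exists_prime_pow_mem_center_of_maxCent hcm hab (x₁ * y) hw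
  have h1 : ((QuotientGroup.mk x₁ : G ⧸ center G) * QuotientGroup.mk y) ^ r = 1 := by
    rw [← QuotientGroup.mk_mul, ← QuotientGroup.mk_pow]
    exact (QuotientGroup.eq_one_iff _).mpr hwr
  have hdvd := orderOf_dvd_of_pow_eq_one h1
  rw [ho3] at hdvd
  have h2 : p ∣ r := Dvd.dvd.trans (dvd_mul_right p q) hdvd
  have h3 : q ∣ r := Dvd.dvd.trans (dvd_mul_left q p) hdvd
  have e1 := (Nat.prime_dvd_prime_iff_eq hp hr).mp h2
  have e2 := (Nat.prime_dvd_prime_iff_eq hq hr).mp h3
  exact hpq (e2.trans e1.symm)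

end General

end Cfsg.Agent.Helper68
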