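import Mathlib
import Cfsg.Prelude.Def_Solvable

set_option autoImplicit false

namespace Cfsg.Agent.Helper68

open Subgroup Cfsg
open scoped Pointwise

variable {G : Type*} [Group G] {p : ℕ}

/-- `O_p(L)` inside the ambient group -/
def Op (p : ℕ) (L : Subgroup G) : Subgroup G := (pCore p ↥L).map L.subtype

theorem pcore_normal (p : ℕ) (K : Type*) [Group K] : (pCore p K).Normal :=
  Subgroup.sSup_normal _ (fun _ h => h.1)

theorem pcore_isPGroup (p : ℕ) [Fact p.Prime] (K : Type*) [Group K] : IsPGroup p (pCore p K) :=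
  Sylow.sSup_of_normal _ (fun _ h => h.2) (fun _ h => h.1)

theorem Op_le (p : ℕ) (L : Subgroup G) : Op p L ≤ L := by
  rintro _ ⟨x, _, rfl⟩
  exact x.2

theorem Op_isPGroup (p : ℕ) [Fact p.Prime] (L : Subgroup G) : IsPGroup p (Op p L) :=
  (pcore_isPGroup p ↥L).map _

theorem le_Op {L N : Subgroup G} (hNL : N ≤ L) (hnorm : L ≤ normalizer (N : Set G))
    (hN : IsPGroup p N) : N ≤ Op p L := by
  intro x hx
  have h1 : (N.subgroupOf L).Normal := (normal_subgroupOf_iff_le_normalizer hNL).2 hnorm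
  have h2 : IsPGroup p (N.subgroupOf L) := hN.comap_subtype
  have h3 : N.subgroupOf L ≤ pCore p ↥L := le_sSup ⟨h1, h2⟩
  exact ⟨⟨x, hNL hx⟩, h3 (mem_subgroupOf.2 hx), rfl⟩

theorem le_normalizer_Op (p : ℕ) (L : Subgroup G) :
    L ≤ normalizer ((Op p L : Subgroup G) : Set G) := by
  rw [le_normalizer_iff]
  rintro l hl _ ⟨x, hx, rfl⟩
  exact ⟨⟨l, hl⟩ * x * ⟨l, hl⟩⁻¹, (pcore_normal p ↥L).conj_mem x hx ⟨l, hl⟩, rfl⟩

theorem normalizer_le_normalizer_Op (p : ℕ) [Fact p.Prime] (L : Subgroup G) :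
    normalizer (L : Set G) ≤ normalizer ((Op p L : Subgroup G) : Set G) := by
  rw [le_normalizer_iff]
  intro g hg r hr
  set R := Op p L with hR
  set R' : Subgroup G := R.map (MulAut.conj g).toMonoidHom with hR'
  have hmem : ∀ y, y ∈ R' ↔ g⁻¹ * y * g ∈ R := by
    intro y
    rw [hR', mem_map]
    constructor
    · rintro ⟨z, hz, rfl⟩
      rw [MulEquiv.coe_toMonoidHom, MulAut.conj_apply]
      have : g⁻¹ * (g * z * g⁻¹) * g = z := by group
      rw [this]; exact hz
    · intro h
      refine ⟨g⁻¹ * y * g, h, ?_⟩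
      rw [MulEquiv.coe_toMonoidHom, MulAut.conj_apply]
      group
  have h1 : R' ≤ L := by
    intro y hy
    rw [hmem] at hy
    exact (mem_normalizer_iff''.1 hg y).2 (Op_le p L hy)
  have h2 : IsPGroup p R' := (Op_isPGroup p L).map _
  have h3 : L ≤ normalizer (R' : Set G) := by
    rw [le_normalizer_iff]
    intro l hl y hy
    rw [hmem] at hy ⊢
    have h4 : g⁻¹ * l * g ∈ L := (mem_normalizer_iff''.1 hg l).1 hl
    have h5 := (le_normalizer_iff.1 (le_normalizer_Op p L)) _ h4 _ hy
    have : g⁻¹ * (l * y * l⁻¹) * g = g⁻¹ * l * g * (g⁻¹ * y * g) * (g⁻¹ * l * g)⁻¹ := by group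
    rw [this]; exact h5
  have h4 := le_Op h1 h3 h2
  apply h4
  rw [hmem]
  have : g⁻¹ * (g * r * g⁻¹) * g = r := by group
  rw [this]; exact hr

theorem Op_mono_of_normal (p : ℕ) [Fact p.Prime] {C L : Subgroup G} (hCL : C ≤ L)
    (hnorm : L ≤ normalizer (C : Set G)) : Op p C ≤ Op p L :=
  le_Op ((Op_le p C).trans hCL) (hnorm.trans (normalizer_le_normalizer_Op p C)) (Op_isPGroup p C)

theorem Op_eq_self_of_isPGroup {H : Subgroup G} (hH : IsPGroup p H) : Op p H = H :=
  le_antisymm (Op_le p H) (le_Op le_rfl le_normalizer hH)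

theorem pcore_of_subnormal [Fact p.Prime] {J : Type*} [Group J] (H' : Subgroup J)
    (h : H'.IsSubnormal) : Op p H' ≤ pCore p J := by
  induction h with
  | top =>
    have h1 : (Op p (⊤ : Subgroup J)).Normal :=
      normalizer_eq_top_iff.1 (top_le_iff.1 (le_normalizer_Op p ⊤))
    exact le_sSup ⟨h1, Op_isPGroup p ⊤⟩
  | step H K h_le hSubn hN ih =>
    exact (Op_mono_of_normal p h_le ((normal_subgroupOf_iff_le_normalizer h_le).1 hN)).trans ih

/-- a subnormal `p`-subgroup lies in the `p`-core -/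
theorem le_Op_of_subnormal [Fact p.Prime] {H J : Subgroup G} (hHJ : H ≤ J) (hH : IsPGroup p H)
    (hsn : (H.subgroupOf J).IsSubnormal) : H ≤ Op p J := by
  have h1 := pcore_of_subnormal (p := p) (H.subgroupOf J) hsn
  have h2 : Op p (H.subgroupOf J) = H.subgroupOf J := Op_eq_self_of_isPGroup hH.comap_subtype
  rw [h2] at h1
  intro x hx
  exact ⟨⟨x, hHJ hx⟩, h1 (mem_subgroupOf.2 hx), rfl⟩

/-- every subgroup of a finite `p`-group is subnormal -/
theorem isSubnormal_of_isPGroup [Fact p.Prime] {P : Type*} [Group P] [Finite P]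
    (hP : IsPGroup p P) (H : Subgroup P) : H.IsSubnormal := by
  have hnil : Group.IsNilpotent P := hP.isNilpotent
  have hnc : NormalizerCondition P := Group.normalizerCondition_of_isNilpotent
  induction hn : Nat.card P - Nat.card H using Nat.strong_induction_on generalizing H with
  | _ n ih =>
    by_cases hT : H = ⊤
    · subst hT; exact IsSubnormal.top
    · have hlt : H < normalizer (H : Set P) := hnc H (lt_top_iff_ne_top.2 hT)
      have hcard : Nat.card H < Nat.card (normalizer (H : Set P)) := by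
        by_contra hge
        push_neg at hge
        exact hlt.ne (eq_of_le_of_card_ge hlt.le hge)
      have h2 : Nat.card (normalizer (H : Set P)) ≤ Nat.card P := card_le_card_group _
      refine IsSubnormal.step H (normalizer (H : Set P)) le_normalizer
        (ih (Nat.card P - Nat.card (normalizer (H : Set P))) (by omega) _ rfl) normal_in_normalizer

/-- a subgroup of a `p`-subgroup normalized by `J` is subnormal in `J` -/
theorem isSubnormal_of_le_normal_pgroup [Fact p.Prime] [Finite G] {H R J : Subgroup G}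
    (hHR : H ≤ R) (hRJ : R ≤ J) (hnorm : J ≤ normalizer (R : Set G)) (hR : IsPGroup p R) :
    (H.subgroupOf J).IsSubnormal := by
  have hRn : (R.subgroupOf J).Normal := (normal_subgroupOf_iff_le_normalizer hRJ).2 hnorm
  have hle : H.subgroupOf J ≤ R.subgroupOf J := fun x hx => hHR hx
  refine IsSubnormal.trans hle ?_ hRn.isSubnormal
  exact isSubnormal_of_isPGroup (P := ↥(R.subgroupOf J)) hR.comap_subtype _

/-- A subgroup of a radical `p`-subgroup `R` is subnormal in the group it generates with an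
element normalizing `R`. -/
theorem subnormal_of_le_radical [Fact p.Prime] [Finite G] {H R : Subgroup G} {g : G}
    (hHR : H ≤ R) (hR : IsPGroup p R) (hg : g ∈ normalizer (R : Set G)) :
    (H.subgroupOf (H ⊔ zpowers g)).IsSubnormal := by
  set J := H ⊔ zpowers g with hJ
  have hJN : J ≤ normalizer (R : Set G) :=
    sup_le (hHR.trans le_normalizer) ((zpowers_le).2 hg)
  have h1 : H ≤ R ⊓ J := le_inf hHR le_sup_left
  have h2 : J ≤ normalizer ((R ⊓ J : Subgroup G) : Set G) :=
    (le_inf hJN le_normalizer).trans inf_normalizer_le_normalizer_inf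
  exact isSubnormal_of_le_normal_pgroup h1 inf_le_right h2 (hR.to_le inf_le_left)

/-- If `H` is a subnormal `p`-subgroup of `⟨H, g⟩` then there is a radical `p`-subgroup
containing `H` and normalized by `g`. -/
theorem exists_radical [Fact p.Prime] [Finite G] {H : Subgroup G} (hH : IsPGroup p H) {g : G}
    (hsn : (H.subgroupOf (H ⊔ zpowers g)).IsSubnormal) :
    ∃ R : Subgroup G, H ≤ R ∧ Op p (normalizer (R : Set G)) = R ∧ g ∈ normalizer (R : Set G) := by
  set J := H ⊔ zpowers g with hJ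
  have hR₀ : H ≤ Op p J := le_Op_of_subnormal le_sup_left hH hsn
  have hgJ : g ∈ J := mem_sup_right (mem_zpowers g)
  obtain ⟨R, hRS, hmax⟩ := Set.exists_max_image
    {R : Subgroup G | IsPGroup p R ∧ H ≤ R ∧ g ∈ normalizer (R : Set G)}
    (fun R => Nat.card R) (Set.toFinite _)
    ⟨Op p J, Op_isPGroup p J, hR₀, le_normalizer_Op p J hgJ⟩
  obtain ⟨hRp, hHR, hgR⟩ := hRS
  have hRR' : R ≤ Op p (normalizer (R : Set G)) := le_Op le_normalizer le_rfl hRp
  have hR' : Op p (normalizer (R : Set G)) ∈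
      {R : Subgroup G | IsPGroup p R ∧ H ≤ R ∧ g ∈ normalizer (R : Set G)} :=
    ⟨Op_isPGroup p _, hHR.trans hRR', le_normalizer_Op p _ hgR⟩
  have hcard := hmax _ hR'
  exact ⟨R, hHR, (eq_of_le_of_card_ge hRR' hcard).symm, hgR⟩

/-- A radical `p`-subgroup is the intersection of the Sylow `p`-subgroups containing it. -/
theorem sInf_sylow_le_radical [Fact p.Prime] [Finite G] {R : Subgroup G}
    (hR : Op p (normalizer (R : Set G)) = R) :
    sInf {K : Subgroup G | ∃ Q : Sylow p G, R ≤ (Q : Subgroup G) ∧ K = (Q : Subgroup G)} ≤ R := by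
  have hRp : IsPGroup p R := by rw [← hR]; exact Op_isPGroup p _
  set D := sInf {K : Subgroup G | ∃ Q : Sylow p G, R ≤ (Q : Subgroup G) ∧ K = (Q : Subgroup G)}
    with hD
  obtain ⟨Q₀, hQ₀⟩ := hRp.exists_le_sylow
  have hDQ₀ : D ≤ Q₀ := sInf_le ⟨Q₀, hQ₀, rfl⟩
  have hDp : IsPGroup p D := Q₀.2.to_le hDQ₀
  have hRD : R ≤ D := by
    apply le_sInf
    rintro K ⟨Q, hQ, rfl⟩
    exact hQ
  set N := normalizer (R : Set G) with hN
  have hND : N ≤ normalizer (D : Set G) := by
    rw [le_normalizer_iff]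
    intro n hn x hx
    rw [hD, mem_sInf]
    rintro K ⟨Q, hQ, rfl⟩
    have hRQ' : R ≤ ((n⁻¹ • Q : Sylow p G) : Subgroup G) := by
      intro r hr
      rw [Sylow.coe_subgroup_smul, mem_pointwise_smul_iff_inv_smul_mem, map_inv, inv_inv,
        MulAut.smul_def, MulAut.conj_apply]
      exact hQ ((mem_normalizer_iff.1 hn r).1 hr)
    have hx' : x ∈ ((n⁻¹ • Q : Sylow p G) : Subgroup G) := by
      have : D ≤ ((n⁻¹ • Q : Sylow p G) : Subgroup G) := sInf_le ⟨n⁻¹ • Q, hRQ', rfl⟩
      exact this hx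
    rw [Sylow.coe_subgroup_smul, mem_pointwise_smul_iff_inv_smul_mem, map_inv, inv_inv,
      MulAut.smul_def, MulAut.conj_apply] at hx'
    exact hx'
  have hDN : D ⊓ N ≤ R := by
    have h1 : N ≤ normalizer ((D ⊓ N : Subgroup G) : Set G) :=
      (le_inf hND le_normalizer).trans inf_normalizer_le_normalizer_inf
    have h2 := le_Op (p := p) inf_le_right h1 (hDp.to_le inf_le_left)
    rw [hR] at h2
    exact h2
  -- normalizers grow in the `p`-group `D`
  by_contra hDR
  have hfin : Finite D := inferInstance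
  have hnil : Group.IsNilpotent D := hDp.isNilpotent
  have hnc : NormalizerCondition D := Group.normalizerCondition_of_isNilpotent
  have hne : R.subgroupOf D ≠ ⊤ := by
    intro h
    exact hDR (subgroupOf_eq_top.1 h)
  have hlt := hnc (R.subgroupOf D) (lt_top_iff_ne_top.2 hne)
  obtain ⟨y, hy1, hy2⟩ := SetLike.exists_of_lt hlt
  apply hy2
  rw [← subgroupOf_normalizer_eq hRD, mem_subgroupOf] at hy1
  rw [mem_subgroupOf]
  exact hDN ⟨y.2, hy1⟩

end Cfsg.Agent.Helper68
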