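import Mathlib
import Cfsg.Prelude.Def_Solvable
import Cfsg.Agent.Helper68.PiElt
import Cfsg.Agent.Helper68.Frobenius
import Cfsg.Agent.Helper68.Subn

set_option autoImplicit false

namespace Cfsg.Agent.Helper68

open Subgroup

/-- a normal Sylow subgroup contains all `p`-elements -/
theorem mem_sylow_of_normal (p : ℕ) [Fact p.Prime] {C : Type*} [Group C] [Finite C]
    (P : Sylow p C) (hP : (P : Subgroup C).Normal) (y : C) (hy : IsPEl p y) :
    y ∈ (P : Subgroup C) := by
  obtain ⟨k, hk⟩ := hy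
  have hpy : IsPGroup p (zpowers y) := IsPGroup.of_card (n := k) (by rw [Nat.card_zpowers, hk])
  obtain ⟨Q, hQ⟩ := hpy.exists_le_sylow
  obtain ⟨t, ht⟩ := MulAction.exists_smul_eq C P Q
  rw [Sylow.smul_eq_of_normal] at ht
  rw [ht]; exact hQ (mem_zpowers y)

/-- the `p`-elements of a nilpotent normal subgroup lie in a normal `p`-subgroup -/
theorem exists_normal_pgroup_of_nilpotent (p : ℕ) [Fact p.Prime] {G : Type*} [Group G] [Finite G]
    (K : Subgroup G) [hKn : K.Normal] (hK : Group.IsNilpotent K) :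
    ∃ P : Subgroup G, P.Normal ∧ IsPGroup p P ∧ P ≤ K ∧ ∀ x ∈ K, IsPEl p x → x ∈ P := by
  obtain ⟨Sy⟩ : Nonempty (Sylow p K) := inferInstance
  have htfae : Group.IsNilpotent K → ∀ (q : ℕ), Fact (Nat.Prime q) → ∀ (Q : Sylow q K),
      (Q : Subgroup K).Normal := ((Group.isNilpotent_of_finite_tfae (G := K)).out 0 3).1
  have hSn : (Sy : Subgroup K).Normal := htfae hK p inferInstance Sy
  have hSc : (Sy : Subgroup K).Characteristic := Sy.characteristic_of_normal hSn
  refine ⟨(Sy : Subgroup K).map K.subtype, ConjAct.normal_of_characteristic_of_normal,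
    Sy.2.map K.subtype, map_subtype_le _, ?_⟩
  intro x hx hxp
  have h1 : IsPEl p (⟨x, hx⟩ : K) := by
    obtain ⟨k, hk⟩ := hxp
    exact ⟨k, by rw [Subgroup.orderOf_mk, hk]⟩
  exact ⟨⟨x, hx⟩, mem_sylow_of_normal p Sy hSn _ h1, rfl⟩

/-- an element outside a subgroup has a prime-power-order power outside it -/
theorem exists_pEl_not_mem {G : Type*} [Group G] [Finite G] (N : Subgroup G) :
    ∀ (n : ℕ) (k : G), orderOf k = n → k ∉ N →
      ∃ (p : ℕ) (_ : Fact p.Prime) (x : G), x ∈ zpowers k ∧ IsPEl p x ∧ x ∉ N := by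
  intro n
  induction n using Nat.strong_induction_on with
  | _ n ih =>
    intro k hn hk
    have hk1 : k ≠ 1 := fun h => hk (h ▸ one_mem N)
    have ho : orderOf k ≠ 1 := fun h => hk1 (orderOf_eq_one_iff.1 h)
    obtain ⟨p, hp, hpk⟩ := Nat.exists_prime_and_dvd ho
    have : Fact p.Prime := ⟨hp⟩
    obtain ⟨u, c, hu, hc, huc, hup, hpc⟩ := exists_p_decomp k (orderOf_pos k) p
    by_cases huN : u ∈ N
    · have hcN : c ∉ N := by
        intro hcN
        apply hk
        rw [← huc]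
        exact mul_mem huN hcN
      have hdvd : orderOf c ∣ orderOf k := orderOf_dvd_of_mem_zpowers hc
      have hlt : orderOf c < n := by
        rw [← hn]
        apply lt_of_le_of_ne (Nat.le_of_dvd (orderOf_pos k) hdvd)
        intro heq
        exact hpc (heq ▸ hpk)
      obtain ⟨q, hq, x, hx, hxq, hxN⟩ := ih _ hlt c rfl hcN
      exact ⟨q, hq, x, (zpowers_le.2 hc) hx, hxq, hxN⟩
    · exact ⟨p, ⟨hp⟩, u, hu, hup, huN⟩

/-- a subgroup all of whose `p'`-elements are trivial is a `p`-group -/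
theorem isPGroup_of_forall_pprime_eq_one (p : ℕ) [Fact p.Prime] {G : Type*} [Group G] [Finite G]
    (N : Subgroup G) (h : ∀ y ∈ N, ¬ p ∣ orderOf y → y = 1) : IsPGroup p N := by
  intro g
  obtain ⟨u, c, hu, hc, huc, hup, hpc⟩ := exists_p_decomp (g : G) (orderOf_pos _) p
  have hcN : c ∈ N := (zpowers_le.2 g.2) hc
  have hc1 : c = 1 := h c hcN hpc
  rw [hc1, mul_one] at huc
  obtain ⟨k, hk⟩ := hup
  refine ⟨k, ?_⟩
  apply Subtype.ext
  rw [Subgroup.coe_pow, ← huc, ← hk, pow_orderOf_eq_one]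
  rfl

end Cfsg.Agent.Helper68
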